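import Cfsg.Agent.Lib.HSType.CodeChecks
import Mathlib.GroupTheory.OrderOfElement

/-!
Elements behaving like the generators of (Z/4)³.L₃(2) give a homomorphism from the model.
-/

set_option autoImplicit false

namespace CfsgHSType

open CfsgAutL34.Enum
open CfsgLib.CosetEnum (fld)

attribute [local irreducible] actV lmul linv lstep

/-- Generators of a copy of the split extension. -/
structure MGens (G : Type*) [Group G] where
  /-- the first vector -/
  a1 : G
  /-- the second vector -/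
  a2 : G
  /-- the third vector -/
  a3 : G
  /-- the involution -/
  al : G
  /-- the element of order three -/
  be : G

theorem digits {A B C : ℕ} (hA : A < 4) (hB : B < 4) (hC : C < 4) :
    (A + 4 * B + 16 * C) % 4 = A ∧ (A + 4 * B + 16 * C) / 4 % 4 = B ∧ (A + 4 * B + 16 * C) / 16 % 4 = C := by
  omega

namespace MGens

variable {G : Type*} [Group G] (D : MGens G)

/-- The element of a vector. -/
def eV (v : ℕ) : G := D.a1 ^ (v % 4) * D.a2 ^ (v / 4 % 4) * D.a3 ^ (v / 16 % 4)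

/-- The element of a class. -/
def sig (l : ℕ) : G := evW [D.al, D.be] (Tab.lword.getD l [])

/-- The element of a code. -/
def toM (x : ℕ) : G := D.eV (x % 64) * D.sig (x / 64)

/-- Three commuting elements of exponent four. -/
structure VOk : Prop where
  c12 : Commute D.a1 D.a2
  c13 : Commute D.a1 D.a3
  c23 : Commute D.a2 D.a3
  p1 : D.a1 ^ 4 = 1
  p2 : D.a2 ^ 4 = 1
  p3 : D.a3 ^ 4 = 1

/-- The relations. -/
structure Ok : Prop extends D.VOk where
  al1 : D.al * D.a1 * D.al⁻¹ = D.eV (actV (lstep 0 0) 1)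
  al2 : D.al * D.a2 * D.al⁻¹ = D.eV (actV (lstep 0 0) 4)
  al3 : D.al * D.a3 * D.al⁻¹ = D.eV (actV (lstep 0 0) 16)
  be1 : D.be * D.a1 * D.be⁻¹ = D.eV (actV (lstep 0 2) 1)
  be2 : D.be * D.a2 * D.be⁻¹ = D.eV (actV (lstep 0 2) 4)
  be3 : D.be * D.a3 * D.be⁻¹ = D.eV (actV (lstep 0 2) 16)
  rels : ∀ w ∈ relsL, evW [D.al, D.be] w = 1

variable {D}

section Vec

variable (h : D.VOk)
include h

theorem pow_mod {a : G} (ha : a ^ 4 = 1) (n : ℕ) : a ^ (n % 4) = a ^ n := by
  conv_rhs => rw [← Nat.mod_add_div n 4, pow_add, pow_mul, ha, one_pow, mul_one]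

theorem eV_vadd (a b : ℕ) : D.eV (vadd a b) = D.eV a * D.eV b := by
  obtain ⟨A, hA, eA⟩ : ∃ A < 4, A = (a + b) % 4 := ⟨_, Nat.mod_lt _ (by norm_num), rfl⟩
  obtain ⟨B, hB, eB⟩ : ∃ B < 4, B = (a / 4 + b / 4) % 4 := ⟨_, Nat.mod_lt _ (by norm_num), rfl⟩
  obtain ⟨C, hC, eC⟩ : ∃ C < 4, C = (a / 16 + b / 16) % 4 := ⟨_, Nat.mod_lt _ (by norm_num), rfl⟩
  have e0 : vadd a b = A + 4 * B + 16 * C := by rw [eA, eB, eC]; rfl
  obtain ⟨d1, d2, d3⟩ := digits hA hB hC
  have e1 : vadd a b % 4 = (a + b) % 4 := by rw [e0, d1, eA]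
  have e2 : vadd a b / 4 % 4 = (a / 4 + b / 4) % 4 := by rw [e0, d2, eB]
  have e3 : vadd a b / 16 % 4 = (a / 16 + b / 16) % 4 := by rw [e0, d3, eC]
  unfold eV
  rw [e1, e2, e3, pow_mod h h.p1, pow_mod h h.p2, pow_mod h h.p3, pow_mod h h.p1 a, pow_mod h h.p2 (a / 4),
    pow_mod h h.p3 (a / 16), pow_mod h h.p1 b, pow_mod h h.p2 (b / 4), pow_mod h h.p3 (b / 16), pow_add, pow_add,
    pow_add]
  have k1 : Commute (D.a2 ^ (a / 4) * D.a3 ^ (a / 16)) (D.a1 ^ b) :=
    ((h.c12.symm.pow_pow _ _).mul_left (h.c13.symm.pow_pow _ _))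
  have k2 : Commute (D.a3 ^ (a / 16)) (D.a2 ^ (b / 4)) := h.c23.symm.pow_pow _ _
  calc D.a1 ^ a * D.a1 ^ b * (D.a2 ^ (a / 4) * D.a2 ^ (b / 4)) * (D.a3 ^ (a / 16) * D.a3 ^ (b / 16))
      = D.a1 ^ a * D.a1 ^ b * (D.a2 ^ (a / 4) * (D.a2 ^ (b / 4) * D.a3 ^ (a / 16)) * D.a3 ^ (b / 16)) := by group
    _ = D.a1 ^ a * D.a1 ^ b * (D.a2 ^ (a / 4) * (D.a3 ^ (a / 16) * D.a2 ^ (b / 4)) * D.a3 ^ (b / 16)) := by rw [k2.eq]
    _ = D.a1 ^ a * (D.a1 ^ b * (D.a2 ^ (a / 4) * D.a3 ^ (a / 16))) * D.a2 ^ (b / 4) * D.a3 ^ (b / 16) := by group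
    _ = D.a1 ^ a * ((D.a2 ^ (a / 4) * D.a3 ^ (a / 16)) * D.a1 ^ b) * D.a2 ^ (b / 4) * D.a3 ^ (b / 16) := by rw [k1.eq]
    _ = _ := by group

theorem eV_zero : D.eV 0 = 1 := by simp [eV]

theorem eV_vsmul (k v : ℕ) : D.eV (vsmul k v) = D.eV v ^ k := by
  induction k with
  | zero => simp [vsmul, eV_zero h]
  | succ k ih => rw [vsmul, eV_vadd h, ih, pow_succ]

theorem eV_one : D.eV 1 = D.a1 ∧ D.eV 4 = D.a2 ∧ D.eV 16 = D.a3 := by
  refine ⟨?_, ?_, ?_⟩ <;> simp [eV]

end Vec

variable (h : D.Ok)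
include h

theorem actV_lt' {l v : ℕ} : actV l v < 64 := by
  unfold actV
  exact Nat.mod_lt _ (by norm_num)

theorem letter_conj (x : ℕ) (hx : x < 4) (v : ℕ) (hv : v < 64) :
    letG [D.al, D.be] x * D.eV v * (letG [D.al, D.be] x)⁻¹ = D.eV (actV (lstep 0 x) v) := by
  have hgen := List.all_eq_true.mp tab_gen
  have key : ∀ g : G, ∀ i : ℕ, i < 4 → g * D.a1 * g⁻¹ = D.eV (actV (lstep 0 i) 1) →
      g * D.a2 * g⁻¹ = D.eV (actV (lstep 0 i) 4) → g * D.a3 * g⁻¹ = D.eV (actV (lstep 0 i) 16) →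
      ∀ v < 64, g * D.eV v * g⁻¹ = D.eV (actV (lstep 0 i) v) := by
    intro g i hi h1 h2 h3 v hv
    have := List.all_eq_true.mp (hgen i (List.mem_range.mpr hi)) v (List.mem_range.mpr hv)
    rw [Bool.and_eq_true] at this
    rw [Nat.eq_of_beq_eq_true this.1, eV_vadd h.toVOk, eV_vadd h.toVOk, eV_vsmul h.toVOk, eV_vsmul h.toVOk, eV_vsmul h.toVOk, ← h1, ← h2, ← h3,
      conj_pow, conj_pow, conj_pow]
    unfold eV
    rw [show v / 16 % 4 = v / 16 by omega]
    group
  have keyinv : ∀ g : G, ∀ i : ℕ, i < 4 → (∀ v < 64, g * D.eV v * g⁻¹ = D.eV (actV (lstep 0 i) v)) →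
      flipL i < 4 → ∀ v < 64, g⁻¹ * D.eV v * g⁻¹⁻¹ = D.eV (actV (lstep 0 (flipL i)) v) := by
    intro g i hi hg hfi v hv
    have h1 := List.all_eq_true.mp (hgen i (List.mem_range.mpr hi)) v (List.mem_range.mpr hv)
    rw [Bool.and_eq_true] at h1
    have hlt : actV (lstep 0 (flipL i)) v < 64 := by
      unfold actV
      exact Nat.mod_lt _ (by norm_num)
    have h2 := hg _ hlt
    rw [Nat.eq_of_beq_eq_true h1.2] at h2
    rw [← h2]
    group
  have hA := key D.al 0 (by norm_num) h.al1 h.al2 h.al3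
  have hB := key D.be 2 (by norm_num) h.be1 h.be2 h.be3
  interval_cases x
  · exact hA v hv
  · exact keyinv D.al 0 (by norm_num) hA (by decide) v hv
  · exact hB v hv
  · exact keyinv D.be 2 (by norm_num) hB (by decide) v hv

theorem actV_lt {l v : ℕ} : actV l v < 64 := by
  unfold actV
  exact Nat.mod_lt _ (by norm_num)

theorem word_conj (w : List ℕ) (hw : ∀ x ∈ w, x < 4) (v : ℕ) (hv : v < 64) :
    evW [D.al, D.be] w * D.eV v * (evW [D.al, D.be] w)⁻¹ = D.eV (actW w v) ∧ actW w v < 64 := by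
  induction w with
  | nil => simp [evW_nil, actW, hv]
  | cons x w ih =>
    obtain ⟨e, hlt⟩ := ih (fun y hy => hw y (List.mem_cons_of_mem _ hy))
    refine ⟨?_, actV_lt h⟩
    rw [evW_cons, actW, ← letter_conj h x (hw x List.mem_cons_self) _ hlt, ← e]
    group

theorem sig_conj {l v : ℕ} (hl : l < 168) (hv : v < 64) : D.sig l * D.eV v * (D.sig l)⁻¹ = D.eV (actV l v) := by
  have h1 := List.all_eq_true.mp tab_word l (List.mem_range.mpr hl)
  simp only [Bool.and_eq_true, List.all_eq_true, Nat.blt_eq] at h1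
  have h2 := List.all_eq_true.mp (List.all_eq_true.mp tab_act l (List.mem_range.mpr hl)) v (List.mem_range.mpr hv)
  rw [Bool.and_eq_true] at h2
  rw [sig, (word_conj h _ h1.1.1 v hv).1, Nat.eq_of_beq_eq_true h2.1]

theorem sig_run {d : ℕ} (hd : d < 168) (w : List ℕ) (hw : ∀ x ∈ w, x < 4) :
    lrun d w < 168 ∧ D.sig (lrun d w) = D.sig d * evW [D.al, D.be] w := by
  obtain ⟨hnf, hn, h0, htab⟩ := l3_data
  obtain ⟨f, f0, hf⟩ : ∃ f : ℕ → G, f 0 = 1 ∧ ∀ d < 168, ∀ x < 4, lstep d x < 168 ∧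
      stepP [D.al, D.be] x (f d) = f (lstep d x) := by
    refine ⟨fun d => pointOf [D.al, D.be] L3.par (1 : G) (L3.rep.get d), ?_, fun d hd x hx => ?_⟩
    · show pointOf _ _ _ (L3.rep.get 0) = 1
      rw [show L3.rep.get 0 = 0 from h0, pointOf, dif_neg (Nat.not_lt_zero _)]
    have hrow : l3T.okRow d = true := by
      have := l3_rows
      simp only [Closed.okRows, List.all_eq_true, List.mem_range] at this
      simpa using this d hd
    simp only [Closed.okRow, CfsgAutL34.Enum.force_eq, List.all_eq_true, List.mem_range] at hrow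
    have h1 := hrow x hx
    simp only [Bool.and_eq_true, Nat.blt_eq] at h1
    have htx : fld (L3.rows.get d) (32 * x + 16) 16 = lstep d x := by
      have := List.all_eq_true.mp (List.all_eq_true.mp htab d (List.mem_range.mpr hd)) x (List.mem_range.mpr hx)
      exact Nat.eq_of_beq_eq_true this
    have hok : ∀ j < l3T.cert.nf, l3T.cert.okFact j = true := by
      rw [hnf]
      refine Closed.all_of_chunks (T := l3T) (len := 1000) (by norm_num) fun k hk => ?_
      have : k < 3 := by omega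
      interval_cases k
      · exact Or.inl l3_facts0
      · exact Or.inl l3_facts1
      · exact Or.inr l3_facts2
    have hrule : ∀ r ∈ l3T.cert.rules, letG [D.al, D.be] r.1 = evW [D.al, D.be] r.2 := by
      show ∀ r ∈ L3.rules, _
      rw [l3_rules]
      exact rulesOf_ok (by simp) h.rels _
    have e := walk_sound (P := G) (base := (1 : G)) (C := l3T.cert) (by simp) (facts_sound (C := l3T.cert) (base := (1 : G)) (by simp)
      (fun x hx => by simp [l3T] at hx) hrule hok) _ _ _ _ h1.2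
    rw [evW_one] at e
    change stepP _ x _ = _ at e
    refine ⟨?_, ?_⟩
    · rw [← htx]
      have := h1.1
      rw [hn] at this
      exact this
    · show stepP _ x _ = pointOf _ _ _ (L3.rep.get (lstep d x))
      rw [← htx]
      exact e
  have hrun : ∀ w : List ℕ, (∀ x ∈ w, x < 4) → ∀ d < 168,
      lrun d w < 168 ∧ (f (lrun d w))⁻¹ = (f d)⁻¹ * evW [D.al, D.be] w := by
    intro w
    induction w with
    | nil => intro _ d hd; simpa [lrun, evW_nil] using hd
    | cons x w ih =>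
      intro hw d hd
      obtain ⟨hlt, e⟩ := hf d hd x (hw x List.mem_cons_self)
      obtain ⟨h2, e2⟩ := ih (fun y hy => hw y (List.mem_cons_of_mem _ hy)) _ hlt
      refine ⟨h2, ?_⟩
      rw [lrun, e2, ← e, stepP, smul_eq_mul, evW_cons]
      group
  have hsig : ∀ m < 168, (f m)⁻¹ = D.sig m := fun m hm => by
    have h1 := List.all_eq_true.mp tab_word m (List.mem_range.mpr hm)
    simp only [Bool.and_eq_true, List.all_eq_true, Nat.blt_eq] at h1
    have := (hrun _ h1.1.1 0 (by norm_num)).2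
    rwa [Nat.eq_of_beq_eq_true h1.1.2, f0, inv_one, one_mul] at this
  obtain ⟨hlt, e⟩ := hrun w hw d hd
  exact ⟨hlt, by rw [← hsig _ hlt, e, hsig d hd]⟩

theorem sig_mul {l k : ℕ} (hl : l < 168) (hk : k < 168) : D.sig (lmul l k) = D.sig l * D.sig k := by
  have h1 := List.all_eq_true.mp tab_word l (List.mem_range.mpr hl)
  have hk1 := List.all_eq_true.mp tab_word k (List.mem_range.mpr hk)
  simp only [Bool.and_eq_true, List.all_eq_true, Nat.blt_eq, List.mem_range] at h1 hk1
  rw [← Nat.eq_of_beq_eq_true (h1.2 k hk).1]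
  exact (sig_run h hl _ hk1.1.1).2

theorem sig_zero : D.sig 0 = 1 := by
  have e0 : Tab.lword.getD 0 [] = [] := tab_word0
  rw [sig, e0, evW_nil]

theorem toM_mul {x y : ℕ} (hx : x < 10752) (hy : y < 10752) : D.toM (mulM x y) = D.toM x * D.toM y := by
  have hxl : x / 64 < 168 := by omega
  have hyl : y / 64 < 168 := by omega
  have hlt : lmul (x / 64) (y / 64) < 168 := by
    have h1 := List.all_eq_true.mp tab_word _ (List.mem_range.mpr hxl)
    simp only [Bool.and_eq_true, List.all_eq_true, Nat.blt_eq, List.mem_range] at h1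
    exact (h1.2 _ hyl).2
  have ha : vadd (x % 64) (actV (x / 64) (y % 64)) < 64 := by unfold vadd; omega
  unfold toM mulM
  simp only [force_eq]
  rw [show (vadd (x % 64) (actV (x / 64) (y % 64)) + 64 * lmul (x / 64) (y / 64)) % 64 =
      vadd (x % 64) (actV (x / 64) (y % 64)) by omega,
    show (vadd (x % 64) (actV (x / 64) (y % 64)) + 64 * lmul (x / 64) (y / 64)) / 64 = lmul (x / 64) (y / 64) by omega,
    eV_vadd h.toVOk, sig_mul h hxl hyl, ← sig_conj h hxl (Nat.mod_lt _ (by norm_num))]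
  group

end MGens

theorem mulM_lt {x y : ℕ} (hx : x < 10752) (hy : y < 10752) : mulM x y < 10752 := by
  have h1 := List.all_eq_true.mp tab_word (x / 64) (List.mem_range.mpr (by omega))
  simp only [Bool.and_eq_true, List.all_eq_true, Nat.blt_eq, List.mem_range] at h1
  have := (h1.2 (y / 64) (by omega)).2
  unfold mulM
  simp only [CfsgAutL34.Enum.force_eq]
  unfold vadd
  omega

theorem invM_lt {x : ℕ} (hx : x < 10752) : invM x < 10752 := by
  have h1 := List.all_eq_true.mp tab_inv.1 (x / 64) (List.mem_range.mpr (by omega))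
  simp only [Bool.and_eq_true, Nat.blt_eq] at h1
  unfold invM
  simp only [CfsgAutL34.Enum.force_eq]
  unfold vneg
  omega

namespace MGens

variable {G : Type*} [Group G] {D : MGens G} (h : D.Ok)
include h

theorem toM_zero : D.toM 0 = 1 := by
  simp [toM, eV_zero h.toVOk, sig_zero h]

theorem toM_invM {x : ℕ} (hx : x < 10752) : D.toM (invM x) = (D.toM x)⁻¹ := by
  refine eq_inv_of_mul_eq_one_left ?_
  rw [← toM_mul h (invM_lt hx) hx, ← toM_zero h]
  congr 1
  have hl : x / 64 < 168 := by omega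
  have h1 := List.all_eq_true.mp tab_inv.1 (x / 64) (List.mem_range.mpr hl)
  simp only [Bool.and_eq_true, Nat.blt_eq] at h1
  have hv := List.all_eq_true.mp vec_ops (actV (linv (x / 64)) (x % 64)) (List.mem_range.mpr (actV_lt h))
  simp only [Bool.and_eq_true, Nat.blt_eq] at hv
  unfold mulM invM
  simp only [force_eq]
  rw [show (vneg (actV (linv (x / 64)) (x % 64)) + 64 * linv (x / 64)) / 64 = linv (x / 64) by omega,
    show (vneg (actV (linv (x / 64)) (x % 64)) + 64 * linv (x / 64)) % 64 = vneg (actV (linv (x / 64)) (x % 64)) by omega,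
    Nat.eq_of_beq_eq_true h1.1.2]
  have := Nat.eq_of_beq_eq_true hv.1.1.2
  unfold vadd at this ⊢
  omega

theorem toM_cjM {g x : ℕ} (hg : g < 10752) (hx : x < 10752) : D.toM (cjM g x) = D.toM g * D.toM x * (D.toM g)⁻¹ := by
  rw [cjM, toM_mul h (mulM_lt hg hx) (invM_lt hg), toM_mul h hg hx, toM_invM h hg]

theorem toM_evM (w : List ℕ) (hw : ∀ x ∈ w, x < 6) :
    evM w < 10752 ∧ D.toM (evM w) = evW [D.a1, D.al, D.be] w := by
  have e1 : D.toM 1 = D.a1 := by
    have e0 : Tab.lword.getD 0 [] = [] := tab_word0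
    simp [toM, sig_zero h, (eV_one h.toVOk).1]
  have hlet : ∀ x < 6, mlet x < 10752 ∧ D.toM (mlet x) = letG [D.a1, D.al, D.be] x := by
    intro x hx
    rcases Nat.lt_or_ge x 2 with hx2 | hx2
    · interval_cases x
      · exact ⟨by decide, e1⟩
      · refine ⟨by decide, ?_⟩
        show D.toM (mlet 1) = D.a1⁻¹
        have e3 : mlet 1 = invM 1 := tab_let
        rw [e3, toM_invM h (by norm_num), e1]
    · have hx4 : x - 2 < 4 := by omega
      obtain ⟨hlt, e⟩ := sig_run h (d := 0) (by norm_num) [x - 2] (by simpa using hx4)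
      simp only [lrun] at hlt e
      have em : mlet x = 64 * lstep 0 (x - 2) := by unfold mlet; rw [if_neg (by omega), if_neg (by omega)]
      refine ⟨by omega, ?_⟩
      rw [em]
      unfold toM
      rw [show 64 * lstep 0 (x - 2) % 64 = 0 by omega, show 64 * lstep 0 (x - 2) / 64 = lstep 0 (x - 2) by omega,
        eV_zero h.toVOk, e, sig_zero h, one_mul, one_mul, evW_one]
      interval_cases x <;> simp [letG]
  induction w using List.reverseRecOn with
  | nil => exact ⟨by decide, by rw [show evM [] = 0 from rfl, toM_zero h, evW_nil]⟩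
  | append_singleton w x ih =>
    obtain ⟨hlt, e⟩ := ih (fun y hy => hw y (List.mem_append_left _ hy))
    obtain ⟨hl, el⟩ := hlet x (hw x (by simp))
    have : evM (w ++ [x]) = mulM (evM w) (mlet x) := by simp [evM, List.foldl_append]
    exact ⟨this ▸ mulM_lt hlt hl, by rw [this, toM_mul h hlt hl, e, el, evW_append, evW_one]⟩

end MGens

end CfsgHSType
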