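import Cfsg.Agent.Lib.HSType.ModelChecks
import Cfsg.Agent.Lib.HSType.FusData

/-!
The classes of involutions in the permutation group and the second centraliser: checks.
-/

set_option autoImplicit false
set_option maxRecDepth 100000
set_option maxHeartbeats 4000000
set_option Elab.async false

namespace CfsgHSType

open CfsgPC (apW ap apN cp Level)
open CfsgLeech.Models (hsChain)
open CfsgAutL34.Enum (winv)
open CfsgLib.CosetEnum (force)

/-- A level. -/
def lev (j : ℕ) : Level := hsChain.getD j ⟨0, [], [], []⟩

/-- Three transversal entries at a point. -/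
def p3 (a b c i : ℕ) : ℕ := ap ((lev 0).tc a) (ap ((lev 1).tc b) (ap ((lev 2).tc c) i))

/-- Their inverse. -/
def q3 (a b c i : ℕ) : ℕ := ap ((lev 2).ti c) (ap ((lev 1).ti b) (ap ((lev 0).ti a) i))

/-- The second entry is forced. -/
def kOne (a : ℕ) : ℕ := (lev 1).pos.getD (ap ((lev 0).ti a) (ap uC ((lev 0).pt a))) 0

/-- Three codes after a fourth commute with the second involution. -/
def commU (A B C e : ℕ) : Bool :=
  (List.range 100).all fun i => Nat.beq (ap A (ap B (ap C (ap e (ap uC i))))) (ap uC (ap A (ap B (ap C (ap e i)))))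

/-- The survivors above three entries. -/
noncomputable def survAt (a b c : ℕ) : List (ℕ × ℕ × ℕ × ℕ) :=
  force ((lev 0).tc a) fun A => force ((lev 1).tc b) fun B => force ((lev 2).tc c) fun C =>
    force (q3 a b c (ap uC (ap A (ap B (ap C 45))))) fun z => tailE.filterMap fun p =>
      if Nat.beq p.1 z && commU A B C p.2 then some (A, B, C, p.2) else none

/-- The survivors above one entry. -/
noncomputable def survA (a : ℕ) : List (ℕ × ℕ × ℕ × ℕ) :=
  force (kOne a) fun b => if Nat.blt b 77 then (List.range 60).flatMap fun c => survAt a b c else []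

/-- The image of a point under four codes. -/
def tupAp (s : ℕ × ℕ × ℕ × ℕ) (i : ℕ) : ℕ := ap s.1 (ap s.2.1 (ap s.2.2.1 (ap s.2.2.2 i)))

/-- A power of four codes at a point. -/
def tupN (s : ℕ × ℕ × ℕ × ℕ) : ℕ → ℕ → ℕ
  | 0, i => i
  | k + 1, i => tupAp s (tupN s k i)

/-- A power of four codes is trivial. -/
def tupOne (s : ℕ × ℕ × ℕ × ℕ) (k : ℕ) : Bool := (List.range 100).all fun i => Nat.beq (tupN s k i) i

/-- An involution with a fixed point. -/
def tupT (s : ℕ × ℕ × ℕ × ℕ) : Bool :=
  tupOne s 2 && !tupOne s 1 && (List.range 100).any fun i => Nat.beq (tupAp s i) i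

/-- No element of order fifteen. -/
def tupNot15 (s : ℕ × ℕ × ℕ × ℕ) : Bool := tupOne s 3 || tupOne s 5 || !tupOne s 15

/-- The numbers of survivors and of first class survivors in a range. -/
noncomputable def centStats (lo m : ℕ) : ℕ × ℕ × Bool :=
  (((List.range m).flatMap fun i => survA (lo + i))).foldl
    (fun r s => (r.1 + 1, (bif tupT s then r.2.1 + 1 else r.2.1), r.2.2 && tupNot15 s)) (0, 0, true)

theorem fus_shape : hsChain.length = 5 ∧ (hsChain.map fun L => L.tr.length) = [100, 77, 60, 32, 3] ∧
    (hsChain.map fun L => L.base) = [64, 53, 45, 11, 82] ∧ tailE.length = 96 ∧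
    ((List.range 32).all fun a => (List.range 3).all fun b => (List.range 100).all fun i =>
      Nat.beq (ap (tailE.getD (3 * a + b) (0, 0)).2 i) (ap ((lev 3).tc a) (ap ((lev 4).tc b) i))) = true ∧
    ((List.range 96).all fun j => Nat.beq (tailE.getD j (0, 0)).1 (ap (tailE.getD j (0, 0)).2 (ap uC 45))) = true := by
  decide +kernel

theorem fus_u : (uW.all fun k => Nat.blt k 8) = true ∧
    ((List.range 100).all fun i => Nat.beq (apW imgCodes uW i) (ap uC i)) = true ∧ ap uC 64 = 53 ∧
    ((List.range 100).all fun i => Nat.beq (ap uC (ap uC i)) i && !Nat.beq (ap uC i) i) = true := by decide +kernel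

theorem fus_fix : (tFix.all fun p => Nat.blt p.1 10752 && (p.2.all fun k => Nat.blt k 8) &&
      permEq (p.2 ++ wOf p.1 ++ winv p.2) (wOf tC)) = true ∧
    (uFix.all fun p => Nat.blt p.1 10752 && (p.2.all fun k => Nat.blt k 8) &&
      permEq (p.2 ++ wOf p.1 ++ winv p.2) uW) = true := by decide +kernel

theorem fus_invol : ((List.range 10752).all fun x => !Nat.beq (mulM x tC) (mulM tC x) || Nat.beq x 0 ||
    force (mulM x x) fun y => if Nat.beq y 0 then (tFix.map Prod.fst ++ uFix.map Prod.fst).contains x
      else !Nat.beq (mulM y y) 0 || (tFix.map Prod.fst).contains y) = true := by decide +kernel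

theorem fus_eight : ((uFix.map Prod.fst).all fun a => (uFix.map Prod.fst).all fun b => force (mulM a b) fun ab =>
    !((uFix.map Prod.fst).contains ab && Nat.beq ab (mulM b a)) || (uFix.map Prod.fst).all fun c =>
      Nat.beq c a || Nat.beq c b || Nat.beq c ab || !Nat.beq (mulM a c) (mulM c a) || !Nat.beq (mulM b c) (mulM c b) ||
        !((uFix.map Prod.fst).contains (mulM a c) && (uFix.map Prod.fst).contains (mulM b c) &&
          (uFix.map Prod.fst).contains (mulM ab c))) = true := by decide +kernel

end CfsgHSType
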