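import Mathlib

/-!
A subgroup containing one involution centraliser, and of the shape of the Higman-Sims group, is the whole group.
-/

set_option autoImplicit false

namespace CfsgHSType

section Order

variable {D : Type*} [Group D] [Finite D]

open scoped Pointwise
open Equiv

/-- A group of order ninety or one hundred and eighty has an element of order fifteen. -/
theorem exists_fifteen (h : Nat.card D = 90 ∨ Nat.card D = 180) : ∃ g : D, orderOf g = 15 := by
  classical
  haveI : Fact (Nat.Prime 5) := ⟨by norm_num⟩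
  haveI : Fact (Nat.Prime 3) := ⟨by norm_num⟩
  obtain ⟨P⟩ : Nonempty (Sylow 5 D) := inferInstance
  have hP : Nat.card (P : Subgroup D) = 5 := by
    rw [P.card_eq_multiplicity]
    rcases h with h | h <;> rw [h]
    · rw [show Nat.factorization 90 5 = 1 by
        rw [show (90 : ℕ) = 18 * 5 ^ 1 by norm_num, Nat.factorization_mul (by norm_num) (by norm_num)]
        simp [Nat.factorization_eq_zero_of_not_dvd, (show Nat.Prime 5 by norm_num).factorization_self]]
      norm_num
    · rw [show Nat.factorization 180 5 = 1 by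
        rw [show (180 : ℕ) = 36 * 5 ^ 1 by norm_num, Nat.factorization_mul (by norm_num) (by norm_num)]
        simp [Nat.factorization_eq_zero_of_not_dvd, (show Nat.Prime 5 by norm_num).factorization_self]]
      norm_num
  haveI : IsCyclic (P : Subgroup D) := isCyclic_of_prime_card hP
  -- an element of order three commuting with one of order five is enough
  suffices hs : ∃ x y : D, orderOf x = 3 ∧ orderOf y = 5 ∧ Commute x y by
    obtain ⟨x, y, hx, hy, hc⟩ := hs
    exact ⟨x * y, by rw [hc.orderOf_mul_eq_mul_orderOf_of_coprime (by rw [hx, hy]; norm_num), hx, hy]⟩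
  obtain ⟨y, hy⟩ := IsCyclic.exists_ofOrder_eq_natCard (α := (P : Subgroup D))
  have hy5 : orderOf (y : D) = 5 := by rw [Subgroup.orderOf_coe, hy, hP]
  by_cases h3 : 3 ∣ Nat.card (Subgroup.normalizer ((P : Subgroup D) : Set D))
  · obtain ⟨⟨x, hxn⟩, hx⟩ := exists_prime_orderOf_dvd_card' 3 h3
    rw [← Subgroup.orderOf_coe] at hx
    refine ⟨x, y, hx, hy5, ?_⟩
    have hz : Subgroup.zpowers (y : D) = (P : Subgroup D) :=
      Subgroup.eq_of_le_of_card_ge (Subgroup.zpowers_le.2 y.2) (by rw [Nat.card_zpowers, hy5, hP])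
    have hm : x * y * x⁻¹ ∈ Subgroup.zpowers (y : D) := by
      rw [hz]; exact (Subgroup.mem_normalizer_iff.1 hxn _).1 y.2
    obtain ⟨k, hk⟩ := (Submonoid.mem_powers_iff _ _).1 (mem_powers_iff_mem_zpowers.2 hm)
    have hit : ∀ n, x ^ n * (y : D) * (x ^ n)⁻¹ = (y : D) ^ k ^ n := by
      intro n
      induction n with
      | zero => simp
      | succ n ih =>
        rw [pow_succ', show x * x ^ n * (y : D) * (x * x ^ n)⁻¹ = x * (x ^ n * (y : D) * (x ^ n)⁻¹) * x⁻¹ by group,
          ih, ← conj_pow, ← hk, ← pow_mul, pow_succ' k n]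
    have h1 := hit 3
    rw [show x ^ 3 = 1 from hx ▸ pow_orderOf_eq_one x, one_mul, inv_one, mul_one] at h1
    have h2 : k ^ 3 % 5 = 1 % 5 := by
      have := pow_eq_pow_iff_modEq.1 (h1.symm.trans (pow_one (y : D)).symm)
      rwa [hy5] at this
    have hk5 : k % 5 = 1 := by
      rw [Nat.pow_mod] at h2
      have := Nat.mod_lt k (show 5 > 0 by norm_num)
      interval_cases hh : k % 5 <;> simp at h2 ⊢
    have : x * (y : D) * x⁻¹ = y := by rw [← hk, ← pow_mod_orderOf, hy5, hk5, pow_one]
    exact mul_inv_eq_iff_eq_mul.1 this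
  -- a normal complement
  obtain ⟨N, hN⟩ : ∃ N, N = Subgroup.normalizer ((P : Subgroup D) : Set D) := ⟨_, rfl⟩
  rw [← hN] at h3
  have hNP : N = (P : Subgroup D) := by
    refine (Subgroup.eq_of_le_of_card_ge (hN ▸ Subgroup.le_normalizer) ?_).symm
    have hmod := card_sylow_modEq_one 5 D
    rw [P.card_eq_index_normalizer] at hmod
    rw [show Subgroup.normalizer (P : Set D) = N from hN.symm] at hmod
    have hm := N.card_mul_index
    refine le_of_le_of_eq ?_ hP.symm
    rcases h with h | h <;> rw [h] at hm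
    · have hd : Nat.card N ∈ Nat.divisors 90 := Nat.mem_divisors.2 ⟨⟨_, hm.symm⟩, by norm_num⟩
      generalize Nat.card N = a at hd hm h3
      have : a ∈ ({1, 2, 3, 5, 6, 9, 10, 15, 18, 30, 45, 90} : Finset ℕ) := by
        convert hd using 2; decide +kernel
      simp only [Finset.mem_insert, Finset.mem_singleton] at this
      rcases this with rfl | rfl | rfl | rfl | rfl | rfl | rfl | rfl | rfl | rfl | rfl | rfl <;>
        first | omega | (unfold Nat.ModEq at hmod; omega)
    · have hd : Nat.card N ∈ Nat.divisors 180 := Nat.mem_divisors.2 ⟨⟨_, hm.symm⟩, by norm_num⟩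
      generalize Nat.card N = a at hd hm h3
      have : a ∈ ({1, 2, 3, 4, 5, 6, 9, 10, 12, 15, 18, 20, 30, 36, 45, 60, 90, 180} : Finset ℕ) := by
        convert hd using 2; decide +kernel
      simp only [Finset.mem_insert, Finset.mem_singleton] at this
      rcases this with rfl | rfl | rfl | rfl | rfl | rfl | rfl | rfl | rfl | rfl | rfl | rfl | rfl | rfl | rfl | rfl | rfl | rfl <;>
        first | omega | (unfold Nat.ModEq at hmod; omega)
  have hc : Subgroup.normalizer ((P : Subgroup D) : Set D) ≤ Subgroup.centralizer ((P : Subgroup D) : Set D) := by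
    rw [← hN, hNP]
    haveI : IsMulCommutative (P : Subgroup D) := ⟨⟨fun a b => IsCyclic.commGroup.mul_comm a b⟩⟩
    exact Subgroup.le_centralizer _
  obtain ⟨K, hK⟩ : ∃ K, K = (MonoidHom.transferSylow P hc).ker := ⟨_, rfl⟩
  haveI : K.Normal := hK ▸ MonoidHom.normal_ker _
  have hKc : Nat.card K * 5 = Nat.card D := by
    rw [← hP, hK]; exact (MonoidHom.ker_transferSylow_isComplement' P hc).card_mul
  obtain ⟨R⟩ : Nonempty (Sylow 3 K) := inferInstance
  obtain ⟨R', hR'⟩ : ∃ R', R' = (R : Subgroup K).map K.subtype := ⟨_, rfl⟩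
  have htop := Sylow.normalizer_sup_eq_top R
  rw [← hR'] at htop
  have h5 : 5 ∣ Nat.card (Subgroup.normalizer (R' : Set D)) := by
    have h1 : Nat.card (Subgroup.normalizer (R' : Set D)) * Nat.card K ≥ Nat.card D ∧ True := ⟨by
      rw [← Nat.card_prod]
      refine Nat.card_le_card_of_surjective (fun p => (p.1 : D) * (p.2 : D)) fun g => ?_
      have hg : g ∈ (↑(Subgroup.normalizer (R' : Set D)) : Set D) * (K : Set D) := by
        rw [← Subgroup.mul_normal, htop]; trivial
      obtain ⟨a, ha, b, hb, rfl⟩ := hg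
      exact ⟨(⟨a, ha⟩, ⟨b, hb⟩), rfl⟩, trivial⟩
    by_contra h5
    have hdvd : Nat.card (Subgroup.normalizer (R' : Set D)) ∣ Nat.card K * 5 :=
      hKc.symm ▸ Subgroup.card_subgroup_dvd_card _
    have h2 : Nat.card (Subgroup.normalizer (R' : Set D)) ∣ Nat.card K :=
      (Nat.Coprime.dvd_of_dvd_mul_right ((Nat.Prime.coprime_iff_not_dvd (by norm_num)).2 h5).symm hdvd)
    have hNK : Subgroup.normalizer (R' : Set D) ≤ K := by
      intro g hg
      rw [hK, MonoidHom.mem_ker]
      refine orderOf_eq_one_iff.1 (Nat.dvd_one.1 ?_)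
      have d1 : orderOf (MonoidHom.transferSylow P hc g) ∣ Nat.card K := (orderOf_map_dvd _ g).trans
        ((Subgroup.orderOf_dvd_natCard _ hg).trans h2)
      have d2 : orderOf (MonoidHom.transferSylow P hc g) ∣ 5 :=
        (orderOf_dvd_natCard _).trans (dvd_of_eq hP)
      have hco : Nat.Coprime (Nat.card K) 5 := by
        rcases h with h | h <;> (rw [h] at hKc; rw [show Nat.card K = _ from (Nat.eq_div_of_mul_eq_left (by norm_num) hKc)]; norm_num)
      have h1 := Nat.dvd_gcd d1 d2
      rwa [hco] at h1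
    rw [sup_eq_right.2 hNK] at htop
    have : Nat.card K = Nat.card D := by rw [htop]; exact Nat.card_congr Subgroup.topEquiv.toEquiv
    omega
  obtain ⟨⟨z, hzn⟩, hz⟩ := exists_prime_orderOf_dvd_card' 5 h5
  rw [← Subgroup.orderOf_coe] at hz
  have hRc : Nat.card R' = 9 := by
    rw [hR', ← Nat.card_congr (Subgroup.equivMapOfInjective _ _ K.subtype_injective).toEquiv, R.card_eq_multiplicity]
    rcases h with h | h <;> rw [h] at hKc
    · rw [show Nat.card K = 2 * 3 ^ 2 by omega, Nat.factorization_mul (by norm_num) (by norm_num)]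
      simp [Nat.factorization_eq_zero_of_not_dvd, show (Nat.factorization 9) 3 = 2 by
        rw [show 9 = 3 ^ 2 by norm_num, (show Nat.Prime 3 by norm_num).factorization_pow]; simp]
    · rw [show Nat.card K = 4 * 3 ^ 2 by omega, Nat.factorization_mul (by norm_num) (by norm_num)]
      simp [Nat.factorization_eq_zero_of_not_dvd, show (Nat.factorization 9) 3 = 2 by
        rw [show 9 = 3 ^ 2 by norm_num, (show Nat.Prime 3 by norm_num).factorization_pow]; simp]
  -- a fixed point of the element of order five on the nine elements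
  have hper : ∀ g : D, z ^ 5 * g * (z ^ 5)⁻¹ = g := fun g => by
    rw [show z ^ 5 = 1 from hz ▸ pow_orderOf_eq_one z]; group
  let φ : ↥(Subgroup.zpowers z) →* Perm R' :=
    (MulAut.toPerm R').comp ((Subgroup.normalizerMonoidHom R').comp (Subgroup.inclusion (Subgroup.zpowers_le.2 hzn)))
  letI : MulAction ↥(Subgroup.zpowers z) R' := MulAction.compHom R' φ
  have hpg : IsPGroup 5 ↥(Subgroup.zpowers z) := IsPGroup.of_card (n := 1) (by rw [Nat.card_zpowers, hz]; norm_num)
  have hfix := hpg.card_modEq_card_fixedPoints R'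
  rw [hRc] at hfix
  obtain ⟨r, hr, hr1⟩ : ∃ r ∈ MulAction.fixedPoints ↥(Subgroup.zpowers z) R', r ≠ 1 := by
    by_contra hcon
    push Not at hcon
    have : Nat.card (MulAction.fixedPoints ↥(Subgroup.zpowers z) R') ≤ 1 :=
      Finite.card_le_one_iff_subsingleton.2 ⟨fun a b => Subtype.ext ((hcon _ a.2).trans (hcon _ b.2).symm)⟩
    unfold Nat.ModEq at hfix
    omega
  have hrz : Commute (r : D) z := by
    have h1 := congrArg Subtype.val (hr ⟨z, Subgroup.mem_zpowers z⟩)
    change z * (r : D) * z⁻¹ = r at h1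
    exact (mul_inv_eq_iff_eq_mul.1 h1).symm
  have hor : orderOf (r : D) ∣ 9 := by rw [Subgroup.orderOf_coe, ← hRc]; exact orderOf_dvd_natCard _
  have hr1' : orderOf (r : D) ≠ 1 := by
    rw [Ne, orderOf_eq_one_iff, OneMemClass.coe_eq_one]; exact hr1
  have hd : orderOf (r : D) ∈ Nat.divisors 9 := Nat.mem_divisors.2 ⟨hor, by norm_num⟩
  rw [show Nat.divisors 9 = {1, 3, 9} by decide] at hd
  simp only [Finset.mem_insert, Finset.mem_singleton] at hd
  rcases hd with hd | hd | hd
  · exact absurd hd hr1'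
  · exact ⟨r, z, hd, hz, hrz⟩
  · refine ⟨(r : D) ^ 3, z, ?_, hz, hrz.pow_left 3⟩
    rw [orderOf_pow' _ (by norm_num), hd]; norm_num

end Order

variable {Q G : Type*} [Group Q] [Group G] [Finite Q] [Finite G]

theorem range_eq_top (f : Q →* G) (hf : Function.Injective f) {T U : Q} {t : G} (hT : f T = t)
    (hcentT : Subgroup.centralizer ({t} : Set G) ≤ f.range) (hcardT : Nat.card (Subgroup.centralizer ({t} : Set G)) = 7680)
    (ht : t * t = 1)
    (hUU : U * U = 1) (hU1 : U ≠ 1) (htne : t ≠ 1)
    (hA : ∀ q : Q, q * q = 1 → q ≠ 1 → IsConj T q ∨ IsConj U q)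
    (hU : Nat.card (Subgroup.centralizer ({U} : Set Q)) = 2880)
    (hk : 75 ≤ Nat.card {q : Q // Commute q U ∧ IsConj T q})
    (h15 : ∀ q : Q, Commute q U → orderOf q ≠ 15)
    (h8 : ∀ S : Subgroup Q, Nat.card S = 8 → ∃ q ∈ S, IsConj T q) : f.range = ⊤ := by
  classical
  -- the two classes stay apart
  have hapart : ∀ g : G, g * t * g⁻¹ ≠ f U := by
    intro g e
    have e1 : Nat.card (Subgroup.centralizer ({f U} : Set G)) = 7680 := by
      rw [← e, ← hcardT]
      refine Nat.card_congr ((MulAut.conj g).toEquiv.subtypeEquiv fun x => ?_).symm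
      simp only [Subgroup.mem_centralizer_singleton_iff]
      exact (MulAut.conj g).map_mul x t ▸ (MulAut.conj g).map_mul t x ▸ ⟨fun h => by simpa using congrArg (MulAut.conj g) h,
        fun h => (MulAut.conj g).injective (by simpa using h)⟩
    have hle : (Subgroup.centralizer ({U} : Set Q)).map f ≤ Subgroup.centralizer ({f U} : Set G) := by
      rintro _ ⟨q, hq, rfl⟩
      rw [Subgroup.mem_centralizer_singleton_iff, ← map_mul, ← map_mul, Subgroup.mem_centralizer_singleton_iff.1 hq]
    have := Subgroup.card_dvd_of_le hle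
    rw [Nat.card_congr (Subgroup.equivMapOfInjective _ f hf).symm.toEquiv, hU, e1] at this
    omega
  -- conjugates of the involution inside come from inside
  have hself : ∀ x : G, x * t * x⁻¹ ∈ f.range → x ∈ f.range := by
    rintro x ⟨q, hq⟩
    have hqq : q * q = 1 := hf (by rw [map_mul, hq, map_one, show x * t * x⁻¹ * (x * t * x⁻¹) = x * (t * t) * x⁻¹ by group, ht]; group)
    have hq1 : q ≠ 1 := by
      rintro rfl
      rw [map_one] at hq
      exact htne (conj_eq_one_iff.1 hq.symm)
    rcases hA q hqq hq1 with h | h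
    · obtain ⟨c, hc⟩ := isConj_iff.1 h
      have : (f c)⁻¹ * x ∈ Subgroup.centralizer ({t} : Set G) := by
        rw [Subgroup.mem_centralizer_singleton_iff]
        have e : f c * t * (f c)⁻¹ = x * t * x⁻¹ := by rw [← hq, ← hc, map_mul, map_mul, map_inv, hT]
        have e2 := congrArg (fun z => (f c)⁻¹ * z * x) e
        simp only [mul_assoc, inv_mul_cancel_left, inv_mul_cancel, mul_one] at e2 ⊢
        exact e2.symm
      have hm := mul_mem (MonoidHom.mem_range.2 ⟨c, rfl⟩ : f c ∈ f.range) (hcentT this)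
      rwa [mul_inv_cancel_left] at hm
    · obtain ⟨c, hc⟩ := isConj_iff.1 h
      refine absurd ?_ (hapart ((f c)⁻¹ * x))
      have e : f c * f U * (f c)⁻¹ = x * t * x⁻¹ := by rw [← hq, ← hc, map_mul, map_mul, map_inv]
      calc (f c)⁻¹ * x * t * ((f c)⁻¹ * x)⁻¹ = (f c)⁻¹ * (x * t * x⁻¹) * f c := by group
        _ = f U := by rw [← e]; group
  -- the centraliser of the second involution
  have hcentU : Subgroup.centralizer ({f U} : Set G) ≤ f.range := by
    set X := Subgroup.centralizer ({f U} : Set G) with hX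
    by_contra hne
    let X0 : Subgroup X := f.range.comap X.subtype
    haveI : Fintype (X ⧸ X0) := Fintype.ofFinite _
    let S0 := {q : Q // Commute q U ∧ IsConj T q}
    haveI : Fintype S0 := Fintype.ofFinite _
    have hcomm : ∀ q : Q, Commute q U → f q ∈ X := fun q hq => by
      rw [hX, Subgroup.mem_centralizer_singleton_iff, ← map_mul, ← map_mul, hq.eq]
    let e : S0 → X := fun s => ⟨f s.1, hcomm _ s.2.1⟩
    have he : ∀ s : S0, ∀ v : X, (v : G)⁻¹ * f s.1 * v ∈ f.range → v ∈ X0 := by
      intro s v hv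
      show (v : G) ∈ f.range
      obtain ⟨c, hc⟩ := isConj_iff.1 s.2.2
      have : ((v : G)⁻¹ * f c) * t * ((v : G)⁻¹ * f c)⁻¹ ∈ f.range := by
        convert hv using 1
        rw [← hc, ← hT]
        simp only [map_mul, map_inv]
        group
      have := hself _ this
      have h2 := mul_mem this (inv_mem (MonoidHom.mem_range.2 ⟨c, rfl⟩ : f c ∈ f.range))
      rw [mul_inv_cancel_right] at h2
      simpa using inv_mem h2
    let τ : X ⧸ X0 → S0 → X := fun c s => c.out * e s * c.out⁻¹
    have hτfix : ∀ c c' s, τ c s • c' = c' → c' = c := by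
      intro c c' s h
      obtain ⟨v, rfl⟩ := QuotientGroup.mk_surjective c'
      rw [MulAction.Quotient.smul_mk, QuotientGroup.eq, smul_eq_mul] at h
      have h2 : ((c.out⁻¹ * v : X) : G)⁻¹ * f s.1 * (c.out⁻¹ * v : X) ∈ f.range := by
        have := inv_mem (show ((((τ c s) * v)⁻¹ * v : X) : G) ∈ f.range from h)
        simpa [τ, e, mul_assoc] using this
      have h3 := he s _ h2
      have h4 : ((c.out : X) : X ⧸ X0) = (v : X ⧸ X0) := QuotientGroup.eq.2 h3
      rw [← h4, QuotientGroup.out_eq']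
    have hτc : ∀ c s, τ c s • c = c := by
      intro c s
      suffices hs : τ c s • ((c.out : X) : X ⧸ X0) = ((c.out : X) : X ⧸ X0) by rwa [QuotientGroup.out_eq'] at hs
      rw [MulAction.Quotient.smul_mk, QuotientGroup.eq, smul_eq_mul]
      simp only [τ]
      rw [show (c.out * e s * c.out⁻¹ * c.out)⁻¹ * c.out = (e s)⁻¹ by group]
      exact X0.inv_mem ⟨s.1, rfl⟩
    have hinv : ∀ c s, τ c s * τ c s = 1 := by
      intro c s
      obtain ⟨a, ha⟩ := isConj_iff.1 s.2.2
      have hee : e s * e s = 1 := Subtype.ext (by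
        show f s.1 * f s.1 = 1
        rw [← ha, map_mul, map_mul, map_inv, hT]
        rw [show f a * t * (f a)⁻¹ * (f a * t * (f a)⁻¹) = f a * (t * t) * (f a)⁻¹ by group, ht]
        group)
      simp only [τ]
      rw [show c.out * e s * c.out⁻¹ * (c.out * e s * c.out⁻¹) = c.out * (e s * e s) * c.out⁻¹ by group, hee]
      group
    let β := {p : (X ⧸ X0) × (X ⧸ X0) // p.1 ≠ p.2}
    let F : β × S0 → β := fun a => ⟨(a.1.1.2, τ a.1.1.1 a.2 • a.1.1.2), fun h =>
      a.1.2 (hτfix _ _ _ h.symm).symm⟩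
    obtain ⟨x, hx, hxne⟩ := SetLike.not_le_iff_exists.1 hne
    haveI : Nonempty β := ⟨⟨((1 : X), (⟨x, hx⟩ : X)), fun h => hxne (by
      simpa [QuotientGroup.eq, X0, Subgroup.mem_subgroupOf, MonoidHom.mem_range] using h)⟩⟩
    have hk' : 75 ≤ Fintype.card S0 := by rw [← Nat.card_eq_fintype_card]; exact hk
    obtain ⟨y, hy⟩ := Fintype.exists_le_card_fiber_of_mul_le_card F (n := 75) (by
      rw [Fintype.card_prod]; exact Nat.mul_le_mul_left _ hk')
    obtain ⟨⟨c1, c2⟩, hc12⟩ := y
    set St : Subgroup X := MulAction.stabilizer X c1 ⊓ MulAction.stabilizer X c2 with hSt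
    have hfib : ∀ a ∈ Finset.univ.filter (fun a => F a = ⟨(c1, c2), hc12⟩),
        τ a.1.1.1 a.2 • c1 = c2 ∧ τ a.1.1.1 a.2 • c2 = c1 ∧ a.1.1.2 = c1 := by
      intro a ha
      have h := congrArg Subtype.val (Finset.mem_filter.1 ha).2
      simp only [F, Prod.mk.injEq] at h
      obtain ⟨h1, h2⟩ := h
      rw [h1] at h2
      refine ⟨h2, ?_, h1⟩
      rw [← h2, ← mul_smul, hinv, one_smul]
    obtain ⟨a0, ha0⟩ : (Finset.univ.filter (fun a => F a = ⟨(c1, c2), hc12⟩)).Nonempty :=
      Finset.card_pos.1 (by omega)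
    have hScard : 75 ≤ Nat.card St := by
      haveI : Fintype St := Fintype.ofFinite _
      rw [Nat.card_eq_fintype_card]
      refine hy.trans ?_
      refine Finset.card_le_card_of_injOn (fun a => if h : τ a0.1.1.1 a0.2 * τ a.1.1.1 a.2 ∈ St then ⟨_, h⟩ else 1)
        (fun a _ => Finset.mem_univ _) ?_
      have hmem : ∀ a ∈ Finset.univ.filter (fun a => F a = ⟨(c1, c2), hc12⟩),
          τ a0.1.1.1 a0.2 * τ a.1.1.1 a.2 ∈ St := by
        intro a ha
        obtain ⟨h1, h2, -⟩ := hfib a ha
        obtain ⟨k1, k2, -⟩ := hfib a0 ha0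
        exact ⟨MulAction.mem_stabilizer_iff.2 (by rw [mul_smul, h1, k2]),
          MulAction.mem_stabilizer_iff.2 (by rw [mul_smul, h2, k1])⟩
      intro a ha b hb hab
      simp only [dif_pos (hmem a ha), dif_pos (hmem b hb), Subtype.mk.injEq, mul_right_inj] at hab
      have hc : a.1.1.1 = b.1.1.1 := hτfix _ _ _ (hab ▸ hτc a.1.1.1 a.2)
      have hs : a.2 = b.2 := by
        simp only [τ, hc, mul_left_inj, mul_right_inj] at hab
        exact Subtype.ext (hf (congrArg Subtype.val hab))
      exact Prod.ext (Subtype.ext (Prod.ext hc ((hfib a ha).2.2.trans (hfib b hb).2.2.symm))) hs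
    -- pulled back to the small group
    have hstab : ∀ (c : X ⧸ X0) (g : X), g • c = c → c.out⁻¹ * g * c.out ∈ X0 := by
      intro c g h
      rw [← QuotientGroup.out_eq' c, MulAction.Quotient.smul_mk, QuotientGroup.eq, smul_eq_mul] at h
      simpa [mul_assoc] using X0.inv_mem h
    let ι : X →* G := X.subtype.comp (MulAut.conj c1.out⁻¹).toMonoidHom
    have hι : Function.Injective ι := X.subtype_injective.comp (MulAut.conj _).injective
    have hιv : ∀ g : X, ι g = ((c1.out⁻¹ * g * c1.out : X) : G) := fun g => by simp [ι]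
    let SQ : Subgroup Q := (St.map ι).comap f
    have hle : St.map ι ≤ f.range := by
      rintro _ ⟨g, hg, rfl⟩
      rw [hιv]
      exact hstab c1 g hg.1
    have hcardSQ : Nat.card SQ = Nat.card St := by
      rw [Nat.card_congr (Subgroup.equivMapOfInjective SQ f hf).toEquiv, Subgroup.map_comap_eq_self hle,
        Nat.card_congr (Subgroup.equivMapOfInjective St ι hι).symm.toEquiv]
    have hSQ : ∀ q ∈ SQ, Commute q U ∧ ¬ IsConj T q := by
      rintro q ⟨g, hg, hgq⟩
      have hqU : Commute q U := hf (by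
        rw [map_mul, map_mul]
        exact Subgroup.mem_centralizer_singleton_iff.1 (hgq ▸ hιv g ▸ (c1.out⁻¹ * g * c1.out).2))
      refine ⟨hqU, fun hc => ?_⟩
      have hv := he ⟨q, hqU, hc⟩ (c1.out⁻¹ * c2.out) (by
        have := hstab c2 g hg.2
        have e2 : ((c1.out⁻¹ * c2.out : X) : G)⁻¹ * f q * (c1.out⁻¹ * c2.out : X) =
            ((c2.out⁻¹ * g * c2.out : X) : G) := by
          rw [← hgq, hιv]
          push_cast
          group
        rw [e2]
        exact this)
      refine hc12 ?_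
      show c1 = c2
      rw [← QuotientGroup.out_eq' c1, ← QuotientGroup.out_eq' c2]
      exact QuotientGroup.eq.2 hv
    have hdvd : Nat.card SQ ∣ 2880 := hU ▸ Subgroup.card_dvd_of_le fun q hq =>
      Subgroup.mem_centralizer_singleton_iff.2 (hSQ q hq).1.eq
    have h8' : ¬ 8 ∣ Nat.card SQ := fun h => by
      haveI : Fact (Nat.Prime 2) := ⟨Nat.prime_two⟩
      obtain ⟨K, hK⟩ := Sylow.exists_subgroup_card_pow_prime 2 (G := SQ) (n := 3) (by simpa using h)
      obtain ⟨q, hq, hc⟩ := h8 (K.map SQ.subtype) (by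
        rw [← Nat.card_congr (Subgroup.equivMapOfInjective K _ SQ.subtype_injective).toEquiv, hK]; norm_num)
      obtain ⟨q', -, rfl⟩ := hq
      exact (hSQ _ q'.2).2 hc
    have hdiv : Nat.card SQ = 90 ∨ Nat.card SQ = 180 := by
      have hm := Nat.mem_divisors.2 ⟨hdvd, by norm_num⟩
      have h75 : 75 ≤ Nat.card SQ := hcardSQ ▸ hScard
      generalize Nat.card SQ = m at hm h75 h8'
      revert hm h75 h8'
      revert m
      decide +kernel
    obtain ⟨g, hg⟩ := exists_fifteen hdiv
    exact h15 g (hSQ _ g.2).1 (by rw [Subgroup.orderOf_coe]; exact hg)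
  -- the dihedral argument
  rw [eq_top_iff]
  intro x _
  by_contra hx
  set t' := x * t * x⁻¹ with ht'
  have ht'2 : t' * t' = 1 := by
    rw [ht', show x * t * x⁻¹ * (x * t * x⁻¹) = x * (t * t) * x⁻¹ by group, ht]; group
  set u := f U with hu'
  have hu2 : u * u = 1 := by rw [hu', ← map_mul, hUU, map_one]
  have hui : u⁻¹ = u := inv_eq_of_mul_eq_one_right hu2
  have hti : t'⁻¹ = t' := inv_eq_of_mul_eq_one_right ht'2
  set p := u * t' with hp
  have hup : ∀ n : ℕ, u * p ^ n * u⁻¹ = (p ^ n)⁻¹ := fun n => by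
    rw [← conj_pow, ← inv_pow, hp, mul_inv_rev, hti, hui]
    congr 1
    rw [show u * (u * t') * u = u * u * t' * u by group, hu2, one_mul]
  rcases Nat.even_or_odd (orderOf p) with ⟨k, hk'⟩ | ⟨k, hk'⟩
  · have hord : 0 < orderOf p := orderOf_pos _
    set z := p ^ k with hz
    have hz2 : z * z = 1 := by rw [hz, ← pow_add, ← hk', pow_orderOf_eq_one]
    have hz1 : z ≠ 1 := fun h => by
      have := orderOf_le_of_pow_eq_one (n := k) (by omega) h
      omega
    have hzu : Commute z u := by
      have := hup k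
      rw [← hz, inv_eq_of_mul_eq_one_right hz2] at this
      exact (mul_inv_eq_iff_eq_mul.1 this).symm
    have hzG : z ∈ f.range := hcentU (Subgroup.mem_centralizer_singleton_iff.2 hzu.eq)
    obtain ⟨q, hq⟩ := hzG
    have hzp : Commute z p := (Commute.refl p).pow_left k
    have hzt : Commute z t' := by
      have : t' = u * p := by rw [hp, ← mul_assoc, hu2, one_mul]
      rw [this]
      exact hzu.mul_right hzp
    have hconj : ∀ {V : Q}, IsConj V q → Subgroup.centralizer ({f V} : Set G) ≤ f.range → t' ∈ f.range := by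
      intro V hc hV
      obtain ⟨c, hc⟩ := isConj_iff.1 hc
      have : (f c)⁻¹ * t' * f c ∈ Subgroup.centralizer ({f V} : Set G) := by
        rw [Subgroup.mem_centralizer_singleton_iff]
        have e : f V = (f c)⁻¹ * z * f c := by rw [← hq, ← hc]; simp only [map_mul, map_inv]; group
        rw [e, show (f c)⁻¹ * t' * f c * ((f c)⁻¹ * z * f c) = (f c)⁻¹ * (t' * z) * f c by group, ← hzt.eq]
        group
      have h2 := mul_mem (mul_mem (MonoidHom.mem_range.2 ⟨c, rfl⟩ : f c ∈ f.range) (hV this))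
        (inv_mem (MonoidHom.mem_range.2 ⟨c, rfl⟩ : f c ∈ f.range))
      convert h2 using 1
      group
    have hqq : q * q = 1 := hf (by rw [map_mul, hq, hz2, map_one])
    have hq1 : q ≠ 1 := fun h => hz1 (by rw [← hq, h, map_one])
    refine hx (hself x ?_)
    rcases hA q hqq hq1 with h | h
    · exact hconj h (hT.symm ▸ hcentT)
    · exact hconj h hcentU
  · -- odd order: the two classes would meet
    have hpk : p ^ (2 * k + 1) = 1 := hk' ▸ pow_orderOf_eq_one p
    refine hapart (p ^ (k + 1) * x) ?_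
    have : p ^ (k + 1) * t' * (p ^ (k + 1))⁻¹ = u := by
      have h1 := hup (k + 1)
      have e : t' = u * p := by rw [hp, ← mul_assoc, hu2, one_mul]
      have h1' : p ^ (k + 1) * u = u * (p ^ (k + 1))⁻¹ := by
        rw [← h1, hui]
        rw [show u * (u * p ^ (k + 1) * u) = u * u * p ^ (k + 1) * u by group, hu2, one_mul]
      have h2 : p ^ (k + 1) * p ^ (k + 1) = p := by
        rw [← pow_add, show k + 1 + (k + 1) = 2 * k + 1 + 1 by omega, pow_succ, hpk, one_mul]
      rw [e, ← mul_assoc, h1', show u * (p ^ (k + 1))⁻¹ * p * (p ^ (k + 1))⁻¹ =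
        u * ((p ^ (k + 1))⁻¹ * p * (p ^ (k + 1))⁻¹) by group]
      conv_lhs => arg 2; arg 1; arg 2; rw [← h2]
      group
    rw [← this, ht']
    group

end CfsgHSType
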