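import Cfsg.Agent.Lib.HSType.Cent
import Cfsg.Agent.Lib.HSType.FusChecks
import Cfsg.Agent.Lib.HSType.Whole
import Cfsg.Agent.Lib.HSRecog.Basic

/-!
The group generated by the four generators is everything.
-/

set_option autoImplicit false
set_option maxRecDepth 10000

namespace CfsgHSType

open Cfsg
open Equiv
open CfsgAutL34.Enum (evW winv evW_append evW_winv)
open scoped Pointwise

attribute [local irreducible] CfsgLeech.Models.hsChain CfsgLeech.Models.hsRigid imgCodes uC tailE actV lmul linv lstep vadd vneg vsmul appM mulM invM cjM sAt uAt fget mlet Dec.tab Tab.lword tFix uFix uW permL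

variable {G : Type*} [Group G] [Finite G] {t : G} {R M : Subgroup G}

namespace HData

variable (Y : HData t R M) (C : CentData t R)

include Y C in
theorem nonempty_iso : Nonempty (G ≃* ↥hsPerm) := by
  classical
  obtain ⟨ψ, hψ, hcardP, hword, htoM, hcent⟩ := Y.exists_model C
  have htC : tC < 10752 := by with_unfolding_all decide
  have hok := Y.X.ok
  choose hπ hψπ using htoM
  let π : ℕ → ↥hsPerm := fun x => if h : x < 10752 then ⟨evW permL (wOf x), hπ x h⟩ else 1
  have hπv : ∀ x, x < 10752 → ψ (π x) = Y.X.D.toM x := fun x hx => by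
    simp only [π, dif_pos hx]; exact hψπ x hx
  have hπc : ∀ x, x < 10752 → (π x : Perm (Fin 100)) = evW permL (wOf x) := fun x hx => by
    simp only [π, dif_pos hx]
  have hmulπ : ∀ x y, x < 10752 → y < 10752 → π x * π y = π (mulM x y) := fun x y hx hy =>
    hψ (by rw [map_mul, hπv x hx, hπv y hy, hπv _ (mulM_lt hx hy), MGens.toM_mul hok hx hy])
  have h0 : π 0 = 1 := hψ (by rw [hπv 0 (by norm_num), MGens.toM_zero hok, map_one])
  have hπinj : ∀ x y, x < 10752 → y < 10752 → π x = π y → x = y := fun x y hx hy e =>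
    Y.X.inj x hx y hy (by rw [← hπv x hx, ← hπv y hy, e])
  obtain ⟨hU8, -, -, huu⟩ := fus_u
  simp only [List.all_eq_true, Nat.blt_eq] at hU8
  obtain ⟨hu, -⟩ := hword uW hU8
  replace hu : uP ∈ hsPerm := hu
  obtain ⟨hcU, hkU, h15⟩ := uP_facts hu
  obtain ⟨U, hUdef⟩ : ∃ U : ↥hsPerm, U = ⟨uP, hu⟩ := ⟨_, rfl⟩
  rw [← hUdef] at hcU hkU h15
  obtain ⟨T, hTdef⟩ : ∃ T : ↥hsPerm, T = π tC := ⟨_, rfl⟩
  have hT : ψ T = t := by rw [hTdef, hπv tC htC]; exact Y.X.hTC
  simp only [List.all_eq_true, List.mem_range, Bool.and_eq_true, Bool.not_eq_true'] at huu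
  have hUfix : ∀ i, (U : Perm (Fin 100)) i ≠ i := by
    intro i e
    rw [hUdef] at e
    have h2 := (huu i i.2).2
    rw [rep_uP i, show uP i = i from e, Nat.beq_refl] at h2
    simp at h2
  have hUU : U * U = 1 := by
    refine Subtype.ext (Equiv.ext fun i => Fin.ext ?_)
    rw [hUdef]
    show (uP (uP i) : ℕ) = i
    rw [← rep_uP, ← rep_uP]
    exact Nat.eq_of_beq_eq_true (huu i i.2).1
  have hU1 : U ≠ 1 := fun e => hUfix 0 (by rw [e]; rfl)
  -- the conjugating words
  have hfix : ∀ (V : ↥hsPerm) (v : List ℕ), (∀ k ∈ v, k < 8) → (V : Perm (Fin 100)) = evW permL v →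
      ∀ x, x < 10752 → ∀ w : List ℕ, (∀ k ∈ w, k < 8) → permEq (w ++ wOf x ++ winv w) v = true →
      IsConj V (π x) := by
    intro V v hv hV x hx w hw h
    have hwx : ∀ k ∈ wOf x, k < 8 := by
      intro k hk
      have hl := List.all_eq_true.mp perm_words (x / 64) (List.mem_range.2 (by omega))
      simp only [List.all_eq_true, Nat.blt_eq] at hl
      simp only [wOf, vW, List.mem_append, List.mem_flatten, List.mem_replicate, List.mem_map] at hk
      rcases hk with ((hk | ⟨l, ⟨-, rfl⟩, hk⟩) | ⟨l, ⟨-, rfl⟩, hk⟩) | ⟨j, hj, rfl⟩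
      · omega
      · simp [wA2] at hk; omega
      · simp [wA3] at hk; omega
      · have := hl j hj; omega
    have hwi : ∀ k ∈ winv w, k < 8 := by
      intro k hk
      simp only [winv, List.mem_map, List.mem_reverse] at hk
      obtain ⟨j, hj, rfl⟩ := hk
      have := hw j hj
      unfold CfsgAutL34.Enum.flipL
      split <;> omega
    have e := evW_permEq (w := w ++ wOf x ++ winv w) (v := v) (by
      intro k hk
      simp only [List.mem_append] at hk
      rcases hk with (hk | hk) | hk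
      · exact hw k hk
      · exact hwx k hk
      · exact hwi k hk) hv h
    rw [evW_append, evW_append, evW_winv] at e
    obtain ⟨hwm, -⟩ := hword w hw
    refine (isConj_iff.2 ⟨⟨_, hwm⟩, Subtype.ext ?_⟩ : IsConj (π x) V).symm
    rw [hV, ← e, Subgroup.coe_mul, Subgroup.coe_mul, Subgroup.coe_inv, hπc x hx]
  obtain ⟨hft, hfu⟩ := fus_fix
  simp only [List.all_eq_true, Bool.and_eq_true, Nat.blt_eq] at hft hfu
  have htmem : ∀ x, (tFix.map Prod.fst).contains x = true → IsConj T (π x) := by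
    intro x h
    simp only [List.contains_iff_mem, List.mem_map] at h
    obtain ⟨p, hp, rfl⟩ := h
    obtain ⟨⟨hx, hw⟩, he⟩ := hft p hp
    refine hfix T (wOf tC) ?_ (by rw [hTdef, hπc tC htC]) p.1 hx p.2 hw he
    intro k hk
    have : ∀ j ∈ wOf tC, j < 8 := by with_unfolding_all decide
    exact this k hk
  have humem : ∀ x, (uFix.map Prod.fst).contains x = true → IsConj U (π x) := by
    intro x h
    simp only [List.contains_iff_mem, List.mem_map] at h
    obtain ⟨p, hp, rfl⟩ := h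
    obtain ⟨⟨hx, hw⟩, he⟩ := hfu p hp
    exact hfix U uW hU8 (by rw [hUdef]; rfl) p.1 hx p.2 hw he
  -- the subgroup of order 1536
  let KM : Subgroup G := M ⊓ Subgroup.centralizer ({t} : Set G)
  let Pi : Subgroup ↥hsPerm := KM.comap ψ
  let Pc : Finset ℕ := ((List.range 10752).filter fun x => Nat.beq (mulM x tC) (mulM tC x)).toFinset
  have hPc : ∀ x, x ∈ Pc ↔ x < 10752 ∧ Nat.beq (mulM x tC) (mulM tC x) = true := fun x => by simp [Pc]
  have hPiP : ∀ q ∈ Pi, ∃ x ∈ Pc, q = π x := by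
    intro q hq
    obtain ⟨x, hx, e⟩ := (Y.X.range _).1 hq.1
    refine ⟨x, (hPc x).2 ⟨hx, ?_⟩, hψ (by rw [hπv x hx, e])⟩
    have h := Subgroup.mem_centralizer_singleton_iff.1 hq.2
    rw [← e] at h
    replace h : Y.X.D.toM x * Y.X.D.toM tC = Y.X.D.toM tC * Y.X.D.toM x := by
      rw [show Y.X.D.toM tC = t from Y.X.hTC]; exact h
    rw [← MGens.toM_mul hok hx htC, ← MGens.toM_mul hok htC hx] at h
    rw [Y.X.inj _ (mulM_lt hx htC) _ (mulM_lt htC hx) h]
    exact Nat.beq_refl _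
  have hPiC : ∀ x ∈ Pc, π x ∈ Pi := by
    intro x hx
    obtain ⟨hx1, hx2⟩ := (hPc x).1 hx
    show ψ (π x) ∈ KM
    rw [hπv x hx1]
    exact ⟨(Y.X.range _).2 ⟨x, hx1, rfl⟩,
      Subgroup.mem_centralizer_singleton_iff.2 (Y.X.mem_cent C hx1 (Nat.eq_of_beq_eq_true hx2))⟩
  have hPicard : Nat.card Pi = 1536 := by
    have e : Pc.card = 1536 := by
      rw [List.toFinset_card_of_nodup (List.nodup_range.filter _)]; exact braid_cent.2
    rw [← e, ← Nat.card_eq_finsetCard]
    refine (Nat.card_eq_of_bijective (fun x : Pc => (⟨π x, hPiC x x.2⟩ : Pi)) ⟨fun x y h => ?_, fun q => ?_⟩).symm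
    · exact Subtype.ext (hπinj x y ((hPc _).1 x.2).1 ((hPc _).1 y.2).1 (congrArg Subtype.val h))
    · obtain ⟨x, hx, h⟩ := hPiP q q.2
      exact ⟨⟨x, hx⟩, Subtype.ext h.symm⟩
  haveI : Fact (Nat.Prime 2) := ⟨Nat.prime_two⟩
  have htwo : ∀ S : Subgroup ↥hsPerm, IsPGroup 2 S → ∃ g : ↥hsPerm, ∀ s ∈ S, g * s * g⁻¹ ∈ Pi := by
    intro S hS
    obtain ⟨K, hK⟩ := Sylow.exists_subgroup_card_pow_prime 2 (G := Pi) (n := 9) (by rw [hPicard]; norm_num)
    have hKc : Nat.card (K.map Pi.subtype) = 2 ^ (Nat.card ↥hsPerm).factorization 2 := by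
      rw [← Nat.card_congr (Subgroup.equivMapOfInjective _ _ Pi.subtype_injective).toEquiv, hK, hcardP,
        show (44352000 : ℕ) = 86625 * 2 ^ 9 by norm_num, Nat.factorization_mul (by norm_num) (by norm_num)]
      simp [Nat.factorization_eq_zero_of_not_dvd, show ¬ 2 ∣ 86625 by norm_num,
        show (Nat.factorization 512) 2 = 9 by
          rw [show 512 = 2 ^ 9 by norm_num, Nat.prime_two.factorization_pow]; simp]
    obtain ⟨Q, hQ⟩ := hS.exists_le_sylow
    obtain ⟨g, hg⟩ := MulAction.exists_smul_eq ↥hsPerm Q (Sylow.ofCard (K.map Pi.subtype) hKc)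
    refine ⟨g, fun s hs => ?_⟩
    have h1 : MulAut.conj g • s ∈ MulAut.conj g • (Q : Subgroup ↥hsPerm) :=
      Subgroup.smul_mem_pointwise_smul _ _ _ (hQ hs)
    rw [← Sylow.coe_subgroup_smul, hg] at h1
    obtain ⟨q, -, hq⟩ := h1
    have : MulAut.conj g • s = g * s * g⁻¹ := rfl
    rw [this] at hq
    exact hq ▸ q.2
  obtain ⟨hin, height⟩ := And.intro fus_invol fus_eight
  simp only [List.all_eq_true, List.mem_range, CfsgAutL34.Enum.force_eq] at hin
  have hinv : ∀ x ∈ Pc, x ≠ 0 → (mulM x x = 0 → IsConj T (π x) ∨ IsConj U (π x)) ∧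
      (mulM x x ≠ 0 → mulM (mulM x x) (mulM x x) = 0 → IsConj T (π (mulM x x))) := by
    intro x hx hx0
    obtain ⟨hx1, hx2⟩ := (hPc x).1 hx
    have h := hin x hx1
    rw [hx2] at h
    have hb0 : Nat.beq x 0 = false := by
      rw [← Bool.not_eq_true]; exact fun e => hx0 (Nat.eq_of_beq_eq_true e)
    simp only [Bool.not_true, Bool.false_or, hb0] at h
    refine ⟨fun e => ?_, fun e e2 => ?_⟩
    · rw [e, if_pos (Nat.beq_refl 0)] at h
      simp only [List.contains_iff_mem, List.mem_append] at h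
      rcases h with h | h
      · exact Or.inl (htmem x (List.contains_iff_mem.2 h))
      · exact Or.inr (humem x (List.contains_iff_mem.2 h))
    · rw [if_neg (fun e' => e (Nat.eq_of_beq_eq_true e')), e2, Nat.beq_refl] at h
      simp only [Bool.not_true, Bool.false_or] at h
      exact htmem _ h
  have hconjT : ∀ (g q : ↥hsPerm) (V : ↥hsPerm), IsConj V (g * q * g⁻¹) → IsConj V q := fun g q V h =>
    h.trans (isConj_iff.2 ⟨g⁻¹, by group⟩)
  have hA : ∀ q : ↥hsPerm, q * q = 1 → q ≠ 1 → IsConj T q ∨ IsConj U q := by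
    intro q hqq hq1
    have hord : orderOf q = 2 := orderOf_eq_prime (by rw [pow_two]; exact hqq) hq1
    obtain ⟨g, hg⟩ := htwo (Subgroup.zpowers q) (IsPGroup.of_card (n := 1) (by rw [Nat.card_zpowers, hord]; norm_num))
    obtain ⟨x, hx, e⟩ := hPiP _ (hg q (Subgroup.mem_zpowers q))
    have hx1 := ((hPc x).1 hx).1
    have hxx : mulM x x = 0 := hπinj _ _ (mulM_lt hx1 hx1) (by norm_num) (by
      rw [← hmulπ x x hx1 hx1, ← e, h0, show g * q * g⁻¹ * (g * q * g⁻¹) = g * (q * q) * g⁻¹ by group, hqq]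
      group)
    have hx0 : x ≠ 0 := by
      rintro rfl
      rw [h0] at e
      exact hq1 (conj_eq_one_iff.1 e)
    rcases (hinv x hx hx0).1 hxx with h | h
    · exact Or.inl (hconjT g q T (e ▸ h))
    · exact Or.inr (hconjT g q U (e ▸ h))
  have h8 : ∀ S : Subgroup ↥hsPerm, Nat.card S = 8 → ∃ q ∈ S, IsConj T q := by
    intro S hS
    by_contra hno
    push Not at hno
    obtain ⟨g, hg⟩ := htwo S (IsPGroup.of_card (n := 3) (by rw [hS]; norm_num))
    have hcode : ∀ q ∈ S, ∃ x ∈ Pc, g * q * g⁻¹ = π x := fun q hq => hPiP _ (hg q hq)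
    have hsq : ∀ q ∈ S, q * q ≠ 1 → (q * q) * (q * q) = 1 → False := by
      intro q hq h2 h4
      obtain ⟨x, hx, e⟩ := hcode q hq
      have hx1 := ((hPc x).1 hx).1
      have e2 : π (mulM x x) = g * (q * q) * g⁻¹ := by rw [← hmulπ x x hx1 hx1, ← e]; group
      have hne : mulM x x ≠ 0 := fun h => h2 (by
        rw [h, h0] at e2
        exact conj_eq_one_iff.1 e2.symm)
      have hx0 : x ≠ 0 := by
        rintro rfl
        rw [h0] at e
        exact h2 (by rw [conj_eq_one_iff.1 e, one_mul])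
      have h4' : mulM (mulM x x) (mulM x x) = 0 := hπinj _ _ (mulM_lt (mulM_lt hx1 hx1) (mulM_lt hx1 hx1)) (by norm_num) (by
        rw [← hmulπ _ _ (mulM_lt hx1 hx1) (mulM_lt hx1 hx1), e2, h0,
          show g * (q * q) * g⁻¹ * (g * (q * q) * g⁻¹) = g * ((q * q) * (q * q)) * g⁻¹ by group, h4]
        group)
      exact hno (q * q) (S.mul_mem hq hq) (hconjT g _ T (e2 ▸ (hinv x hx hx0).2 hne h4'))
    have helem : ∀ q ∈ S, q * q = 1 := by
      intro q hq
      by_contra h2
      have h8' : q ^ 8 = 1 := by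
        have := hS ▸ pow_card_eq_one' (G := S) (x := ⟨q, hq⟩)
        exact congrArg Subtype.val this
      by_cases h4 : (q * q) * (q * q) = 1
      · exact hsq q hq h2 h4
      · refine hsq (q * q) (S.mul_mem hq hq) h4 ?_
        rw [← h8']; simp only [pow_succ, pow_zero, one_mul, mul_assoc]
    have hcl : ∀ q ∈ S, q ≠ 1 → ∃ x ∈ Pc, g * q * g⁻¹ = π x ∧ (uFix.map Prod.fst).contains x = true := by
      intro q hq hq1
      obtain ⟨x, hx, e⟩ := hcode q hq
      have hx1 := ((hPc x).1 hx).1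
      have hx0 : x ≠ 0 := by
        rintro rfl
        rw [h0] at e
        exact hq1 (conj_eq_one_iff.1 e)
      refine ⟨x, hx, e, ?_⟩
      have hxx : mulM x x = 0 := hπinj _ _ (mulM_lt hx1 hx1) (by norm_num) (by
        rw [← hmulπ x x hx1 hx1, ← e, h0, show g * q * g⁻¹ * (g * q * g⁻¹) = g * (q * q) * g⁻¹ by group, helem q hq]
        group)
      have h := hin x hx1
      have hb0 : Nat.beq x 0 = false := by
        rw [← Bool.not_eq_true]; exact fun e => hx0 (Nat.eq_of_beq_eq_true e)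
      rw [((hPc x).1 hx).2, hb0, hxx, if_pos (Nat.beq_refl 0)] at h
      simp only [Bool.not_true, Bool.false_or, List.contains_iff_mem, List.mem_append] at h
      rcases h with h | h
      · exact absurd (hconjT g q T (e ▸ htmem x (List.contains_iff_mem.2 h))) (hno q hq)
      · exact List.contains_iff_mem.2 h
    haveI : Fintype S := Fintype.ofFinite _
    have hS' : Fintype.card S = 8 := by rw [← Nat.card_eq_fintype_card, hS]
    have hpick : ∀ F : Finset S, F.card < 8 → ∃ z : S, z ∉ F := fun F hF => by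
      by_contra hc
      push Not at hc
      rw [Finset.eq_univ_iff_forall.2 hc, Finset.card_univ, hS'] at hF
      omega
    obtain ⟨a, ha⟩ := hpick {1} (by simp)
    obtain ⟨b, hb⟩ := hpick {1, a} (lt_of_le_of_lt Finset.card_le_two (by norm_num))
    obtain ⟨c, hc⟩ := hpick {1, a, b, a * b} (lt_of_le_of_lt Finset.card_le_four (by norm_num))
    simp only [Finset.mem_insert, Finset.mem_singleton, not_or] at ha hb hc
    have hS2 : ∀ z : S, z * z = 1 := fun z => Subtype.ext (helem z z.2)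
    have hcomm : ∀ y z : S, y * z = z * y := by
      intro y z
      have h := hS2 (y * z)
      have hy : y⁻¹ = y := inv_eq_of_mul_eq_one_right (hS2 y)
      have hz : z⁻¹ = z := inv_eq_of_mul_eq_one_right (hS2 z)
      rw [← inv_eq_of_mul_eq_one_right h, mul_inv_rev, hy, hz]
    have hne : ∀ y z : S, y ≠ z → y * z ≠ 1 := fun y z h e => h (by
      rw [← mul_one y, ← hS2 z, ← mul_assoc, e, one_mul])
    have code : ∀ z : S, z ≠ 1 → ∃ x ∈ Pc, g * (z : ↥hsPerm) * g⁻¹ = π x ∧ (uFix.map Prod.fst).contains x = true :=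
      fun z hz => hcl z z.2 (fun e => hz (Subtype.ext e))
    obtain ⟨A, hA, eA, uA⟩ := code a ha
    obtain ⟨B, hB, eB, uB⟩ := code b hb.1
    obtain ⟨Cc, hC, eC, uC'⟩ := code c hc.1
    have l := fun {x} (h : x ∈ Pc) => ((hPc x).1 h).1
    have hmulc : ∀ {y z : S} {X Z : ℕ}, X < 10752 → Z < 10752 → g * (y : ↥hsPerm) * g⁻¹ = π X →
        g * (z : ↥hsPerm) * g⁻¹ = π Z → g * ((y * z : S) : ↥hsPerm) * g⁻¹ = π (mulM X Z) := by
      intro y z X Z hX hZ e1 e2
      rw [← hmulπ X Z hX hZ, ← e1, ← e2, Subgroup.coe_mul]; group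
    have hin' : ∀ {z : S} {X : ℕ}, X < 10752 → z ≠ 1 → g * (z : ↥hsPerm) * g⁻¹ = π X →
        (uFix.map Prod.fst).contains X = true := by
      intro z X hX hz e
      obtain ⟨X', hX', e', hu'⟩ := code z hz
      rwa [hπinj X X' hX (l hX') (e.symm.trans e')]
    have hcm : ∀ {y z : S} {X Z : ℕ}, X < 10752 → Z < 10752 → g * (y : ↥hsPerm) * g⁻¹ = π X →
        g * (z : ↥hsPerm) * g⁻¹ = π Z → mulM X Z = mulM Z X := by
      intro y z X Z hX hZ e1 e2
      refine hπinj _ _ (mulM_lt hX hZ) (mulM_lt hZ hX) ?_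
      rw [← hmulc hX hZ e1 e2, ← hmulc hZ hX e2 e1, hcomm]
    have hne' : ∀ {y z : S} {X Z : ℕ}, y ≠ z → g * (y : ↥hsPerm) * g⁻¹ = π X →
        g * (z : ↥hsPerm) * g⁻¹ = π Z → Nat.beq X Z = false := by
      intro y z X Z h e1 e2
      rw [← Bool.not_eq_true]
      intro e
      exact h (Subtype.ext (mul_left_cancel (mul_right_cancel (e1.trans ((Nat.eq_of_beq_eq_true e) ▸ e2.symm)))))
    have eAB := hmulc (l hA) (l hB) eA eB
    have hab1 : a * b ≠ 1 := hne a b (Ne.symm hb.2)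
    have h := List.all_eq_true.mp (List.all_eq_true.mp height A (List.contains_iff_mem.1 uA)) B (List.contains_iff_mem.1 uB)
    simp only [CfsgAutL34.Enum.force_eq] at h
    rw [hin' (mulM_lt (l hA) (l hB)) hab1 eAB, hcm (l hA) (l hB) eA eB, Nat.beq_refl] at h
    simp only [Bool.and_self, Bool.not_true, Bool.false_or, List.all_eq_true] at h
    have h' := h Cc (List.contains_iff_mem.1 uC')
    rw [← hcm (l hA) (l hB) eA eB] at h'
    rw [hne' hc.2.1 eC eA, hne' hc.2.2.1 eC eB, hne' hc.2.2.2 eC eAB,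
      hcm (l hA) (l hC) eA eC, hcm (l hB) (l hC) eB eC, Nat.beq_refl, Nat.beq_refl] at h'
    rw [← hcm (l hA) (l hC) eA eC, ← hcm (l hB) (l hC) eB eC,
      hin' (mulM_lt (l hA) (l hC)) (hne a c (Ne.symm hc.2.1)) (hmulc (l hA) (l hC) eA eC),
      hin' (mulM_lt (l hB) (l hC)) (hne b c (Ne.symm hc.2.2.1)) (hmulc (l hB) (l hC) eB eC),
      hin' (mulM_lt (mulM_lt (l hA) (l hB)) (l hC)) (hne (a * b) c (Ne.symm hc.2.2.2))
        (hmulc (mulM_lt (l hA) (l hB)) (l hC) eAB eC)] at h'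
    simp at h'
  have hk : 75 ≤ Nat.card {q : ↥hsPerm // Commute q U ∧ IsConj T q} := by
    refine hkU.trans (Nat.card_le_card_of_injective (fun q => ⟨q.1, q.2.1, ?_⟩) fun a b e =>
      Subtype.ext (congrArg (fun z => z.1) e))
    obtain ⟨i, hi⟩ := q.2.2.2.2
    rcases hA q.1 q.2.2.1 q.2.2.2.1 with h | h
    · exact h
    · exfalso
      obtain ⟨k, hk⟩ := isConj_iff.1 h
      refine hUfix ((k⁻¹ : ↥hsPerm) |>.1 i) ?_
      have e : (U : Perm (Fin 100)) = ((k⁻¹ * q.1 * k : ↥hsPerm) : Perm (Fin 100)) := by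
        rw [← hk]; congr 1; group
      rw [e]
      simp [Perm.mul_apply, Perm.inv_def, hi]
  have htop := range_eq_top ψ hψ hT hcent C.cardH (by rw [← pow_two, ← C.ht, pow_orderOf_eq_one]) hUU hU1
    (fun e => by have := C.ht; rw [e, orderOf_one] at this; omega) hA hcU hk h15 h8
  exact ⟨(((MonoidHom.ofInjective hψ).trans (MulEquiv.subgroupCongr htop)).trans Subgroup.topEquiv).symm⟩

include Y C in
theorem iso_hs : Spor.IsoHS G := by
  obtain ⟨e⟩ := Y.nonempty_iso C
  obtain ⟨-, -, ⟨iso⟩⟩ := CfsgLeech.Models.hs_model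
  obtain ⟨j⟩ := CfsgHSRecog.iso_hsStab
  refine ⟨(e.trans ?_).trans j.symm⟩
  with_unfolding_all exact iso.symm

end HData

end CfsgHSType
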