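import Cfsg.Agent.Lib.HSType.CalcChecks

/-!
A change of generators taking the second system of relations to the first.
-/

set_option autoImplicit false
set_option maxRecDepth 100000
set_option maxHeartbeats 4000000
set_option Elab.async false

namespace CfsgHSType

open CfsgLib.CosetEnum (force)

/-- Products of a list of elements and the fifth generator, the latter coded by 10752. -/
noncomputable def seqT (K : Key) : List ℕ → Option (ℕ × ℕ)
  | [] => some (0, 0)
  | x :: l => (seqT K l).bind fun st => if x = 10752 then K.dT st else K.pT x st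

/-- The new involution. -/
noncomputable def alN : ℕ := 8 + 64 * lstep 0 0

/-- The element of a word in the new generators. -/
noncomputable def evL (w : List ℕ) : ℕ :=
  w.foldr (fun x a => mulM ([alN, invM alN, mlet 4, mlet 5].getD x 0) a) 0

/-- The new coordinates in terms of the old ones. -/
noncomputable def phi (x : ℕ) : ℕ := force x fun x => mulM (x % 64) (evL (Tab.lword.getD (x / 64) []))

/-- The element changing the fifth generator. -/
def uN : ℕ := 1314

/-- The key of the second system. -/
def key1 : Key := ⟨1, 0, 0, 0⟩

/-- The new fifth generator. -/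
noncomputable def dN : List ℕ := [10752, uN]

/-- The inverse of the new fifth generator. -/
noncomputable def dNi : List ℕ := [invM uN, 10752]

theorem phi_ok : ((List.range 10752).all fun x => Nat.blt (phi x) 10752 && Nat.beq (phi (phi x)) x) = true ∧
    ((coreCand.getD 0 []).all fun x => (coreCand.getD 0 []).contains (phi x)) = true ∧ phi 34 = 34 := by decide +kernel

theorem alN_ok : alN < 10752 ∧ uN < 10752 ∧ (coreCand.getD 0 []).contains uN = true ∧
    ([Delta.dat0.c1, Delta.dat0.c3, Delta.dat0.rho].all fun c => (coreCand.getD 0 []).contains (mulM (invM c) (phi c))) = true ∧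
    (List.range 4).all (fun x => Nat.blt ([alN, invM alN, mlet 4, mlet 5].getD x 0) 10752) = true ∧
    Tab.lword.length = 168 := by decide +kernel

theorem alN_rels : ([[0, 0], [2, 2, 2], (List.replicate 7 [0, 2]).flatten, (List.replicate 4 [0, 2, 1, 3]).flatten].all
    fun w => Nat.beq (evL w) 0) = true ∧
    ([1, 4, 16].all fun v => Nat.beq (cjM alN v) (actV (lstep 0 0) v) && Nat.beq (cjM (mlet 4) v) (actV (lstep 0 2) v)) = true := by
  decide +kernel

theorem auto_rels : (seqT key1 (dN ++ dN) == some (0, 0)) = true ∧
    (seqT key1 (dN ++ [phi Delta.dat0.c1] ++ dN ++ [phi Delta.dat0.c1]) == some (0, 0)) = true ∧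
    (seqT key1 (List.replicate 3 (dN ++ [phi Delta.dat0.c3])).flatten == some (0, 0)) = true ∧
    (seqT key1 (dN ++ [phi Delta.dat0.rho] ++ dNi ++ [invM (phi Delta.dat0.rho)]) == some (0, 0)) = true ∧
    ((List.range 64).all fun i => seqT key1 (dN ++ [phi (sAt 0 i)] ++ dNi ++
      [invM (phi (sAt 0 (fget (Delta.dat0.cls.getD 0 0) i)))]) == some (0, 0)) = true := by decide +kernel

end CfsgHSType
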