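import Cfsg.Agent.Lib.HSType.Engine
import Cfsg.Agent.Lib.HSType.BigData

/-!
The enumeration of 4125 cosets.
-/

set_option autoImplicit false

namespace CfsgHSType

/-- The enumeration of 4125 cosets. -/
def bigT : Closed :=
  ⟨⟨Big.facts, Big.nf, Big.par, [], [], Big.rules, [], [0, 1, 2, 3, 4, 5], 0, 8⟩, Big.rep, Big.rows, Big.size⟩

end CfsgHSType
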