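import Cfsg.Agent.Lib.HSType.BigCert

/-!
Kernel checks of facts of the large enumeration, part 2.
-/

set_option autoImplicit false
set_option maxRecDepth 100000
set_option maxHeartbeats 4000000
set_option Elab.async false

namespace CfsgHSType

theorem big_facts4 : bigT.cert.okFacts 14000 3500 = true := by decide +kernel

theorem big_facts5 : bigT.cert.okFacts 17500 3500 = true := by decide +kernel

end CfsgHSType
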