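/-
Data of a coset enumeration.
-/
import Cfsg.Agent.Lib.HSType.SmallFacts0
import Cfsg.Agent.Lib.CosetEnum.Basic

set_option autoImplicit false
set_option maxRecDepth 1000000

namespace CfsgHSType.Small

def nf : ℕ := 2002

def size : ℕ := 1

def facts : CfsgLib.CosetEnum.Tree :=
  facts0

def par : CfsgLib.CosetEnum.Tree :=
  .node (.node (.node (.node (.node (.node (.node (.node (.node (.node (.leaf 0) (.leaf 16357)) (.node (.leaf 8165) (.leaf 0))) (.node (.node (.leaf 4071) (.leaf 0)) (.node (.leaf 10752) (.leaf 0)))) (.node (.node (.node (.leaf 2021) (.leaf 18402)) (.node (.leaf 10210) (.leaf 0))) (.node (.node (.leaf 6117) (.leaf 0)) (.node (.leaf 14308) (.leaf 0))))) (.node (.node (.node (.node (.leaf 992) (.leaf 17378)) (.node (.leaf 9185) (.leaf 0))) (.node (.node (.leaf 5092) (.leaf 0)) (.node (.leaf 13285) (.leaf 0)))) (.node (.node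 (.node (.leaf 3040) (.leaf 19429)) (.node (.leaf 11234) (.leaf 0))) (.node (.node (.leaf 7140) (.leaf 0)) (.node (.leaf 15330) (.leaf 0)))))) (.node (.node (.node (.node (.node (.leaf 484) (.leaf 16866)) (.node (.leaf 8674) (.leaf 0))) (.node (.node (.leaf 4581) (.leaf 0)) (.node (.leaf 12770) (.leaf 0)))) (.node (.node (.node (.leaf 2533) (.leaf 18501)) (.node (.leaf 10722) (.leaf 0))) (.node (.node (.leaf 384) (.leaf 0)) (.node (.leaf 14821) (.leaf 0))))) (.node (.node (.node (.node (.leaf 1506) (.leaf 17890)) (.node (.leaf 9696) (.leaf 0))) (.node (.node (.leaf 5600) (.leaf 0)) (.node (.leaf 13797) (.leaf 0)))) (.node (.node (.node (.leaf 3558) (.leaf 0)) (.node (.leaf 11747) (.leaf 0))) (.node (.node (.leaf 7653) (.leaf 0)) (.node (.leaf 15845) (.leaf 0))))))) (.node (.node (.node (.node (.node (.node (.leaf 228) (.leaf 13696)) (.node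 (.leaf 8418) (.leaf 0))) (.node (.node (.leaf 128) (.leaf 0)) (.node (.leaf 10562) (.leaf 0)))) (.node (.node (.node (.leaf 2277) (.leaf 18657)) (.node (.leaf 10468) (.leaf 0))) (.node (.node (.leaf 358) (.leaf 0)) (.node (.leaf 14560) (.leaf 0))))) (.node (.node (.node (.node (.leaf 1253) (.leaf 17634)) (.node (.leaf 4800) (.leaf 0))) (.node (.node (.leaf 5349) (.leaf 0)) (.node (.leaf 13541) (.leaf 0)))) (.node (.node (.node (.leaf 3301) (.leaf 19682)) (.node (.leaf 11492) (.leaf 0))) (.node (.node (.leaf 7395) (.leaf 0)) (.node (.leaf 15586) (.leaf 0)))))) (.node (.node (.node (.node (.node (.leaf 740) (.leaf 17120)) (.node (.leaf 8930) (.leaf 0))) (.node (.node (.leaf 4836) (.leaf 0)) (.node (.leaf 13026) (.leaf 0)))) (.node (.node (.node (.leaf 2788) (.leaf 19173)) (.node (.leaf 10976) (.leaf 0))) (.node (.node (.leaf 6885) (.leaf 0))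 (.node (.leaf 8290) (.leaf 0))))) (.node (.node (.node (.node (.leaf 1765) (.leaf 5094)) (.node (.leaf 8320) (.leaf 0))) (.node (.node (.leaf 5858) (.leaf 0)) (.node (.leaf 14052) (.leaf 0)))) (.node (.node (.node (.leaf 3810) (.leaf 0)) (.node (.leaf 6688) (.leaf 0))) (.node (.node (.leaf 7909) (.leaf 0)) (.node (.leaf 15653) (.leaf 0)))))))) (.node (.node (.node (.node (.node (.node (.node (.leaf 101) (.leaf 16486)) (.node (.leaf 326) (.leaf 0))) (.node (.node (.leaf 4194) (.leaf 0)) (.node (.leaf 12388) (.leaf 0)))) (.node (.node (.node (.leaf 2148) (.leaf 15424)) (.node (.leaf 10340) (.leaf 0))) (.node (.node (.leaf 6244) (.leaf 0)) (.node (.leaf 14432) (.leaf 0))))) (.node (.node (.node (.node (.leaf 1125) (.leaf 17508)) (.node (.leaf 9313) (.leaf 0))) (.node (.node (.leaf 5223) (.leaf 0)) (.node (.leaf 13412) (.leaf 0)))) (.node (.node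 (.node (.leaf 3171) (.leaf 6022)) (.node (.leaf 11364) (.leaf 0))) (.node (.node (.leaf 7264) (.leaf 0)) (.node (.leaf 15461) (.leaf 0)))))) (.node (.node (.node (.node (.node (.leaf 613) (.leaf 16996)) (.node (.leaf 8806) (.leaf 0))) (.node (.node (.leaf 4709) (.leaf 0)) (.node (.leaf 12898) (.leaf 0)))) (.node (.node (.node (.leaf 2660) (.leaf 15457)) (.node (.leaf 10852) (.leaf 0))) (.node (.node (.leaf 6758) (.leaf 0)) (.node (.leaf 14948) (.leaf 0))))) (.node (.node (.node (.node (.leaf 1633) (.leaf 18018)) (.node (.leaf 8324) (.leaf 0))) (.node (.node (.leaf 5733) (.leaf 0)) (.node (.leaf 13924) (.leaf 0)))) (.node (.node (.node (.leaf 3685) (.leaf 0)) (.node (.leaf 11873) (.leaf 0))) (.node (.node (.leaf 4545) (.leaf 0)) (.node (.leaf 5408) (.leaf 0))))))) (.node (.node (.node (.node (.node (.node (.leaf 357) (.leaf 16736)) (.node (.leaf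 8550) (.leaf 0))) (.node (.node (.leaf 4449) (.leaf 0)) (.node (.leaf 12642) (.leaf 0)))) (.node (.node (.node (.leaf 2404) (.leaf 18788)) (.node (.leaf 10592) (.leaf 0))) (.node (.node (.leaf 6498) (.leaf 0)) (.node (.leaf 14692) (.leaf 0))))) (.node (.node (.node (.node (.leaf 1378) (.leaf 17762)) (.node (.leaf 9569) (.leaf 0))) (.node (.node (.leaf 5476) (.leaf 0)) (.node (.leaf 13668) (.leaf 0)))) (.node (.node (.node (.leaf 1952) (.leaf 0)) (.node (.leaf 11620) (.leaf 0))) (.node (.node (.leaf 7523) (.leaf 0)) (.node (.leaf 15719) (.leaf 0)))))) (.node (.node (.node (.node (.node (.leaf 866) (.leaf 17250)) (.node (.leaf 8130) (.leaf 0))) (.node (.node (.leaf 4965) (.leaf 0)) (.node (.leaf 13154) (.leaf 0)))) (.node (.node (.node (.leaf 2914) (.leaf 19300)) (.node (.leaf 10848) (.leaf 0))) (.node (.node (.leaf 7012) (.leaf 0)) (.node (.leaf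 15205) (.leaf 0))))) (.node (.node (.node (.node (.leaf 1890) (.leaf 18277)) (.node (.leaf 9984) (.leaf 0))) (.node (.node (.leaf 5988) (.leaf 0)) (.node (.leaf 14181) (.leaf 0)))) (.node (.node (.node (.leaf 3938) (.leaf 0)) (.node (.leaf 12130) (.leaf 0))) (.node (.node (.leaf 8033) (.leaf 0)) (.node (.leaf 12322) (.leaf 0))))))))) (.node (.node (.node (.node (.node (.node (.node (.node (.leaf 37) (.leaf 16418)) (.node (.leaf 8225) (.leaf 0))) (.node (.node (.leaf 4132) (.leaf 0)) (.node (.leaf 5830) (.leaf 0)))) (.node (.node (.node (.leaf 2084) (.leaf 18469)) (.node (.leaf 10279) (.leaf 0))) (.node (.node (.leaf 6176) (.leaf 0)) (.node (.leaf 14370) (.leaf 0))))) (.node (.node (.node (.node (.leaf 1060) (.leaf 17446)) (.node (.leaf 9249) (.leaf 0))) (.node (.node (.leaf 5154) (.leaf 0)) (.node (.leaf 13348) (.leaf 0)))) (.node (.node (.node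 (.leaf 3106) (.leaf 19492)) (.node (.leaf 11303) (.leaf 0))) (.node (.node (.leaf 7205) (.leaf 0)) (.node (.leaf 10436) (.leaf 0)))))) (.node (.node (.node (.node (.node (.leaf 549) (.leaf 4038)) (.node (.leaf 8738) (.leaf 0))) (.node (.node (.leaf 4644) (.leaf 0)) (.node (.leaf 12838) (.leaf 0)))) (.node (.node (.node (.leaf 2596) (.leaf 18977)) (.node (.leaf 10789) (.leaf 0))) (.node (.node (.leaf 6690) (.leaf 0)) (.node (.leaf 14884) (.leaf 0))))) (.node (.node (.node (.node (.leaf 1571) (.leaf 17856)) (.node (.leaf 9762) (.leaf 0))) (.node (.node (.leaf 5668) (.leaf 0)) (.node (.leaf 5986) (.leaf 0)))) (.node (.node (.node (.leaf 3620) (.leaf 0)) (.node (.leaf 11809) (.leaf 0))) (.node (.node (.leaf 7713) (.leaf 0)) (.node (.leaf 15908) (.leaf 0))))))) (.node (.node (.node (.node (.node (.node (.leaf 293) (.leaf 16677)) (.node (.leaf 8482)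 (.leaf 0))) (.node (.node (.leaf 4389) (.leaf 0)) (.node (.leaf 12582) (.leaf 0)))) (.node (.node (.node (.leaf 2340) (.leaf 11269)) (.node (.leaf 10401) (.leaf 0))) (.node (.node (.leaf 6434) (.leaf 0)) (.node (.leaf 12164) (.leaf 0))))) (.node (.node (.node (.node (.leaf 1312) (.leaf 17698)) (.node (.leaf 9509) (.leaf 0))) (.node (.node (.leaf 5413) (.leaf 0)) (.node (.leaf 13604) (.leaf 0)))) (.node (.node (.node (.leaf 3361) (.leaf 19748)) (.node (.leaf 6661) (.leaf 0))) (.node (.node (.leaf 7458) (.leaf 0)) (.node (.leaf 9986) (.leaf 0)))))) (.node (.node (.node (.node (.node (.leaf 32) (.leaf 17186)) (.node (.leaf 8994) (.leaf 0))) (.node (.node (.leaf 4900) (.leaf 0)) (.node (.leaf 13088) (.leaf 0)))) (.node (.node (.node (.leaf 2853) (.leaf 19236)) (.node (.leaf 11042) (.leaf 0))) (.node (.node (.leaf 6944) (.leaf 0)) (.node (.leaf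 15140) (.leaf 0))))) (.node (.node (.node (.node (.leaf 1220) (.leaf 18212)) (.node (.leaf 10018) (.leaf 0))) (.node (.node (.leaf 5926) (.leaf 0)) (.node (.leaf 14116) (.leaf 0)))) (.node (.node (.node (.leaf 3456) (.leaf 0)) (.node (.leaf 5697) (.leaf 0))) (.node (.node (.leaf 7619) (.leaf 0)) (.node (.leaf 6308) (.leaf 0)))))))) (.node (.node (.node (.node (.node (.node (.node (.leaf 164) (.leaf 16548)) (.node (.leaf 8354) (.leaf 0))) (.node (.node (.leaf 4260) (.leaf 0)) (.node (.leaf 12453) (.leaf 0)))) (.node (.node (.node (.leaf 2213) (.leaf 10213)) (.node (.leaf 5344) (.leaf 0))) (.node (.node (.leaf 6306) (.leaf 0)) (.node (.leaf 14501) (.leaf 0))))) (.node (.node (.node (.node (.leaf 1188) (.leaf 17573)) (.node (.leaf 9092) (.leaf 0))) (.node (.node (.leaf 5283) (.leaf 0)) (.node (.leaf 13477) (.leaf 0)))) (.node (.node (.node (.leaf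 3236) (.leaf 19618)) (.node (.leaf 11429) (.leaf 0))) (.node (.node (.leaf 7330) (.leaf 0)) (.node (.leaf 15520) (.leaf 0)))))) (.node (.node (.node (.node (.node (.leaf 676) (.leaf 17061)) (.node (.leaf 8866) (.leaf 0))) (.node (.node (.leaf 389) (.leaf 0)) (.node (.leaf 12962) (.leaf 0)))) (.node (.node (.node (.leaf 2720) (.leaf 5957)) (.node (.leaf 10917) (.leaf 0))) (.node (.node (.leaf 6820) (.leaf 0)) (.node (.leaf 15013) (.leaf 0))))) (.node (.node (.node (.node (.leaf 1701) (.leaf 18082)) (.node (.leaf 9893) (.leaf 0))) (.node (.node (.leaf 3872) (.leaf 0)) (.node (.leaf 13349) (.leaf 0)))) (.node (.node (.node (.leaf 3746) (.leaf 0)) (.node (.leaf 11936) (.leaf 0))) (.node (.node (.leaf 7842) (.leaf 0)) (.node (.leaf 16036) (.leaf 0))))))) (.node (.node (.node (.node (.node (.node (.leaf 420) (.leaf 16804)) (.node (.leaf 8610) (.leaf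 0))) (.node (.node (.leaf 4516) (.leaf 0)) (.node (.leaf 12706) (.leaf 0)))) (.node (.node (.node (.leaf 2469) (.leaf 18853)) (.node (.leaf 9408) (.leaf 0))) (.node (.node (.leaf 6562) (.leaf 0)) (.node (.leaf 14757) (.leaf 0))))) (.node (.node (.node (.node (.leaf 1443) (.leaf 17504)) (.node (.leaf 9635) (.leaf 0))) (.node (.node (.leaf 5540) (.leaf 0)) (.node (.leaf 13733) (.leaf 0)))) (.node (.node (.node (.leaf 3490) (.leaf 0)) (.node (.leaf 6658) (.leaf 0))) (.node (.node (.leaf 7585) (.leaf 0)) (.node (.leaf 15780) (.leaf 0)))))) (.node (.node (.node (.node (.node (.leaf 934) (.leaf 17318)) (.node (.leaf 9123) (.leaf 0))) (.node (.node (.leaf 5024) (.leaf 0)) (.node (.leaf 6085) (.leaf 0)))) (.node (.node (.node (.leaf 2977) (.leaf 19365)) (.node (.leaf 11170) (.leaf 0))) (.node (.node (.leaf 7077) (.leaf 0)) (.node (.leaf 15268) (.leaf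 0))))) (.node (.node (.node (.node (.leaf 1957) (.leaf 18336)) (.node (.leaf 10146) (.leaf 0))) (.node (.node (.leaf 6053) (.leaf 0)) (.node (.leaf 14240) (.leaf 0)))) (.node (.node (.node (.leaf 4002) (.leaf 0)) (.node (.leaf 12194) (.leaf 0))) (.node (.node (.leaf 320) (.leaf 0)) (.node (.leaf 10212) (.leaf 0)))))))))) (.node (.node (.node (.node (.node (.node (.node (.node (.node (.leaf 6) (.leaf 15332)) (.node (.leaf 8194) (.leaf 0))) (.node (.node (.leaf 4099) (.leaf 0)) (.node (.leaf 3840) (.leaf 0)))) (.node (.node (.node (.leaf 2050) (.leaf 17217)) (.node (.leaf 10244) (.leaf 0))) (.node (.node (.leaf 6146) (.leaf 0)) (.node (.leaf 13280) (.leaf 0))))) (.node (.node (.node (.node (.leaf 1027) (.leaf 17413)) (.node (.leaf 9221) (.leaf 0))) (.node (.node (.leaf 352) (.leaf 0)) (.node (.leaf 13314) (.leaf 0)))) (.node (.node (.node (.leaf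 3077) (.leaf 19458)) (.node (.leaf 11268) (.leaf 0))) (.node (.node (.leaf 7168) (.leaf 0)) (.node (.leaf 15364) (.leaf 0)))))) (.node (.node (.node (.node (.node (.leaf 518) (.leaf 16900)) (.node (.leaf 8708) (.leaf 0))) (.node (.node (.leaf 288) (.leaf 0)) (.node (.leaf 12804) (.leaf 0)))) (.node (.node (.node (.leaf 2562) (.leaf 18754)) (.node (.leaf 6273) (.leaf 0))) (.node (.node (.leaf 6660) (.leaf 0)) (.node (.leaf 14850) (.leaf 0))))) (.node (.node (.node (.node (.leaf 1536) (.leaf 17925)) (.node (.leaf 9733) (.leaf 0))) (.node (.node (.leaf 3874) (.leaf 0)) (.node (.leaf 13826) (.leaf 0)))) (.node (.node (.node (.leaf 3584) (.leaf 0)) (.node (.leaf 11780) (.leaf 0))) (.node (.node (.leaf 7682) (.leaf 0)) (.node (.leaf 15875) (.leaf 0))))))) (.node (.node (.node (.node (.node (.node (.leaf 262) (.leaf 16640)) (.node (.leaf 8452) (.leaf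 0))) (.node (.node (.leaf 4352) (.leaf 0)) (.node (.leaf 12548) (.leaf 0)))) (.node (.node (.node (.leaf 2306) (.leaf 15168)) (.node (.leaf 10503) (.leaf 0))) (.node (.node (.leaf 6405) (.leaf 0)) (.node (.leaf 14594) (.leaf 0))))) (.node (.node (.node (.node (.leaf 864) (.leaf 17669)) (.node (.leaf 9472) (.leaf 0))) (.node (.node (.leaf 5378) (.leaf 0)) (.node (.leaf 13570) (.leaf 0)))) (.node (.node (.node (.leaf 3330) (.leaf 10978)) (.node (.leaf 11520) (.leaf 0))) (.node (.node (.leaf 7425) (.leaf 0)) (.node (.leaf 15621) (.leaf 0)))))) (.node (.node (.node (.node (.node (.leaf 36) (.leaf 17156)) (.node (.leaf 8964) (.leaf 0))) (.node (.node (.leaf 4866) (.leaf 0)) (.node (.leaf 10790) (.leaf 0)))) (.node (.node (.node (.leaf 2817) (.leaf 19202)) (.node (.leaf 11012) (.leaf 0))) (.node (.node (.leaf 4642) (.leaf 0)) (.node (.leaf 8480)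 (.leaf 0))))) (.node (.node (.node (.node (.leaf 1794) (.leaf 18176)) (.node (.leaf 9988) (.leaf 0))) (.node (.node (.leaf 5893) (.leaf 0)) (.node (.leaf 14082) (.leaf 0)))) (.node (.node (.node (.leaf 3844) (.leaf 0)) (.node (.leaf 11875) (.leaf 0))) (.node (.node (.leaf 7938) (.leaf 0)) (.node (.leaf 16130) (.leaf 0)))))))) (.node (.node (.node (.node (.node (.node (.node (.leaf 130) (.leaf 16512)) (.node (.leaf 8325) (.leaf 0))) (.node (.node (.leaf 3043) (.leaf 0)) (.node (.leaf 12418) (.leaf 0)))) (.node (.node (.node (.leaf 2182) (.leaf 18499)) (.node (.leaf 10371) (.leaf 0))) (.node (.node (.leaf 3808) (.leaf 0)) (.node (.leaf 14464) (.leaf 0))))) (.node (.node (.node (.node (.leaf 1153) (.leaf 17538)) (.node (.leaf 9347) (.leaf 0))) (.node (.node (.leaf 5253) (.leaf 0)) (.node (.leaf 13446) (.leaf 0)))) (.node (.node (.node (.leaf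 3203) (.leaf 19589)) (.node (.leaf 11395) (.leaf 0))) (.node (.node (.leaf 7301) (.leaf 0)) (.node (.leaf 15494) (.leaf 0)))))) (.node (.node (.node (.node (.node (.leaf 642) (.leaf 17026)) (.node (.leaf 8837) (.leaf 0))) (.node (.node (.leaf 4742) (.leaf 0)) (.node (.leaf 12933) (.leaf 0)))) (.node (.node (.node (.leaf 1858) (.leaf 10912)) (.node (.leaf 10882) (.leaf 0))) (.node (.node (.leaf 6784) (.leaf 0)) (.node (.leaf 14982) (.leaf 0))))) (.node (.node (.node (.node (.leaf 1248) (.leaf 18048)) (.node (.leaf 9858) (.leaf 0))) (.node (.node (.leaf 5762) (.leaf 0)) (.node (.leaf 13954) (.leaf 0)))) (.node (.node (.node (.leaf 2085) (.leaf 0)) (.node (.leaf 11908) (.leaf 0))) (.node (.node (.leaf 7813) (.leaf 0)) (.node (.leaf 16002) (.leaf 0))))))) (.node (.node (.node (.node (.node (.node (.leaf 386) (.leaf 16770)) (.node (.leaf 8581)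 (.leaf 0))) (.node (.node (.leaf 290) (.leaf 0)) (.node (.leaf 12677) (.leaf 0)))) (.node (.node (.node (.leaf 2438) (.leaf 18818)) (.node (.leaf 10624) (.leaf 0))) (.node (.node (.leaf 6532) (.leaf 0)) (.node (.leaf 14726) (.leaf 0))))) (.node (.node (.node (.node (.leaf 1409) (.leaf 17796)) (.node (.leaf 9603) (.leaf 0))) (.node (.node (.leaf 5506) (.leaf 0)) (.node (.leaf 13702) (.leaf 0)))) (.node (.node (.node (.leaf 3460) (.leaf 0)) (.node (.leaf 11655) (.leaf 0))) (.node (.node (.leaf 7556) (.leaf 0)) (.node (.leaf 15747) (.leaf 0)))))) (.node (.node (.node (.node (.node (.leaf 901) (.leaf 17285)) (.node (.leaf 9088) (.leaf 0))) (.node (.node (.leaf 4994) (.leaf 0)) (.node (.leaf 13189) (.leaf 0)))) (.node (.node (.node (.leaf 2724) (.leaf 19334)) (.node (.leaf 11141) (.leaf 0))) (.node (.node (.leaf 7041) (.leaf 0)) (.node (.leaf 15138)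 (.leaf 0))))) (.node (.node (.node (.node (.leaf 70) (.leaf 18310)) (.node (.leaf 10117) (.leaf 0))) (.node (.node (.leaf 6018) (.leaf 0)) (.node (.leaf 14210) (.leaf 0)))) (.node (.node (.node (.leaf 3968) (.leaf 0)) (.node (.leaf 9829) (.leaf 0))) (.node (.node (.leaf 8069) (.leaf 0)) (.node (.leaf 9474) (.leaf 0))))))))) (.node (.node (.node (.node (.node (.node (.node (.node (.leaf 66) (.leaf 16453)) (.node (.leaf 1984) (.leaf 0))) (.node (.node (.leaf 2016) (.leaf 0)) (.node (.leaf 12352) (.leaf 0)))) (.node (.node (.node (.leaf 2114) (.leaf 18497)) (.node (.leaf 10307) (.leaf 0))) (.node (.node (.leaf 6210) (.leaf 0)) (.node (.leaf 14404) (.leaf 0))))) (.node (.node (.node (.node (.leaf 1089) (.leaf 17472)) (.node (.leaf 9282) (.leaf 0))) (.node (.node (.leaf 5188) (.leaf 0)) (.node (.leaf 13378) (.leaf 0)))) (.node (.node (.node (.leaf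 3137) (.leaf 19522)) (.node (.leaf 11331) (.leaf 0))) (.node (.node (.leaf 4672) (.leaf 0)) (.node (.leaf 15426) (.leaf 0)))))) (.node (.node (.node (.node (.node (.leaf 578) (.leaf 16960)) (.node (.leaf 8772) (.leaf 0))) (.node (.node (.leaf 4674) (.leaf 0)) (.node (.leaf 12869) (.leaf 0)))) (.node (.node (.node (.leaf 2626) (.leaf 19011)) (.node (.leaf 6400) (.leaf 0))) (.node (.node (.leaf 6725) (.leaf 0)) (.node (.leaf 14914) (.leaf 0))))) (.node (.node (.node (.node (.leaf 1604) (.leaf 17989)) (.node (.leaf 9793) (.leaf 0))) (.node (.node (.leaf 5698) (.leaf 0)) (.node (.leaf 6080) (.leaf 0)))) (.node (.node (.node (.leaf 3650) (.leaf 0)) (.node (.leaf 11845) (.leaf 0))) (.node (.node (.leaf 7747) (.leaf 0)) (.node (.leaf 15936) (.leaf 0))))))) (.node (.node (.node (.node (.node (.node (.leaf 322) (.leaf 16706)) (.node (.leaf 8516) (.leaf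 0))) (.node (.node (.leaf 4418) (.leaf 0)) (.node (.leaf 12613) (.leaf 0)))) (.node (.node (.node (.leaf 2370) (.leaf 15648)) (.node (.leaf 5060) (.leaf 0))) (.node (.node (.leaf 6469) (.leaf 0)) (.node (.leaf 14658) (.leaf 0))))) (.node (.node (.node (.node (.leaf 1349) (.leaf 17732)) (.node (.leaf 9538) (.leaf 0))) (.node (.node (.leaf 5442) (.leaf 0)) (.node (.leaf 13634) (.leaf 0)))) (.node (.node (.node (.leaf 1956) (.leaf 0)) (.node (.leaf 10850) (.leaf 0))) (.node (.node (.leaf 7488) (.leaf 0)) (.node (.leaf 15684) (.leaf 0)))))) (.node (.node (.node (.node (.node (.leaf 836) (.leaf 11236)) (.node (.leaf 9028) (.leaf 0))) (.node (.node (.leaf 4640) (.leaf 0)) (.node (.leaf 13124) (.leaf 0)))) (.node (.node (.node (.leaf 2881) (.leaf 19266)) (.node (.leaf 11077) (.leaf 0))) (.node (.node (.leaf 6979) (.leaf 0)) (.node (.leaf 15170) (.leaf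 0))))) (.node (.node (.node (.node (.leaf 100) (.leaf 18242)) (.node (.leaf 10053) (.leaf 0))) (.node (.node (.leaf 5952) (.leaf 0)) (.node (.leaf 13920) (.leaf 0)))) (.node (.node (.node (.leaf 3909) (.leaf 0)) (.node (.leaf 12101) (.leaf 0))) (.node (.node (.leaf 8004) (.leaf 0)) (.node (.leaf 6212) (.leaf 0)))))))) (.node (.node (.node (.node (.node (.node (.node (.leaf 194) (.leaf 16578)) (.node (.leaf 8389) (.leaf 0))) (.node (.node (.leaf 4289) (.leaf 0)) (.node (.leaf 7364) (.leaf 0)))) (.node (.node (.node (.leaf 2242) (.leaf 18626)) (.node (.leaf 10434) (.leaf 0))) (.node (.node (.leaf 6340) (.leaf 0)) (.node (.leaf 14530) (.leaf 0))))) (.node (.node (.node (.node (.leaf 1216) (.leaf 17509)) (.node (.leaf 9409) (.leaf 0))) (.node (.node (.leaf 2022) (.leaf 0)) (.node (.leaf 13506) (.leaf 0)))) (.node (.node (.node (.leaf 3264) (.leaf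 19653)) (.node (.leaf 11459) (.leaf 0))) (.node (.node (.leaf 7361) (.leaf 0)) (.node (.leaf 15556) (.leaf 0)))))) (.node (.node (.node (.node (.node (.leaf 706) (.leaf 17094)) (.node (.leaf 8901) (.leaf 0))) (.node (.node (.leaf 4802) (.leaf 0)) (.node (.leaf 12996) (.leaf 0)))) (.node (.node (.node (.leaf 2755) (.leaf 19138)) (.node (.leaf 10950) (.leaf 0))) (.node (.node (.leaf 6850) (.leaf 0)) (.node (.leaf 8097) (.leaf 0))))) (.node (.node (.node (.node (.leaf 801) (.leaf 18116)) (.node (.leaf 9922) (.leaf 0))) (.node (.node (.leaf 5828) (.leaf 0)) (.node (.leaf 14018) (.leaf 0)))) (.node (.node (.node (.leaf 3780) (.leaf 0)) (.node (.leaf 11973) (.leaf 0))) (.node (.node (.leaf 7296) (.leaf 0)) (.node (.leaf 13442) (.leaf 0))))))) (.node (.node (.node (.node (.node (.node (.leaf 450) (.leaf 13632)) (.node (.leaf 8645) (.leaf 0))) (.node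 (.node (.leaf 4546) (.leaf 0)) (.node (.leaf 12740) (.leaf 0)))) (.node (.node (.node (.leaf 2498) (.leaf 10949)) (.node (.leaf 10693) (.leaf 0))) (.node (.node (.leaf 6596) (.leaf 0)) (.node (.leaf 14786) (.leaf 0))))) (.node (.node (.node (.node (.leaf 1473) (.leaf 17860)) (.node (.leaf 9668) (.leaf 0))) (.node (.node (.leaf 4354) (.leaf 0)) (.node (.leaf 13762) (.leaf 0)))) (.node (.node (.node (.leaf 3525) (.leaf 0)) (.node (.leaf 11712) (.leaf 0))) (.node (.node (.leaf 7200) (.leaf 0)) (.node (.leaf 15811) (.leaf 0)))))) (.node (.node (.node (.node (.node (.leaf 834) (.leaf 16004)) (.node (.leaf 9156) (.leaf 0))) (.node (.node (.leaf 5058) (.leaf 0)) (.node (.leaf 13250) (.leaf 0)))) (.node (.node (.node (.leaf 1888) (.leaf 19394)) (.node (.leaf 11200) (.leaf 0))) (.node (.node (.leaf 7105) (.leaf 0)) (.node (.leaf 5376) (.leaf 0)))))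 (.node (.node (.node (.node (.leaf 1986) (.leaf 18372)) (.node (.leaf 10176) (.leaf 0))) (.node (.node (.leaf 5824) (.leaf 0)) (.node (.leaf 14274) (.leaf 0)))) (.node (.node (.node (.leaf 4036) (.leaf 0)) (.node (.leaf 6912) (.leaf 0))) (.node (.node (.leaf 8128) (.leaf 0)) (.node (.leaf 16322) (.leaf 0))))))))))

def rows : CfsgLib.CosetEnum.Tree :=
  .leaf 107893706587045267399811424941783735292785457505921807447261725350428672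

def rep : CfsgLib.CosetEnum.Tree :=
  .leaf 0

def spec : List (ℕ × ℕ × ℕ) := [
    (0, 24, 1), (15, 2, 0), (18, 18, 0), (21, 9, 1), (15, 1, 1), (11, 2, 0), (20, 1, 1), (16, 3, 1),
    (12, 1, 1), (17, 6, 1), (11, 1, 1), (19, 2, 0), (2, 11, 1), (2, 7, 1), (3, 14, 1), (3, 8, 1),
    (10, 9, 0), (19, 16, 1), (6, 8, 1), (4, 6, 1), (4, 10, 1), (4, 7, 1), (7, 21, 0), (5, 8, 1),
    (2, 5, 1), (9, 5, 1), (20, 9, 0), (4, 4, 1), (13, 7, 1), (12, 3, 0), (2, 8, 1), (12, 2, 1),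
    (9, 11, 0), (20, 5, 1), (12, 2, 0), (19, 6, 1), (6, 6, 1), (6, 10, 1), (7, 14, 1), (2, 7, 0),
    (6, 1, 1), (6, 11, 1), (17, 10, 1), (18, 10, 1), (19, 11, 1), (16, 7, 1), (21, 5, 1), (9, 6, 1),
    (10, 7, 1), (6, 4, 0), (9, 14, 0), (19, 1, 1), (7, 16, 1), (16, 5, 1), (20, 2, 0), (13, 14, 0),
    (16, 6, 1), (19, 8, 1), (1, 1, 1), (9, 12, 1), (9, 11, 1), (0, 16, 1), (0, 8, 1), (2, 3, 1),
    (2, 2, 1), (13, 1, 1), (20, 7, 1), (14, 13, 1), (20, 1, 0), (21, 2, 1), (21, 6, 1), (21, 10, 1),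
    (11, 1, 0), (19, 2, 1), (1, 3, 0), (4, 9, 1), (6, 12, 0), (4, 1, 1), (1, 3, 1), (7, 13, 1),
    (3, 1, 1), (2, 12, 1), (3, 2, 1), (3, 6, 1), (4, 9, 0), (7, 21, 1), (9, 7, 1), (4, 11, 1),
    (5, 5, 1), (17, 6, 0), (10, 2, 1), (3, 14, 0), (10, 11, 1), (10, 13, 0), (9, 13, 1), (20, 7, 0),
    (19, 12, 1), (21, 7, 1), (7, 2, 1), (2, 6, 1), (3, 4, 1), (2, 10, 1), (16, 4, 1), (10, 8, 0),
    (10, 10, 1), (4, 8, 1), (8, 4, 1), (13, 12, 1), (7, 6, 0), (20, 6, 1), (10, 1, 1), (13, 2, 1),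
    (14, 9, 0), (14, 15, 0), (19, 19, 1), (9, 13, 0), (6, 7, 1), (3, 3, 1), (0, 12, 1), (7, 6, 1),
    (6, 4, 1), (5, 8, 0), (13, 11, 1), (18, 19, 1), (14, 16, 0), (20, 4, 0), (21, 10, 0), (16, 11, 1),
    (8, 10, 1), (0, 23, 1), (0, 2, 1), (6, 5, 0), (0, 21, 1), (6, 3, 1), (0, 6, 1), (16, 1, 1),
    (17, 4, 1), (19, 7, 1), (21, 2, 0), (0, 18, 1), (18, 15, 1), (17, 5, 1), (2, 13, 1), (3, 15, 1),
    (10, 8, 1), (4, 8, 0), (20, 8, 1), (1, 2, 1), (18, 9, 1), (18, 2, 1), (13, 8, 1), (14, 15, 1),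
    (20, 2, 1), (18, 8, 1), (5, 2, 1), (10, 9, 1), (2, 1, 1), (17, 9, 1), (16, 3, 0), (16, 5, 0),
    (9, 8, 1), (10, 12, 1), (5, 9, 1), (19, 17, 0), (3, 5, 0), (6, 9, 0), (7, 20, 1), (7, 11, 1),
    (8, 11, 1), (1, 2, 0), (17, 5, 0), (13, 13, 0), (10, 6, 1), (5, 13, 1), (0, 15, 1), (18, 5, 0),
    (18, 2, 0)]

def rules : List (ℕ × List ℕ) := [
    (16, []), (0, [0]), (16, [0, 1]), (1, [1]),
    (16, [1, 0]), (2, [2]), (16, [2, 3]), (3, [3]),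
    (16, [3, 2]), (4, [4]), (16, [4, 5]), (5, [5]),
    (16, [5, 4]), (6, [6]), (16, [6, 7]), (7, [7]),
    (16, [7, 6]), (8, [8]), (16, [8, 9]), (9, [9]),
    (16, [9, 8]), (10, [10]), (16, [10, 11]), (11, [11]),
    (16, [11, 10]), (12, [12]), (16, [12, 13]), (13, [13]),
    (16, [13, 12]), (14, [14]), (16, [14, 15]), (15, [15]),
    (16, [15, 14]), (6, [5, 3, 5, 3, 4, 3, 4, 7, 5, 3, 5, 3, 4, 3, 4, 7, 5, 3, 5, 3, 4, 3, 4, 7, 5, 3, 5, 3, 4, 3, 4]), (16, [7, 7]), (16, [5, 2, 5, 2, 4, 2, 4, 6, 5, 3, 5, 3, 4, 3, 4, 3, 4, 7, 5, 2]),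
    (0, [2, 4, 6, 5, 3, 1, 3, 4, 7, 5, 2]), (6, [7]), (16, [3, 3]), (2, [7, 0, 4, 1, 4, 1, 4, 6]),
    (2, [5, 3, 7, 3, 4, 3, 5, 3, 7, 3, 4]), (4, [5, 5]), (0, [7, 4, 3, 5, 1, 7, 4, 3, 5, 1, 7, 4, 3, 5]), (2, [3]),
    (16, [1, 7, 0, 4, 0, 2, 1, 5, 2, 4, 2, 5, 2, 6, 5, 3, 1, 3, 4, 1]), (2, [4, 1, 5, 0, 4, 0, 5, 2, 1, 3, 1, 2, 0]), (1, [4, 0, 5, 2, 1, 3, 1, 2, 0, 3, 4, 1, 5]), (1, [0, 5, 2, 1, 3, 0, 2, 0, 3, 4, 1, 1, 5, 1, 4]),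
    (1, [2, 0, 3, 4, 1, 1, 5, 1, 4, 0, 0, 5, 2, 1, 3]), (16, [1, 2, 0, 3, 4, 1, 1, 5, 5, 2, 0, 3, 4]), (3, [1, 5, 2, 4, 2, 5, 2, 6, 5, 3, 1, 3, 4, 1, 1, 7, 0, 4, 0]), (3, [1, 4, 0, 5, 2, 1, 3, 3, 4, 0, 5]),
    (2, [4, 1, 5, 2, 1, 3, 4, 0, 5, 2, 0]), (1, [5, 2, 0, 3, 4, 1, 5, 2, 1, 3, 4]), (1, [3, 4, 1, 5, 2, 1, 3, 4, 0, 5, 2]), (16, [2, 0, 3, 4, 1, 5, 2, 0, 3, 4, 1, 5, 2, 2, 0, 3, 4, 1, 1, 5, 3, 0]),
    (1, [3, 4, 0, 5, 2, 1, 1, 3, 2, 0, 3, 4, 1, 5, 2]), (1, [5, 2, 1, 3, 1, 2, 0, 3, 4, 1, 5, 0, 4]), (1, [5, 2, 1, 3, 5, 0, 2, 0, 3, 4, 1, 1, 4]), (16, [0, 4, 1, 4, 1, 4, 6, 3, 7]),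
    (0, [5, 2, 1, 3, 4, 0, 5, 2, 0, 3, 4]), (4, [3, 5, 3, 5, 3, 5, 3, 5, 3, 5, 3, 5, 3]), (16, [5, 5, 5]), (4, [0, 4, 0, 5, 2, 1, 3, 1, 2, 0, 3, 4, 1]),
    (4, [5, 5]), (16, [3, 4, 1, 1, 4, 0, 5, 2, 1, 3, 5, 0, 2, 0]), (5, [1, 4, 6, 3, 7, 0, 4, 1]), (16, [5, 5, 5]),
    (2, [1, 3, 4, 1, 1, 7, 0, 4, 0, 2, 1, 5, 2, 4, 2, 5, 2, 6, 5]), (5, [0, 5, 2, 1, 3, 3, 4, 0, 5, 2, 1]), (1, [5, 2, 1, 4, 0, 5, 2, 1, 3, 3, 4]), (3, [0, 3, 4, 1, 5, 2, 2, 0, 3, 4, 1, 1, 5, 3, 0, 2, 0, 3, 4, 1, 5]),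
    (16, [4, 0, 5, 2, 1, 3, 1, 2, 0, 3, 4, 1, 5, 0]), (2, [3, 4, 0, 5, 2, 1, 4, 0, 5, 2, 1]), (5, [0, 5, 2, 1, 4, 0, 5, 2, 1, 3, 3]), (6, [4, 3, 5, 1, 7, 4, 3, 5, 1, 7, 4, 3, 5, 1]),
    (7, [5, 3, 5, 3, 4, 3, 4, 3, 4, 7, 5, 2, 5, 2, 5, 2, 4, 2, 4]), (3, [5, 2, 6, 5, 3, 1, 3, 4, 1, 1, 7, 0, 4, 0, 2, 1, 5, 2, 4]), (2, [7, 3, 4, 3, 5, 3, 7, 3, 4, 3, 5]), (4, [3, 1, 3, 4, 7, 5, 2, 1, 2, 4, 6]),
    (5, [0, 5, 2, 1, 3, 5, 0, 2, 0, 3, 4, 1, 1]), (3, [0, 3, 4, 1, 1, 5, 5, 2, 0, 3, 4, 1]), (16, [2, 1, 3, 3, 4, 0, 5, 2, 1, 4, 0, 5]), (16, [0, 2, 0, 3, 4, 1, 1, 4, 0, 5, 2, 1, 3, 5]),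
    (0, [7, 0, 4, 0, 2, 1, 5, 2, 4, 2, 5, 2, 6, 5, 3, 1, 3, 4, 1]), (0, [5, 2, 0, 3, 4, 1, 5, 2, 2, 0, 3, 4, 1, 1, 5, 3, 0, 2, 0, 3, 4]), (2, [4, 3, 5, 3, 7, 3, 4, 3, 5, 3, 7]), (16, [3, 7, 0, 4, 1, 4, 1, 4, 6]),
    (16, [5, 3, 5, 3, 5, 3, 5, 3, 5, 3, 5, 3, 5, 3]), (6, [3, 4, 3, 5, 3, 7, 3, 4, 3, 5, 3]), (7, [5, 3, 1, 3, 4, 1, 1, 7, 0, 4, 0, 2, 1, 5, 2, 4, 2, 5, 2]), (0, [1, 1, 1]),
    (3, [0, 3, 4, 1, 1, 4, 0, 5, 2, 1, 3, 5, 0]), (1, [3, 4, 1, 1, 4, 0, 5, 2, 1, 3, 5, 0, 2]), (6, [5, 3, 5, 3, 4, 3, 4, 7, 5, 3, 5, 3, 4, 3, 4, 7, 5, 3, 5, 3, 4, 3, 4, 7, 5, 3, 5, 3, 4, 3, 4]), (6, [5, 3, 5, 3, 4, 3, 4, 7, 5, 3, 5, 3, 4, 3, 4, 7, 5, 3, 5, 3, 4, 3, 4, 7, 5, 3, 5, 3, 4, 3, 4]),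
    (3, [1, 3, 1, 2, 0, 3, 4, 1, 5, 0, 4, 0, 5]), (0, [3, 1, 2, 0, 3, 4, 1, 5, 0, 4, 0, 5, 2]), (4, [3, 5, 3, 5, 3, 5, 3, 5, 3, 5, 3, 5, 3]), (5, [1, 4, 1, 4, 6, 3, 7, 0]),
    (4, [3, 4, 2, 5, 3, 4, 2, 5, 3, 4, 2, 5, 3, 4, 2]), (16, [7, 0, 4, 1, 4, 1, 4, 6, 3]), (2, [4, 7, 5, 2, 1, 2, 4, 6, 5, 3, 1]), (7, [5, 3, 1, 3, 4, 7, 5, 2, 1, 2, 4]),
    (3, [1, 2, 4, 6, 5, 3, 1, 3, 4, 7, 5]), (16, [3, 3]), (0, [1, 7, 0, 4, 0, 2, 1, 5, 2, 4, 2, 5, 2, 6, 5, 3, 1, 3, 4]), (16, [1, 1, 1, 1]),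
    (4, [2, 0, 3, 4, 1, 5, 2, 1, 3, 4, 0]), (16, [4, 0, 5, 2, 1, 4, 0, 5, 2, 1, 3, 3]), (0, [3, 4, 0, 5, 2, 0, 3, 4, 1, 5, 2]), (0, [1, 1, 1]),
    (1, [3, 4, 1, 5, 2, 2, 0, 3, 4, 1, 1, 5, 3, 0, 2, 0, 3, 4, 1, 5, 2]), (4, [1, 4, 0, 0, 5, 2, 1, 3, 0, 2, 0, 3, 4, 1, 1]), (1, [3, 4, 1, 5, 0, 4, 0, 5, 2, 1, 3, 1, 2]), (0, [5, 1, 4, 0, 0, 5, 2, 1, 3, 0, 2, 0, 3, 4, 1]),
    (1, [3, 4, 1, 1, 5, 1, 4, 0, 0, 5, 2, 1, 3, 0, 2]), (16, [2, 0, 3, 4, 1, 5, 2, 1, 3, 4, 0, 5]), (1, [2, 0, 3, 4, 1, 5, 2, 0, 3, 4, 1, 5, 2, 2, 0, 3, 4, 1, 1, 5, 3]), (0, [4, 0, 5, 2, 1, 3, 5, 0, 2, 0, 3, 4, 1]),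
    (5, [0, 5, 2, 0, 3, 4, 1, 5, 2, 1, 3]), (1, [5, 2, 1, 1, 3, 2, 0, 3, 4, 1, 5, 2, 0, 3, 4]), (16, [7, 4, 3, 5, 1, 7, 4, 3, 5, 1, 7, 4, 3, 5, 1]), (0, [5, 5, 2, 0, 3, 4, 1, 2, 0, 3, 4, 1]),
    (16, [0, 5, 2, 1, 3, 0, 2, 0, 3, 4, 1, 1, 5, 1, 4, 0]), (1, [3, 4, 1, 2, 0, 3, 4, 1, 1, 5, 5, 2]), (16, [2, 0, 3, 4, 1, 2, 0, 3, 4, 1, 1, 5, 5]), (1, [2, 0, 3, 4, 1, 1, 4, 0, 5, 2, 1, 3, 5]),
    (16, [1, 4, 1, 4, 6, 3, 7, 0, 4]), (5, [2, 5, 2, 6, 5, 3, 1, 3, 4, 1, 1, 7, 0, 4, 0, 2, 1, 5, 2]), (5, [6, 5, 3, 1, 3, 4, 7, 5, 2, 1, 2]), (0, [5, 3, 0, 2, 0, 3, 4, 1, 5, 2, 0, 3, 4, 1, 5, 2, 2, 0, 3, 4, 1]),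
    (5, [0, 5, 2, 1, 3, 1, 2, 0, 3, 4, 1, 5, 0]), (5, [1, 1, 5, 1, 4, 0, 0, 5, 2, 1, 3, 0, 2, 0, 3]), (5, [1, 5, 0, 4, 0, 5, 2, 1, 3, 1, 2, 0, 3]), (5, [3, 5, 3, 7, 3, 4, 3, 5, 3, 7, 3]),
    (16, [2, 0, 3, 4, 1, 1, 5, 5, 2, 0, 3, 4, 1]), (2, [4, 1, 2, 0, 3, 4, 1, 1, 5, 5, 2, 0]), (3, [0, 3, 4, 1, 5, 2, 1, 3, 4, 0, 5]), (0, [3, 4, 1, 5, 2, 0, 3, 4, 0, 5, 2]),
    (2, [5, 3, 5, 3, 5, 3, 5, 3, 5, 3, 5, 3, 5]), (16, [3, 4, 1, 1, 5, 3, 0, 2, 0, 3, 4, 1, 5, 2, 0, 3, 4, 1, 5, 2, 2, 0]), (0, [4, 1, 4, 6, 3, 7, 0, 4]), (4, [5, 2, 0, 3, 4, 1, 2, 0, 3, 4, 1, 1]),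
    (2, [5, 3, 5, 3, 5, 3, 5, 3, 5, 3, 5, 3, 5]), (16, [3, 4, 2, 5, 3, 4, 2, 5, 3, 4, 2, 5, 3, 4, 2, 5]), (16, [2, 5, 3, 4, 2, 5, 3, 4, 2, 5, 3, 4, 2, 5, 3, 4]), (1, [4, 0, 2, 1, 5, 2, 4, 2, 5, 2, 6, 5, 3, 1, 3, 4, 1, 1, 7]),
    (16, [2, 0, 3, 4, 1, 1, 4, 0, 5, 2, 1, 3, 5, 0]), (0, [4, 0, 5, 2, 1, 3, 3, 4, 0, 5, 2]), (0, [1, 5, 1, 4, 0, 0, 5, 2, 1, 3, 0, 2, 0, 3, 4]), (2, [4, 3, 4, 7, 5, 3, 5, 3, 4, 3, 4, 7, 5, 3, 5, 3, 4, 3, 4, 7, 5, 3, 5, 3, 4, 3, 4, 7, 5, 3, 5]),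
    (1, [3, 4, 1, 1, 5, 3, 0, 2, 0, 3, 4, 1, 5, 2, 0, 3, 4, 1, 5, 2, 2]), (4, [2, 1, 3, 3, 4, 0, 5, 2, 1, 4, 0]), (16, [3, 4, 0, 5, 2, 1, 1, 3, 2, 0, 3, 4, 1, 5, 2, 0]), (4, [3, 5, 3, 5, 3, 5, 3, 5, 3, 5, 3, 5, 3]),
    (4, [2, 5, 2, 5, 2, 4, 2, 4, 6, 5, 3, 5, 3, 4, 3, 4, 3, 4, 7]), (16, [4, 2, 5, 3, 4, 2, 5, 3, 4, 2, 5, 3, 4, 2, 5, 3]), (16, [4, 6, 3, 7, 0, 4, 1, 4, 1]), (16, [1, 2, 4, 6, 5, 3, 1, 3, 4, 7, 5, 2]),
    (2, [4, 3, 5, 3, 7, 3, 4, 3, 5, 3, 7]), (1, [3, 4, 0, 5, 2, 1, 3, 4, 1, 5, 2]), (4, [3, 5, 3, 4, 3, 4, 7, 5, 3, 5, 3, 4, 3, 4, 7, 5, 3, 5, 3, 4, 3, 4, 7, 5, 3, 5, 3, 4, 3, 4, 7]), (2, [4, 7, 5, 3, 5, 3, 4, 3, 4, 7, 5, 3, 5, 3, 4, 3, 4, 7, 5, 3, 5, 3, 4, 3, 4, 7, 5, 3, 5, 3, 4]),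
    (16, [5, 2, 1, 3, 3, 4, 0, 5, 2, 1, 4, 0]), (4, [3, 4, 3, 4, 7, 5, 3, 5, 3, 4, 3, 4, 7, 5, 3, 5, 3, 4, 3, 4, 7, 5, 3, 5, 3, 4, 3, 4, 7, 5, 3]), (3, [1, 3, 3, 4, 0, 5, 2, 1, 4, 0, 5]), (2, [5, 3, 4, 3, 4, 7, 5, 3, 5, 3, 4, 3, 4, 7, 5, 3, 5, 3, 4, 3, 4, 7, 5, 3, 5, 3, 4, 3, 4, 7, 5]),
    (2, [7, 3, 4, 3, 5, 3, 7, 3, 4, 3, 5]), (5, [3, 5, 1, 7, 4, 3, 5, 1, 7, 4, 3, 5, 1, 7]), (4, [3, 1, 3, 4, 1, 1, 7, 0, 4, 0, 2, 1, 5, 2, 4, 2, 5, 2, 6]), (16, [4, 7, 5, 2, 1, 2, 4, 6, 5, 3, 1, 3]),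
    (2, [4, 7, 5, 3, 5, 3, 4, 3, 4, 7, 5, 3, 5, 3, 4, 3, 4, 7, 5, 3, 5, 3, 4, 3, 4, 7, 5, 3, 5, 3, 4]), (4, [2, 4, 2, 4, 6, 5, 3, 5, 3, 4, 3, 4, 3, 4, 7, 5, 2, 5, 2]), (6, [4, 3, 5, 1, 7, 4, 3, 5, 1, 7, 4, 3, 5, 1]), (3, [0, 3, 4, 1, 5, 0, 4, 0, 5, 2, 1, 3, 1]),
    (5, [0, 0, 5, 2, 1, 3, 0, 2, 0, 3, 4, 1, 1, 5, 1]), (0, [2, 0, 3, 4, 1, 1, 5, 5, 2, 0, 3, 4]), (16, [0, 3, 4, 1, 5, 2, 1, 3, 4, 0, 5, 2]), (1, [4, 1, 4, 1, 4, 6, 3, 7]),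
    (0, [1, 1, 1]), (4, [3, 5, 3, 4, 3, 4, 3, 4, 7, 5, 2, 5, 2, 5, 2, 4, 2, 4, 6]), (2, [4, 7, 5, 2, 5, 2, 5, 2, 4, 2, 4, 6, 5, 3, 5, 3, 4, 3, 4]), (2, [5, 3, 5, 3, 5, 3, 5, 3, 5, 3, 5, 3, 5]),
    (5, [2, 5, 3, 4, 2, 5, 3, 4, 2, 5, 3, 4, 2, 5, 3]), (7, [3, 7, 0, 4, 1, 4, 1, 4]), (2, [5, 3, 4, 3, 4, 3, 4, 7, 5, 2, 5, 2, 5, 2, 4, 2, 4, 6, 5]), (0, [1, 3, 2, 0, 3, 4, 1, 5, 2, 0, 3, 4, 0, 5, 2]),
    (5, [1, 2, 0, 3, 4, 1, 1, 5, 5, 2, 0, 3]), (2, [1, 2, 0, 3, 4, 1, 5, 0, 4, 0, 5, 2, 1]), (5, [3, 5, 1, 7, 4, 3, 5, 1, 7, 4, 3, 5, 1, 7]), (16, [5, 3, 7, 3, 4, 3, 5, 3, 7, 3, 4, 3]),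
    (16, [4, 3, 5, 3, 7, 3, 4, 3, 5, 3, 7, 3]), (0, [1, 4, 0, 5, 2, 1, 3, 5, 0, 2, 0, 3, 4]), (3, [0, 3, 4, 1, 2, 0, 3, 4, 1, 1, 5, 5]), (3, [0, 3, 4, 0, 5, 2, 1, 1, 3, 2, 0, 3, 4, 1, 5]),
    (16, [2, 1, 5, 2, 4, 2, 5, 2, 6, 5, 3, 1, 3, 4, 1, 1, 7, 0, 4, 0]), (16, [4, 1, 1, 5, 1, 4, 0, 0, 5, 2, 1, 3, 0, 2, 0, 3]), (16, [2, 1, 4, 0, 5, 2, 1, 3, 3, 4, 0, 5]), (3, [0, 3, 4, 1, 5, 2, 0, 3, 4, 1, 5, 2, 2, 0, 3, 4, 1, 1, 5, 3, 0]),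
    (5, [1, 5, 2, 2, 0, 3, 4, 1, 1, 5, 3, 0, 2, 0, 3, 4, 1, 5, 2, 0, 3]), (3, [0, 3, 4, 0, 5, 2, 1, 3, 4, 1, 5]), (16, [1, 1, 1, 1]), (16, [4, 3, 5, 1, 7, 4, 3, 5, 1, 7, 4, 3, 5, 1, 7]),
    (16, [3, 5, 3, 5, 3, 5, 3, 5, 3, 5, 3, 5, 3, 5]), (1, [3, 4, 1, 1, 5, 5, 2, 0, 3, 4, 1, 2]), (2, [4, 1, 5, 2, 0, 3, 4, 0, 5, 2, 1, 1, 3, 2, 0]), (4, [3, 5, 3, 4, 3, 4, 7, 5, 3, 5, 3, 4, 3, 4, 7, 5, 3, 5, 3, 4, 3, 4, 7, 5, 3, 5, 3, 4, 3, 4, 7]),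
    (16, [3, 4, 3, 4, 7, 5, 2, 5, 2, 5, 2, 4, 2, 4, 6, 5, 3, 5, 3, 4]), (16, [4, 7, 5, 2, 5, 2, 5, 2, 4, 2, 4, 6, 5, 3, 5, 3, 4, 3, 4, 3])]

end CfsgHSType.Small
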