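import Cfsg.Agent.Lib.HSType.Engine
import Cfsg.Agent.Lib.HSType.SmallData

/-!
Kernel checks of the collapsing enumeration.
-/

set_option autoImplicit false
set_option maxRecDepth 100000
set_option maxHeartbeats 4000000
set_option Elab.async false

namespace CfsgHSType

/-- The collapsing enumeration. -/
def smallT : Closed :=
  ⟨⟨Small.facts, Small.nf, Small.par, [], [], Small.rules, [], [0, 1, 2, 3, 4, 5], 0, 8⟩, Small.rep, Small.rows, Small.size⟩

theorem small_facts0 : smallT.cert.okFacts 0 1000 = true := by decide +kernel

theorem small_facts1 : smallT.cert.okFacts 1000 1000 = true := by decide +kernel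

theorem small_facts2 : smallT.cert.okFacts 2000 2 = true := by decide +kernel

theorem small_rows : smallT.okRows 0 Small.size = true := by decide +kernel

theorem small_zero : smallT.reps.get 0 = 0 ∧ smallT.n = 1 := by decide +kernel

end CfsgHSType
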