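import Cfsg.Agent.Lib.HSType.BigChecks0
import Cfsg.Agent.Lib.HSType.BigChecks1
import Cfsg.Agent.Lib.HSType.BigChecks2
import Cfsg.Agent.Lib.HSType.BigChecks3
import Cfsg.Agent.Lib.HSType.SmallChecks

/-!
Kernel checks of the rows of the large enumeration and the two index bounds.
-/

set_option autoImplicit false
set_option maxRecDepth 100000
set_option maxHeartbeats 4000000
set_option Elab.async false

namespace CfsgHSType

open CfsgAutL34.Enum

theorem big_rows : bigT.okRows 0 4125 = true := by decide +kernel

theorem big_zero : bigT.reps.get 0 = 0 ∧ bigT.n = 4125 ∧ bigT.cert.nf = 26641 ∧ smallT.cert.nf = Small.nf ∧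
    Small.nf = 2002 := by decide +kernel

variable {G : Type*} [Group G] [Finite G]

theorem big_index {L : List G} (hL : L.length ≤ 8) {K : Subgroup G} (hsub : ∀ x < 6, letG L x ∈ K)
    (hrule : ∀ r ∈ Big.rules, letG L r.1 = evW L r.2)
    (hgen : Subgroup.closure {g | ∃ x < 8, g = letG L x} = ⊤) : K.index ≤ 4125 := by
  obtain ⟨h0, hn, hnf, -, -⟩ := big_zero
  refine (Closed.index_le (T := bigT) hL (fun x hx => hsub x ?_) hrule ?_ ?_ h0 ?_ hgen).trans hn.le
  · simp [bigT] at hx; omega
  · rw [hnf]
    refine Closed.all_of_chunks (T := bigT) (len := 3500) (by norm_num) fun k hk => ?_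
    have : k < 8 := by omega
    interval_cases k
    · exact Or.inl big_facts0
    · exact Or.inl big_facts1
    · exact Or.inl big_facts2
    · exact Or.inl big_facts3
    · exact Or.inl big_facts4
    · exact Or.inl big_facts5
    · exact Or.inl big_facts6
    · exact Or.inr big_facts7
  · rw [hn]
    intro d hd
    have h := big_rows
    simp only [Closed.okRows, List.all_eq_true, List.mem_range] at h
    simpa using h d hd
  · rw [hn]; norm_num

theorem small_index {L : List G} (hL : L.length ≤ 8) {K : Subgroup G} (hsub : ∀ x < 6, letG L x ∈ K)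
    (hrule : ∀ r ∈ Small.rules, letG L r.1 = evW L r.2)
    (hgen : Subgroup.closure {g | ∃ x < 8, g = letG L x} = ⊤) : K = ⊤ := by
  obtain ⟨h0, hn⟩ := small_zero
  obtain ⟨-, -, -, hnf, h2002⟩ := big_zero
  refine Subgroup.index_eq_one.mp ?_
  have h1 : K.index ≠ 0 := Subgroup.index_ne_zero_of_finite
  have h : K.index ≤ 1 := by
    refine (Closed.index_le (T := smallT) hL (fun x hx => hsub x ?_) hrule ?_ ?_ h0 ?_ hgen).trans hn.le
    · simp [smallT] at hx; omega
    · rw [hnf, h2002]
      refine Closed.all_of_chunks (T := smallT) (len := 1000) (by norm_num) fun k hk => ?_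
      have : k < 3 := by omega
      interval_cases k
      · exact Or.inl small_facts0
      · exact Or.inl small_facts1
      · exact Or.inr small_facts2
    · rw [hn]
      intro d hd
      have h := small_rows
      simp only [Closed.okRows, List.all_eq_true, List.mem_range] at h
      simpa using h d (by show d < Small.size; rw [show Small.size = 1 from hn]; exact hd)
    · rw [hn]; norm_num
  omega

end CfsgHSType
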