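import Cfsg.Agent.Lib.HSType.AutoChecks
import Cfsg.Agent.Lib.HSType.RelData
import Cfsg.Agent.Lib.HSType.BigRows

/-!
Finite facts for the braid relation and the relators.
-/

set_option autoImplicit false
set_option maxRecDepth 100000
set_option maxHeartbeats 4000000
set_option Elab.async false

namespace CfsgHSType

open CfsgLib.CosetEnum (force)
open CfsgAutL34.Enum (rulesOf winv flipL)

/-- The elementary subgroup used for the braid relation. -/
def braidB : List ℕ := [0, 2, 32, 34, 1024, 1026, 1056, 1058, 1216, 1218, 1248, 1250, 1536, 1538, 1568, 1570]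

/-- The element of the normaliser. -/
def gB : ℕ := 5632

/-- The element fixed. -/
def bFix : ℕ := 1568

/-- The normal key. -/
def kZero : Key := ⟨0, 0, 0, 0⟩

/-- The permutation induced on the elementary subgroup. -/
noncomputable def piB (b : ℕ) : ℕ :=
  match seqT kZero [10752, cjM gB b, 10752] with
  | some (0, x) => x
  | _ => 10752

theorem braid_perm : (braidB.all fun b => braidB.contains (piB b) && Nat.beq (piB (piB (piB (piB b)))) b &&
    (!Nat.beq (piB b) b || Nat.beq b 0 || Nat.beq b bFix)) = true ∧ gB < 10752 ∧ bFix < 10752 ∧
    (braidB.all fun b => Nat.blt b 10752) = true ∧ braidB.contains tC = true ∧ evM wG = gB ∧ evM wB = bFix := by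
  decide +kernel

/-- A state which cannot commute with the whole elementary subgroup, or lies in it. -/
noncomputable def centOK (i x : ℕ) : Bool :=
  (Nat.beq i 0 && braidB.contains x) || braidB.any fun b => match kZero.pT b (i, x) with
    | some s => !(s == (i, mulM x b))
    | none => false

theorem braid_cent : ((List.range 10752).all fun x => !Nat.beq (mulM x tC) (mulM tC x) ||
    (List.range 5).all fun i => centOK i x) = true ∧
    ((List.range 10752).filter fun x => Nat.beq (mulM x tC) (mulM tC x)).length = 1536 := by decide +kernel

/-- Cancel a letter against the head. -/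
def redCons (x : ℕ) : List ℕ → List ℕ
  | [] => [x]
  | y :: w => if y = flipL x then w else x :: y :: w

/-- Free reduction. -/
def redW (w : List ℕ) : List ℕ := w.foldr redCons []

theorem rels_eval : (relsM.all fun w => (w.all fun k => Nat.blt k 6) && Nat.beq (evM w) 0) = true ∧
    (relsH.all fun w => (w.all fun k => Nat.blt k 8) && (kZero.ev w (0, 0) == some (0, 0))) = true ∧
    extBad = redW (extGood ++ winv wB) ∧
    extGood = (List.replicate 4 ([6] ++ wG)).flatten ∧ (wG ++ wB).all (fun k => Nat.blt k 6) = true := by
  decide +kernel

theorem rules_eq : Big.rules = rulesOf (extBad :: (relsM ++ relsH)) Big.spec ∧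
    Small.rules = rulesOf (extGood :: (relsM ++ relsH)) Small.spec := by decide +kernel

theorem braid_commutes : ∀ b ∈ braidB, Nat.beq (mulM b tC) (mulM tC b) = true := by decide +kernel

end CfsgHSType
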