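import Cfsg.Agent.Lib.HSType.HData
import Cfsg.Agent.Lib.HSType.BraidChecks

/-!
The braid relation holds, so all relators of the large enumeration hold.
-/

set_option autoImplicit false
set_option maxRecDepth 10000

namespace CfsgHSType

open Cfsg
open CfsgAutL34.Enum

attribute [local irreducible] actV lmul linv lstep vadd vneg vsmul appM mulM invM cjM sAt uAt fget mlet Delta.dat0 coreCand Dec.tab Key.pT Key.dT Key.ev

theorem evW_redW {G : Type*} [Group G] (L : List G) (w : List ℕ) : evW L (redW w) = evW L w := by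
  induction w with
  | nil => rfl
  | cons x w ih =>
    rw [evW_cons, ← ih]
    show evW L (redCons x (redW w)) = _
    generalize redW w = r
    cases r with
    | nil => simp [redCons, evW_one, evW_nil]
    | cons y v =>
      rw [redCons]
      split
      · next h => rw [evW_cons, h, letG_flip, ← mul_assoc, mul_inv_cancel, one_mul]
      · rw [evW_cons]

theorem evW_map {G H : Type*} [Group G] [Group H] (f : G →* H) (L : List G) (w : List ℕ) :
    f (evW L w) = evW (L.map f) w := by
  induction w with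
  | nil => simp [evW_nil]
  | cons x w ih =>
    rw [evW_cons, evW_cons, map_mul, ih]
    congr 1
    unfold letG
    simp only [List.getD_eq_getElem?_getD, List.getElem?_map]
    cases L[x / 2]? <;> simp [apply_ite f]

theorem evW_flatten_replicate {G : Type*} [Group G] (L : List G) (w : List ℕ) (n : ℕ) :
    evW L (List.replicate n w).flatten = evW L w ^ n := by
  induction n with
  | zero => simp [evW_nil]
  | succ n ih => rw [List.replicate_succ, List.flatten_cons, evW_append, ih, pow_succ']

variable {G : Type*} [Group G] [Finite G] {t : G} {R M : Subgroup G}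

namespace HData

variable (Y : HData t R M) (C : CentData t R)

/-- The four generators. -/
def gens : List G := [Y.X.D.a1, Y.X.D.al, Y.X.D.be, Y.d]

omit [Finite G] in
theorem dd : Y.d * Y.d = 1 := by
  have := Y.rel.sq
  rwa [sE, show key0.r0 = 0 from rfl, cent_consts.2.1, MGens.toM_zero Y.X.ok] at this

omit [Finite G] in
theorem evW_small {w : List ℕ} (hw : ∀ k ∈ w, k < 6) : evW Y.gens w = Y.X.D.toM (evM w) := by
  rw [(MGens.toM_evM Y.X.ok w hw).2, gens]
  exact (evW_three_four _ _ _ _ w hw).symm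

include C in
theorem d_not_mem : ∀ x < 10752, Y.X.D.toM x ≠ Y.d := by
  intro x hx e
  have h1 : HRel.val Y.X.D Y.d (1, 0) = Y.d := by
    simp [HRel.val, HRel.rep, MGens.toM_zero Y.X.ok, calc_maps.2.1]
  have h0 : HRel.val Y.X.D Y.d (0, x) = Y.d := by
    simp [HRel.val, HRel.rep, e]
  have := Y.ov.state_inj C (s1 := (1, 0)) (s2 := (0, x)) ⟨by norm_num, by norm_num⟩ ⟨by norm_num, hx⟩
    (by rw [h1]; exact Y.ov.dcomm) (h1.trans h0.symm)
  simp at this

include C in
/-- Every element of the centraliser is the value of a state. -/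
theorem cover {h : G} (hh : h * t = t * h) : ∃ st, HRel.Good st ∧ HRel.val Y.X.D Y.d st = h ∧
    Nat.beq (mulM st.2 tC) (mulM tC st.2) = true := by
  classical
  let P : Finset ℕ := ((List.range 10752).filter fun x => Nat.beq (mulM x tC) (mulM tC x)).toFinset
  have hP : ∀ x ∈ P, x < 10752 ∧ Nat.beq (mulM x tC) (mulM tC x) = true := fun x hx => by simpa [P] using hx
  have hcard : P.card = 1536 := by
    rw [List.toFinset_card_of_nodup (List.nodup_range.filter _)]; exact braid_cent.2
  have hmem : ∀ p : Fin 5 × ↥P, HRel.val Y.X.D Y.d (p.1, p.2) ∈ Subgroup.centralizer ({t} : Set G) := by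
    intro p
    obtain ⟨hx, hc⟩ := hP _ p.2.2
    obtain ⟨-, U, hU, -⟩ := Y.ov.mult_img C p.1.2
    have hx' : Y.X.D.toM (p.2 : ℕ) ∈ Subgroup.centralizer ({t} : Set G) :=
      Subgroup.mem_centralizer_singleton_iff.2 (Y.X.mem_cent C hx (Nat.eq_of_beq_eq_true hc))
    refine Subgroup.mul_mem _ ?_ hx'
    simp only [HRel.rep]
    split
    · exact Subgroup.one_mem _
    · exact Subgroup.mul_mem _ (hU ▸ U.2) (Subgroup.mem_centralizer_singleton_iff.2 Y.ov.dcomm)
  let F : Fin 5 × ↥P → ↥(Subgroup.centralizer ({t} : Set G)) := fun p => ⟨_, hmem p⟩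
  have hinj : Function.Injective F := by
    intro a b e
    have := Y.ov.state_inj C (s1 := (a.1, a.2)) (s2 := (b.1, b.2)) ⟨a.1.2, (hP _ a.2.2).1⟩ ⟨b.1.2, (hP _ b.2.2).1⟩
      (Subgroup.mem_centralizer_singleton_iff.1 (hmem a)) (congrArg Subtype.val e)
    simp only [Prod.mk.injEq] at this
    exact Prod.ext (Fin.ext this.1) (Subtype.ext this.2)
  have hsur := (hinj.bijective_of_nat_card_le (by
    rw [C.cardH, Nat.card_prod, Nat.card_fin, Nat.card_eq_fintype_card, Fintype.card_coe, hcard])).2
  obtain ⟨p, hp⟩ := hsur ⟨h, Subgroup.mem_centralizer_singleton_iff.2 hh⟩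
  exact ⟨(p.1, p.2), ⟨p.1.2, (hP _ p.2.2).1⟩, congrArg Subtype.val hp, (hP _ p.2.2).2⟩

include C in
/-- The fourth power of the product is one of two elements. -/
theorem braid_two : (Y.d * Y.X.D.toM gB) ^ 4 = 1 ∨ (Y.d * Y.X.D.toM gB) ^ 4 = Y.X.D.toM bFix := by
  obtain ⟨hperm, hg, hb, hBlt, htB, -, -⟩ := braid_perm
  have h := Y.rel
  have hok := Y.X.ok
  have hdi : Y.d⁻¹ = Y.d := inv_eq_of_mul_eq_one_right Y.dd
  obtain ⟨w, hw⟩ : ∃ w, w = Y.d * Y.X.D.toM gB := ⟨_, rfl⟩
  rw [← hw]
  simp only [List.all_eq_true, Bool.and_eq_true, List.contains_iff_mem, Nat.blt_eq] at hperm hBlt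
  have hpi : ∀ b ∈ braidB, w * Y.X.D.toM b * w⁻¹ = Y.X.D.toM (piB b) := by
    intro b hb'
    have hbl := hBlt b hb'
    have hm := hBlt _ (hperm b hb').1.1
    have hc := mulM_lt (mulM_lt hg hbl) (invM_lt hg)
    have hcj : cjM gB b < 10752 := by with_unfolding_all exact hc
    unfold piB at hm ⊢
    split at hm
    · next x hx =>
      obtain ⟨g1, v1⟩ := seqT_sound h (l := [10752, cjM gB b, 10752]) (by simp; omega) hx
      simp only [HRel.val, HRel.rep, if_true, one_mul] at v1
      simp only [List.map_cons, List.map_nil, if_true, if_neg (by omega : ¬ cjM gB b = 10752), List.prod_cons,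
        List.prod_nil, mul_one, MGens.toM_cjM hok hg hbl] at v1
      show w * Y.X.D.toM b * w⁻¹ = Y.X.D.toM x
      refine Eq.trans ?_ v1.symm
      rw [hw, mul_inv_rev, hdi]
      group
    · simp at hm
  have h4 : ∀ b ∈ braidB, Commute (w ^ 4) (Y.X.D.toM b) := by
    intro b hb'
    have m1 := (hperm b hb').1.1
    have m2 := (hperm _ m1).1.1
    have m3 := (hperm _ m2).1.1
    show w ^ 4 * Y.X.D.toM b = Y.X.D.toM b * w ^ 4
    refine mul_inv_eq_iff_eq_mul.1 ?_
    have e := Nat.eq_of_beq_eq_true (hperm b hb').1.2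
    conv_rhs => rw [← e]
    rw [← hpi _ m3, ← hpi _ m2, ← hpi _ m1, ← hpi _ hb']
    simp only [pow_succ, pow_zero, one_mul, mul_inv_rev, mul_assoc]
  have htb : Y.X.D.toM tC = t := Y.X.hTC
  have hwt : w ^ 4 * t = t * w ^ 4 := htb ▸ (h4 tC (List.contains_iff_mem.1 htB)).eq
  obtain ⟨⟨i, x⟩, ⟨hi, hx⟩, hv, hc⟩ := Y.cover C hwt
  dsimp only at hi hx hc
  have hcase := List.all_eq_true.mp braid_cent.1 x (List.mem_range.mpr hx)
  rw [hc] at hcase
  simp only [Bool.not_true, Bool.false_or, List.all_eq_true, List.mem_range] at hcase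
  have hci := hcase i hi
  rw [centOK, Bool.or_eq_true, List.any_eq_true] at hci
  obtain ⟨hi0, hxB⟩ : i = 0 ∧ x ∈ braidB := by
    rcases hci with hci | ⟨b, hb', hci⟩
    · rw [Bool.and_eq_true, List.contains_iff_mem] at hci
      exact ⟨Nat.eq_of_beq_eq_true hci.1, hci.2⟩
    exfalso
    split at hci
    · next s hs =>
      rw [show kZero = key0 from rfl] at hs
      obtain ⟨g1, v1⟩ := h.pT_sound (hBlt b hb') (⟨hi, hx⟩ : HRel.Good (i, x)) hs
      rw [hv, ← (h4 b hb').eq, ← hv] at v1
      have hbt : Y.X.D.toM b * t = t * Y.X.D.toM b := by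
        have hd := Y.X.mem_cent C (hBlt b hb') (Nat.eq_of_beq_eq_true (by exact braid_commutes b hb'))
        exact hd
      have e : s = (i, mulM x b) := Y.ov.state_inj C g1 ⟨hi, mulM_lt hx (hBlt b hb')⟩
        (by rw [v1, hv]; exact ((show Commute (w ^ 4) t from hwt).mul_left hbt).eq)
        (by rw [v1]; simp only [HRel.val]; rw [MGens.toM_mul hok hx (hBlt b hb')]; group)
      simp [e] at hci
    · simp at hci
  subst hi0
  simp only [HRel.val, HRel.rep, if_true, one_mul] at hv
  have hfix : piB x = x := by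
    have hm := hBlt _ (hperm x hxB).1.1
    refine Y.X.inj _ hm _ hx ?_
    rw [← hpi x hxB, hv]
    group
  have h3 := (hperm x hxB).2
  rw [Bool.or_eq_true, Bool.or_eq_true] at h3
  rcases h3 with (h1 | h1) | h1
  · rw [hfix, Nat.beq_refl] at h1; simp at h1
  · left
    rw [← hv, Nat.eq_of_beq_eq_true h1, MGens.toM_zero hok]
  · right
    rw [← hv, Nat.eq_of_beq_eq_true h1]

include C in
theorem rels_hold : ∀ w ∈ extBad :: (relsM ++ relsH), evW Y.gens w = 1 := by
  classical
  obtain ⟨hM, hH, hext, hgood, hlet⟩ := rels_eval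
  obtain ⟨-, -, -, -, -, hwG, hwB⟩ := braid_perm
  simp only [List.all_eq_true, Bool.and_eq_true, Nat.blt_eq, List.mem_append] at hM hH hlet
  have hMH : ∀ w ∈ relsM ++ relsH, evW Y.gens w = 1 := by
    intro w hw
    rcases List.mem_append.1 hw with hw | hw
    · rw [Y.evW_small (hM w hw).1, Nat.eq_of_beq_eq_true (hM w hw).2, MGens.toM_zero Y.X.ok]
    · obtain ⟨-, v⟩ := Y.rel.ev_sound (hH w hw).1 (⟨by norm_num, by norm_num⟩ : HRel.Good (0, 0))
        (beq_iff_eq.1 (hH w hw).2)
      simp only [HRel.val, HRel.rep, if_true, MGens.toM_zero Y.X.ok, mul_one] at v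
      exact v.symm
  have eG : evW Y.gens wG = Y.X.D.toM gB := by rw [Y.evW_small fun k hk => hlet k (Or.inl hk), hwG]
  have eB : evW Y.gens wB = Y.X.D.toM bFix := by rw [Y.evW_small fun k hk => hlet k (Or.inr hk), hwB]
  have eX : evW Y.gens extGood = (Y.d * Y.X.D.toM gB) ^ 4 := by
    rw [hgood, evW_flatten_replicate, evW_append, eG]
    simp [gens, evW, letG]
  intro w hw
  rcases List.mem_cons.1 hw with rfl | hw
  · rw [hext, evW_redW, evW_append, evW_winv, eX, eB]
    rcases Y.braid_two C with e | e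
    · exfalso
      -- the wrong relation collapses the group
      let L : List ↥(Subgroup.closure ({Y.X.D.a1, Y.X.D.al, Y.X.D.be, Y.d} : Set G)) :=
        [⟨_, Subgroup.subset_closure (by simp : Y.X.D.a1 ∈ _)⟩, ⟨_, Subgroup.subset_closure (by simp : Y.X.D.al ∈ _)⟩,
          ⟨_, Subgroup.subset_closure (by simp : Y.X.D.be ∈ _)⟩, ⟨_, Subgroup.subset_closure (by simp : Y.d ∈ _)⟩]
      have hmap : ∀ u, (Subgroup.closure _).subtype (evW L u) = evW Y.gens u := fun u => by
        rw [evW_map]; rfl
      let K : Subgroup ↥(Subgroup.closure ({Y.X.D.a1, Y.X.D.al, Y.X.D.be, Y.d} : Set G)) := M.comap (Subgroup.closure _).subtype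
      have hK : K = ⊤ := small_index (L := L) (by simp [L]) (fun x hx => by
        show (Subgroup.closure _).subtype (letG L x) ∈ M
        rw [← evW_one L x, hmap, Y.evW_small (w := [x]) (by simpa using hx)]
        exact (Y.X.range _).2 ⟨_, (MGens.toM_evM Y.X.ok [x] (by simpa using hx)).1, rfl⟩) (by
        rw [rules_eq.2]
        refine rulesOf_ok (by simp [L]) (fun u hu => ?_) _
        apply Subtype.ext
        rw [← Subgroup.coe_subtype, hmap]
        rcases List.mem_cons.1 hu with rfl | hu
        · rw [eX, e]; rfl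
        · rw [hMH u hu]; rfl) (by
        refine eq_top_iff.2 fun g hgt => ?_
        clear hgt
        obtain ⟨g, hg⟩ := g
        induction hg using Subgroup.closure_induction with
        | mem y hy =>
          refine Subgroup.subset_closure ?_
          simp only [Set.mem_insert_iff, Set.mem_singleton_iff] at hy
          rcases hy with rfl | rfl | rfl | rfl
          · exact ⟨0, by norm_num, by simp [L, letG]⟩
          · exact ⟨2, by norm_num, by simp [L, letG]⟩
          · exact ⟨4, by norm_num, by simp [L, letG]⟩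
          · exact ⟨6, by norm_num, by simp [L, letG]⟩
        | one => exact Subgroup.one_mem _
        | mul a b _ _ ha hb => exact Subgroup.mul_mem _ ha hb
        | inv a _ ha => exact Subgroup.inv_mem _ ha)
      have hdM : Y.d ∈ M := by
        have : (⟨Y.d, Subgroup.subset_closure (by simp)⟩ :
            ↥(Subgroup.closure ({Y.X.D.a1, Y.X.D.al, Y.X.D.be, Y.d} : Set G))) ∈ K := hK ▸ Subgroup.mem_top _
        exact this
      obtain ⟨x, hx, ex⟩ := (Y.X.range _).1 hdM
      exact Y.d_not_mem C x hx ex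
    · rw [e, mul_inv_cancel]
  · exact hMH w hw

end HData

end CfsgHSType
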