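import Cfsg.Agent.Lib.HSType.DeltaChecks
import Cfsg.Agent.Lib.HSType.DecData
import Cfsg.Agent.Lib.HSType.Base

/-!
A calculus on the five cosets of the centraliser over its part in the normaliser.
-/

set_option autoImplicit false

namespace CfsgHSType

open CfsgAutL34.Enum
open CfsgLib.CosetEnum (fld force)

/-- A key: which map, and the three elements of the core. -/
structure Key where
  /-- the map -/
  di : ℕ
  /-- the square -/
  r0 : ℕ
  /-- the second relation -/
  r1 : ℕ
  /-- the third relation -/
  r3 : ℕ
deriving DecidableEq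

/-- The second class. -/
noncomputable def c2C : ℕ := mulM Delta.dat0.c1 Delta.dat0.rho

/-- A coset multiplier. -/
def uAt (i : ℕ) : ℕ := Dec.mult.getD i 0

/-- The six products of the generators. -/
noncomputable def sixP (c : ℕ) : List ℕ :=
  [0, c, Delta.dat0.rho, mulM Delta.dat0.rho c, mulM Delta.dat0.rho Delta.dat0.rho,
    mulM (mulM Delta.dat0.rho Delta.dat0.rho) c]

namespace Key

variable (K : Key)

/-- The map. -/
def dF : ℕ := Delta.dat0.cls.getD K.di 0

/-- Its inverse. -/
def dI : ℕ := Dec.clsInv.getD K.di 0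

/-- The conjugate of the first class. -/
noncomputable def fc : ℕ := mulM (mulM (invM (sAt 0 K.r0)) (sAt 0 K.r1)) (invM Delta.dat0.c1)

/-- Multiplication of a state by an element of the centraliser in the normaliser. -/
noncomputable def pT (p : ℕ) (st : ℕ × ℕ) : Option (ℕ × ℕ) :=
  if st.1 = 0 then some (0, mulM p st.2) else
    force (mulM p (uAt st.1)) fun x => force (fld (Dec.tab.get (x / 64)) (12 * (x % 64)) 12) fun v =>
      force (v % 8) fun j => force (v / 8 % 8) fun w => force (v / 64) fun r =>
        bif Nat.beq (mulM (uAt j) (mulM (sAt 0 r) ((sixP Delta.dat0.c1).getD w 0))) x &&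
            Nat.blt 0 j && Nat.blt j 5 && Nat.blt w 6 && Nat.blt r 64 then
          some (j, mulM (mulM (sAt 0 (fget K.dI r)) ((sixP K.fc).getD w 0)) st.2)
        else none

/-- Multiplication of a state by the fifth generator. -/
noncomputable def dT (st : ℕ × ℕ) : Option (ℕ × ℕ) :=
  if st.1 = 0 then some (1, st.2) else if st.1 = 1 then some (0, mulM (sAt 0 K.r0) st.2) else
    force ([0, c2C, mulM Delta.dat0.c1 c2C].getD (st.1 - 2) 0) fun a =>
    match (List.range 6).find? (fun w => (coreCand.getD 0 []).contains (mulM a (invM ((sixP K.fc).getD w 0)))) with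
    | none => none
    | some w =>
      force ((coreCand.getD 0 []).idxOf (mulM a (invM ((sixP K.fc).getD w 0)))) fun r =>
        (K.pT (mulM (sAt 0 K.r3) (invM Delta.dat0.c3))
          (1, mulM (mulM (invM (sAt 0 K.r0)) (invM Delta.dat0.c3)) st.2)).bind fun st' =>
            K.pT (mulM (sAt 0 (fget K.dF r)) ((sixP Delta.dat0.c1).getD w 0)) st'

/-- The value of a word, read from the right, carrying an element of the normaliser. -/
noncomputable def evA : List ℕ → ℕ × ℕ → Option (ℕ × (ℕ × ℕ))
  | [], st => some (0, st)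
  | k :: w, st => (evA w st).bind fun r =>
      if k < 6 then some (mulM (mlet k) r.1, r.2) else
        (bif Nat.beq r.1 0 then some r.2 else K.pT r.1 r.2).bind fun s1 =>
          (if k = 7 then K.pT (invM (sAt 0 K.r0)) s1 else some s1).bind fun s2 =>
            (K.dT s2).map fun s3 => (0, s3)

/-- The state of a word. -/
noncomputable def ev (w : List ℕ) (st : ℕ × ℕ) : Option (ℕ × ℕ) :=
  (K.evA w st).bind fun r => bif Nat.beq r.1 0 then some r.2 else K.pT r.1 r.2

/-- Two evaluations which do not disagree. -/
def agree : Option (ℕ × ℕ) → Option (ℕ × ℕ) → Bool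
  | some a, some b => a == b
  | _, _ => true

/-- The consequences of the relations agree on the five cosets. -/
noncomputable def consistent : Bool :=
  (List.range 5).all fun i =>
    agree ((K.dT (i, 0)).bind K.dT) (K.pT (sAt 0 K.r0) (i, 0)) &&
    agree ((((K.pT Delta.dat0.c1 (i, 0)).bind K.dT).bind (K.pT Delta.dat0.c1)).bind K.dT) (K.pT (sAt 0 K.r1) (i, 0)) &&
    agree ((((((K.pT Delta.dat0.c3 (i, 0)).bind K.dT).bind (K.pT Delta.dat0.c3)).bind K.dT).bind
      (K.pT Delta.dat0.c3)).bind K.dT) (K.pT (sAt 0 K.r3) (i, 0))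

end Key

end CfsgHSType
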