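import Cfsg.Agent.Lib.HSType.Calc

/-!
Finite facts used by the calculus.
-/

set_option autoImplicit false
set_option maxRecDepth 100000
set_option maxHeartbeats 4000000
set_option Elab.async false

namespace CfsgHSType

theorem calc_consts : (Dec.mult.all fun x => Nat.blt x 10752) = true ∧ c2C < 10752 ∧ mlet 2 < 10752 ∧ mlet 3 < 10752 ∧
    mlet 4 < 10752 ∧ mlet 5 < 10752 ∧ (coreCand.getD 0 []).all (fun x => Nat.blt x 10752) = true ∧
    Delta.dat0.rho < 10752 ∧ Delta.dat0.c1 < 10752 ∧ Delta.dat0.c3 < 10752 := by decide +kernel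

theorem evM_one : ∀ k < 6, evM [k] = mlet k := by decide +kernel

theorem core_len : (coreCand.getD 0 []).length = 64 := by decide +kernel

theorem calc_maps : ([0, 1].all fun di => (List.range 64).all fun i =>
    Nat.beq (fget (Delta.dat0.cls.getD di 0) (fget (Dec.clsInv.getD di 0) i)) i &&
    Nat.blt (fget (Dec.clsInv.getD di 0) i) 64) = true ∧
    uAt 1 = 0 ∧ uAt 2 = Delta.dat0.c3 ∧ uAt 3 = mulM c2C Delta.dat0.c3 ∧
    uAt 4 = mulM Delta.dat0.c1 (mulM c2C Delta.dat0.c3) ∧ uAt 0 = 0 := by decide +kernel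

/-- A decomposition in the centraliser. -/
noncomputable def decAt (x : ℕ) : ℕ := CfsgLib.CosetEnum.fld (Dec.tab.get (x / 64)) (12 * (x % 64)) 12

theorem dec_total : ((List.range 10752).all fun x => !Nat.beq (mulM x tC) (mulM tC x) ||
    (CfsgLib.CosetEnum.force (decAt x) fun v => Nat.blt (v % 8) 5 && Nat.blt (v / 8 % 8) 6 && Nat.blt (v / 64) 64 &&
      Nat.beq (mulM (uAt (v % 8)) (mulM (sAt 0 (v / 64)) ((sixP Delta.dat0.c1).getD (v / 8 % 8) 0))) x)) = true := by
  decide +kernel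

theorem cent_consts : [Delta.dat0.rho, Delta.dat0.c1, Delta.dat0.c3, c2C].all (fun x =>
    Nat.beq (mulM x tC) (mulM tC x)) = true ∧ sAt 0 0 = 0 ∧ coreCand.getD 0 [] ≠ [] := by decide +kernel

end CfsgHSType
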