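import Cfsg.Agent.Lib.HSType.CalcChecks

/-!
The calculus computes products.
-/

set_option autoImplicit false

namespace CfsgHSType

open CfsgAutL34.Enum

attribute [local irreducible] actV lmul linv lstep vadd vneg vsmul mulM invM mlet fget sAt uAt Dec.tab Delta.dat0

theorem evM_single (k : ℕ) (hk : k < 6) : evM [k] = mlet k := evM_one k hk

theorem evW_three_four {G : Type*} [Group G] (a b c d : G) (w : List ℕ) (hw : ∀ k ∈ w, k < 6) :
    evW [a, b, c] w = evW [a, b, c, d] w := by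
  induction w with
  | nil => rfl
  | cons k w ih =>
    rw [evW_cons, evW_cons, ih fun y hy => hw y (List.mem_cons_of_mem _ hy)]
    have hk := hw k List.mem_cons_self
    congr 1
    interval_cases k <;> simp [letG]

/-- The element of a core index. -/
noncomputable def sE {G : Type*} [Group G] (D : MGens G) (i : ℕ) : G := D.toM (sAt 0 i)

/-- The relations of the fifth generator for a key. -/
structure HRel {G : Type*} [Group G] (D : MGens G) (d : G) (K : Key) : Prop where
  ok : D.Ok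
  di : K.di = 0 ∨ K.di = 1
  rho : d * D.toM Delta.dat0.rho = D.toM Delta.dat0.rho * d
  conj : ∀ i < 64, d * sE D i * d⁻¹ = sE D (fget K.dF i)
  sq : d * d = sE D K.r0
  rel1 : d * D.toM Delta.dat0.c1 * (d * D.toM Delta.dat0.c1) = sE D K.r1
  rel3 : d * D.toM Delta.dat0.c3 * (d * D.toM Delta.dat0.c3) * (d * D.toM Delta.dat0.c3) = sE D K.r3

namespace HRel

variable {G : Type*} [Group G] {D : MGens G} {d : G} {K : Key} (h : HRel D d K)

/-- The representative of a coset. -/
noncomputable def rep (D : MGens G) (d : G) (i : ℕ) : G := if i = 0 then 1 else D.toM (uAt i) * d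

/-- The element of a state. -/
noncomputable def val (D : MGens G) (d : G) (st : ℕ × ℕ) : G := rep D d st.1 * D.toM st.2

/-- A state is in range. -/
def Good (st : ℕ × ℕ) : Prop := st.1 < 5 ∧ st.2 < 10752

theorem sAt_lt (i : ℕ) : sAt 0 i < 10752 := by
  unfold sAt
  rcases Nat.lt_or_ge i (coreCand.getD 0 []).length with hi | hi
  · rw [List.getD_eq_getElem _ _ hi]
    have := List.all_eq_true.mp calc_consts.2.2.2.2.2.2.1 _ (List.getElem_mem hi)
    simpa using this
  · rw [List.getD_eq_default _ _ hi]; norm_num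

theorem uAt_lt (i : ℕ) : uAt i < 10752 := by
  unfold uAt
  rcases Nat.lt_or_ge i Dec.mult.length with hi | hi
  · rw [List.getD_eq_getElem _ _ hi]
    have := List.all_eq_true.mp calc_consts.1 _ (List.getElem_mem hi)
    simpa using this
  · rw [List.getD_eq_default _ _ hi]; norm_num

theorem six_lt {c : ℕ} (hc : c < 10752) (w : ℕ) : (sixP c).getD w 0 < 10752 := by
  obtain ⟨-, -, -, -, -, -, -, hr, -⟩ := calc_consts
  have hall : ∀ x ∈ sixP c, x < 10752 := by
    intro x hx
    simp only [sixP, List.mem_cons, List.not_mem_nil, or_false] at hx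
    rcases hx with rfl | rfl | rfl | rfl | rfl | rfl
    · norm_num
    · exact hc
    · exact hr
    · exact mulM_lt hr hc
    · exact mulM_lt hr hr
    · exact mulM_lt (mulM_lt hr hr) hc
  rcases Nat.lt_or_ge w (sixP c).length with hw | hw
  · rw [List.getD_eq_getElem _ _ hw]; exact hall _ (List.getElem_mem hw)
  · rw [List.getD_eq_default _ _ hw]; norm_num

theorem fc_lt : K.fc < 10752 := by
  obtain ⟨-, -, -, -, -, -, -, -, hc, -⟩ := calc_consts
  exact mulM_lt (mulM_lt (invM_lt (sAt_lt _)) (sAt_lt _)) (invM_lt hc)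

include h

theorem fc_eq : d * D.toM K.fc * d⁻¹ = D.toM Delta.dat0.c1 := by
  obtain ⟨-, -, -, -, -, -, -, -, hc, -⟩ := calc_consts
  rw [Key.fc, MGens.toM_mul h.ok (mulM_lt (invM_lt (sAt_lt _)) (sAt_lt _)) (invM_lt hc),
    MGens.toM_mul h.ok (invM_lt (sAt_lt _)) (sAt_lt _), MGens.toM_invM h.ok (sAt_lt _), MGens.toM_invM h.ok hc]
  change d * ((sE D K.r0)⁻¹ * sE D K.r1 * (D.toM Delta.dat0.c1)⁻¹) * d⁻¹ = _
  rw [← h.sq, ← h.rel1]
  group

theorem dI_conj {r : ℕ} (hr : r < 64) : sE D r * d = d * sE D (fget K.dI r) := by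
  have hm := List.all_eq_true.mp calc_maps.1 K.di (by rcases h.di with e | e <;> simp [e])
  have hm1 := List.all_eq_true.mp hm r (List.mem_range.mpr hr)
  simp only [Bool.and_eq_true, Nat.blt_eq] at hm1
  have e := h.conj _ hm1.2
  have e' : fget K.dF (fget K.dI r) = r := Nat.eq_of_beq_eq_true hm1.1
  simp only [Key.dI, Key.dF] at e e' ⊢
  rw [e'] at e
  exact (mul_inv_eq_iff_eq_mul.1 e).symm

theorem six_conj (w : ℕ) :
    D.toM ((sixP Delta.dat0.c1).getD w 0) * d = d * D.toM ((sixP K.fc).getD w 0) := by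
  obtain ⟨-, -, -, -, -, -, -, hr, hc, -⟩ := calc_consts
  have ef : D.toM Delta.dat0.c1 * d = d * D.toM K.fc := by
    rw [← h.fc_eq]; group
  have hf := fc_lt (K := K)
  have er := h.rho.symm
  rcases Nat.lt_or_ge w 6 with hw | hw
  · interval_cases w <;> simp only [sixP, List.getD_cons_zero, List.getD_cons_succ]
    · rw [MGens.toM_zero h.ok]; group
    · exact ef
    · exact er
    · rw [MGens.toM_mul h.ok hr hc, MGens.toM_mul h.ok hr hf, mul_assoc, ef, ← mul_assoc, er, mul_assoc]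
    · rw [MGens.toM_mul h.ok hr hr, mul_assoc, er, ← mul_assoc, er, mul_assoc]
    · rw [MGens.toM_mul h.ok (mulM_lt hr hr) hc, MGens.toM_mul h.ok (mulM_lt hr hr) hf, MGens.toM_mul h.ok hr hr,
        mul_assoc (D.toM Delta.dat0.rho * D.toM Delta.dat0.rho), ef, ← mul_assoc, mul_assoc (D.toM Delta.dat0.rho) _ d,
        er, ← mul_assoc, er]
      group
  · rw [List.getD_eq_default _ _ (by simpa [sixP] using hw), List.getD_eq_default _ _ (by simpa [sixP] using hw),
      MGens.toM_zero h.ok]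
    group

theorem pT_sound {p : ℕ} {st st' : ℕ × ℕ} (hp : p < 10752) (hst : Good st) (e : K.pT p st = some st') :
    Good st' ∧ val D d st' = D.toM p * val D d st := by
  obtain ⟨i, q⟩ := st
  obtain ⟨hi, hq⟩ := hst
  unfold Key.pT at e
  simp only [force_eq] at e
  split at e
  · next h0 =>
    simp only [Option.some.injEq] at e
    subst e
    refine ⟨⟨by norm_num, mulM_lt hp hq⟩, ?_⟩
    simp only [val, rep, h0, if_true, one_mul]
    exact MGens.toM_mul h.ok hp hq
  · next h0 =>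
    obtain ⟨v, hv⟩ : ∃ v, CfsgLib.CosetEnum.fld (Dec.tab.get (mulM p (uAt i) / 64)) (12 * (mulM p (uAt i) % 64)) 12 = v :=
      ⟨_, rfl⟩
    rw [hv] at e
    cases hb : (Nat.beq (mulM (uAt (v % 8)) (mulM (sAt 0 (v / 64)) ((sixP Delta.dat0.c1).getD (v / 8 % 8) 0)))
        (mulM p (uAt i)) && Nat.blt 0 (v % 8) && Nat.blt (v % 8) 5 && Nat.blt (v / 8 % 8) 6 && Nat.blt (v / 64) 64) with
    | false =>
      rw [hb] at e
      simp at e
    | true =>
      rw [hb] at e
      simp only [cond_true, Option.some.injEq] at e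
      simp only [Bool.and_eq_true, Nat.blt_eq] at hb
      obtain ⟨⟨⟨⟨hx, hj0⟩, hj⟩, hw⟩, hr⟩ := hb
      subst e
      obtain ⟨-, -, -, -, -, -, -, -, hc, -⟩ := calc_consts
      have h6 := six_lt hc (v / 8 % 8)
      have h6' := six_lt (fc_lt (K := K)) (v / 8 % 8)
      refine ⟨⟨hj, mulM_lt (mulM_lt (sAt_lt _) h6') hq⟩, ?_⟩
      have hx' := congrArg D.toM (Nat.eq_of_beq_eq_true hx)
      rw [MGens.toM_mul h.ok (uAt_lt _) (mulM_lt (sAt_lt _) h6), MGens.toM_mul h.ok (sAt_lt _) h6,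
        MGens.toM_mul h.ok hp (uAt_lt _)] at hx'
      simp only [val, rep, if_neg h0, if_neg (by omega : ¬ v % 8 = 0)]
      rw [MGens.toM_mul h.ok (mulM_lt (sAt_lt _) h6') hq, MGens.toM_mul h.ok (sAt_lt _) h6']
      change _ * ((sE D (fget K.dI (v / 64))) * _ * _) = _
      calc D.toM (uAt (v % 8)) * d * (sE D (fget K.dI (v / 64)) * D.toM ((sixP K.fc).getD (v / 8 % 8) 0) * D.toM q)
          = D.toM (uAt (v % 8)) * (d * sE D (fget K.dI (v / 64))) * D.toM ((sixP K.fc).getD (v / 8 % 8) 0) * D.toM q := by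
            group
        _ = D.toM (uAt (v % 8)) * (sE D (v / 64) * d) * D.toM ((sixP K.fc).getD (v / 8 % 8) 0) * D.toM q := by
            rw [h.dI_conj hr]
        _ = D.toM (uAt (v % 8)) * sE D (v / 64) * (d * D.toM ((sixP K.fc).getD (v / 8 % 8) 0)) * D.toM q := by group
        _ = D.toM (uAt (v % 8)) * sE D (v / 64) * (D.toM ((sixP Delta.dat0.c1).getD (v / 8 % 8) 0) * d) * D.toM q := by
            rw [h.six_conj]
        _ = D.toM (uAt (v % 8)) * (D.toM (sAt 0 (v / 64)) * D.toM ((sixP Delta.dat0.c1).getD (v / 8 % 8) 0)) * d *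
            D.toM q := by rw [sE]; group
        _ = _ := by rw [hx']; group

theorem dT_sound {st st' : ℕ × ℕ} (hst : Good st) (e : K.dT st = some st') :
    Good st' ∧ val D d st' = d * val D d st := by
  obtain ⟨i, q⟩ := st
  obtain ⟨hi, hq⟩ := hst
  obtain ⟨-, hc2, -, -, -, -, -, hr, hc1, hc3⟩ := calc_consts
  obtain ⟨-, hu1, hu2, hu3, hu4, -⟩ := calc_maps
  unfold Key.dT at e
  simp only [force_eq] at e hi hq
  by_cases h0 : i = 0
  · simp only [h0, if_true, Option.some.injEq] at e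
    subst e
    refine ⟨⟨by norm_num, hq⟩, ?_⟩
    simp [val, rep, h0, hu1, MGens.toM_zero h.ok]
  by_cases h1 : i = 1
  · simp only [if_neg h0, h1, if_true, Option.some.injEq] at e
    simp only [one_ne_zero, if_false, if_true, Option.some.injEq] at e
    subst e
    refine ⟨⟨by norm_num, mulM_lt (sAt_lt _) hq⟩, ?_⟩
    simp only [val, rep, h1, one_ne_zero, if_false, if_true, one_mul, hu1, MGens.toM_zero h.ok]
    rw [MGens.toM_mul h.ok (sAt_lt _) hq, show D.toM (sAt 0 K.r0) = sE D K.r0 from rfl, ← h.sq]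
    group
  simp only [if_neg h0, if_neg h1] at e
  obtain ⟨a, ha⟩ : ∃ a, [0, c2C, mulM Delta.dat0.c1 c2C].getD (i - 2) 0 = a := ⟨_, rfl⟩
  rw [ha] at e
  split at e
  · simp at e
  next w hw =>
  have hw2 := List.find?_some hw
  have hw1 := List.mem_range.1 (List.mem_of_find?_eq_some hw)
  rw [List.contains_iff_mem] at hw2
  obtain ⟨r, hr'⟩ : ∃ r, (coreCand.getD 0 []).idxOf (mulM a (invM ((sixP K.fc).getD w 0))) = r := ⟨_, rfl⟩
  rw [hr'] at e
  have hrl : r < (coreCand.getD 0 []).length := hr' ▸ List.idxOf_lt_length_of_mem hw2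
  have hr64 : r < 64 := by
    rwa [core_len] at hrl
  have hsr : sAt 0 r = mulM a (invM ((sixP K.fc).getD w 0)) := by
    unfold sAt
    rw [List.getD_eq_getElem _ _ hrl]
    subst hr'
    exact List.getElem_idxOf hrl
  have ha' : a < 10752 ∧ D.toM (uAt i) = D.toM a * D.toM Delta.dat0.c3 := by
    have : i = 2 ∨ i = 3 ∨ i = 4 := by omega
    rcases this with rfl | rfl | rfl <;> subst ha
    · exact ⟨by simp, by simp [hu2, MGens.toM_zero h.ok]⟩
    · refine ⟨by simpa using hc2, ?_⟩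
      rw [hu3, MGens.toM_mul h.ok hc2 hc3]
      rfl
    · refine ⟨by simpa using mulM_lt hc1 hc2, ?_⟩
      rw [hu4, MGens.toM_mul h.ok hc1 (mulM_lt hc2 hc3), MGens.toM_mul h.ok hc2 hc3]
      show _ = D.toM (mulM Delta.dat0.c1 c2C) * _
      rw [MGens.toM_mul h.ok hc1 hc2, mul_assoc]
  obtain ⟨s1, e1, e2⟩ : ∃ s1, K.pT (mulM (sAt 0 K.r3) (invM Delta.dat0.c3))
      (1, mulM (mulM (invM (sAt 0 K.r0)) (invM Delta.dat0.c3)) q) = some s1 ∧
      K.pT (mulM (sAt 0 (fget K.dF r)) ((sixP Delta.dat0.c1).getD w 0)) s1 = some st' := Option.bind_eq_some_iff.1 e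
  have hg1 : Good (1, mulM (mulM (invM (sAt 0 K.r0)) (invM Delta.dat0.c3)) q) :=
    ⟨by norm_num, mulM_lt (mulM_lt (invM_lt (sAt_lt _)) (invM_lt hc3)) hq⟩
  obtain ⟨g1, v1⟩ := h.pT_sound (mulM_lt (sAt_lt _) (invM_lt hc3)) hg1 e1
  have h6 := six_lt hc1 w
  have h6' := six_lt (fc_lt (K := K)) w
  obtain ⟨g2, v2⟩ := h.pT_sound (mulM_lt (sAt_lt _) h6) g1 e2
  refine ⟨g2, ?_⟩
  rw [v2, v1]
  simp only [val, rep, one_ne_zero, if_false, hu1, MGens.toM_zero h.ok, one_mul, if_neg h0]
  rw [MGens.toM_mul h.ok (sAt_lt _) h6, MGens.toM_mul h.ok (sAt_lt _) (invM_lt hc3), MGens.toM_invM h.ok hc3,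
    MGens.toM_mul h.ok (mulM_lt (invM_lt (sAt_lt _)) (invM_lt hc3)) hq,
    MGens.toM_mul h.ok (invM_lt (sAt_lt _)) (invM_lt hc3), MGens.toM_invM h.ok (sAt_lt _), MGens.toM_invM h.ok hc3]
  change sE D (fget K.dF r) * D.toM ((sixP Delta.dat0.c1).getD w 0) *
    (sE D K.r3 * (D.toM Delta.dat0.c3)⁻¹ * (d * ((sE D K.r0)⁻¹ * (D.toM Delta.dat0.c3)⁻¹ * D.toM q))) = _
  have e6 : D.toM ((sixP Delta.dat0.c1).getD w 0) = d * D.toM ((sixP K.fc).getD w 0) * d⁻¹ := by
    rw [← h.six_conj]; group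
  have ea : D.toM a = sE D r * D.toM ((sixP K.fc).getD w 0) := by
    rw [sE, hsr, MGens.toM_mul h.ok ha'.1 (invM_lt h6'), MGens.toM_invM h.ok h6']
    group
  rw [ha'.2, ea, ← h.rel3, ← h.sq, ← h.conj r hr64, e6]
  group

theorem evA_sound (w : List ℕ) (hw : ∀ k ∈ w, k < 8) : ∀ {st : ℕ × ℕ}, Good st → ∀ {r : ℕ × (ℕ × ℕ)},
    K.evA w st = some r → r.1 < 10752 ∧ Good r.2 ∧
      D.toM r.1 * val D d r.2 = evW [D.a1, D.al, D.be, d] w * val D d st := by
  induction w with
  | nil =>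
    intro st hst r e
    simp only [Key.evA, Option.some.injEq] at e
    subst e
    exact ⟨by norm_num, hst, by rw [MGens.toM_zero h.ok, evW_nil]⟩
  | cons k w ih =>
    intro st hst r e
    obtain ⟨r1, e1, e2⟩ : ∃ r1, K.evA w st = some r1 ∧ (if k < 6 then some (mulM (mlet k) r1.1, r1.2) else
        (bif Nat.beq r1.1 0 then some r1.2 else K.pT r1.1 r1.2).bind fun s1 =>
          (if k = 7 then K.pT (invM (sAt 0 K.r0)) s1 else some s1).bind fun s2 =>
            (K.dT s2).map fun s3 => (0, s3)) = some r := Option.bind_eq_some_iff.1 e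
    obtain ⟨h1, hg, hv⟩ := ih (fun y hy => hw y (List.mem_cons_of_mem _ hy)) hst e1
    have hk8 := hw k List.mem_cons_self
    rw [evW_cons, mul_assoc, ← hv]
    by_cases hk : k < 6
    · rw [if_pos hk, Option.some.injEq] at e2
      subst e2
      obtain ⟨hl, el⟩ := MGens.toM_evM h.ok [k] (by simpa using hk)
      have ek : evM [k] = mlet k := evM_single k hk
      rw [ek] at hl el
      refine ⟨mulM_lt hl h1, hg, ?_⟩
      show D.toM (mulM (mlet k) r1.1) * _ = _
      rw [MGens.toM_mul h.ok hl h1, el, evW_one, mul_assoc]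
      congr 1
      interval_cases k <;> simp [letG]
    rw [if_neg hk] at e2
    obtain ⟨s1, q1, e2⟩ := Option.bind_eq_some_iff.1 e2
    obtain ⟨s2, q2, e2⟩ := Option.bind_eq_some_iff.1 e2
    obtain ⟨s3, q3, rfl⟩ := Option.map_eq_some_iff.1 e2
    obtain ⟨g1, v1⟩ : Good s1 ∧ val D d s1 = D.toM r1.1 * val D d r1.2 := by
      cases hb : Nat.beq r1.1 0 with
      | false =>
        rw [hb] at q1
        exact h.pT_sound h1 hg q1
      | true =>
        rw [hb] at q1
        simp only [cond_true, Option.some.injEq] at q1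
        subst q1
        rw [Nat.eq_of_beq_eq_true hb, MGens.toM_zero h.ok, one_mul]
        exact ⟨hg, rfl⟩
    have hlet : k = 6 ∨ k = 7 := by omega
    rcases hlet with rfl | rfl
    · simp only [show (6 : ℕ) ≠ 7 by norm_num, if_false, Option.some.injEq] at q2
      subst q2
      obtain ⟨g3, v3⟩ := h.dT_sound g1 q3
      refine ⟨by norm_num, g3, ?_⟩
      rw [MGens.toM_zero h.ok, one_mul, v3, v1]
      simp [letG]
    · simp only [if_true] at q2
      obtain ⟨g2, v2⟩ := h.pT_sound (invM_lt (sAt_lt _)) g1 q2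
      obtain ⟨g3, v3⟩ := h.dT_sound g2 q3
      refine ⟨by norm_num, g3, ?_⟩
      rw [MGens.toM_zero h.ok, one_mul, v3, v2, v1, MGens.toM_invM h.ok (sAt_lt _)]
      change d * ((sE D K.r0)⁻¹ * _) = _
      rw [← h.sq]
      simp [letG, mul_assoc]

theorem ev_sound {w : List ℕ} (hw : ∀ k ∈ w, k < 8) {st st' : ℕ × ℕ} (hst : Good st) (e : K.ev w st = some st') :
    Good st' ∧ val D d st' = evW [D.a1, D.al, D.be, d] w * val D d st := by
  obtain ⟨r, e1, e2⟩ := Option.bind_eq_some_iff.1 e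
  obtain ⟨h1, hg, hv⟩ := h.evA_sound w hw hst e1
  rw [← hv]
  cases hb : Nat.beq r.1 0 with
  | false =>
    rw [hb] at e2
    exact h.pT_sound h1 hg e2
  | true =>
    rw [hb] at e2
    simp only [cond_true, Option.some.injEq] at e2
    subst e2
    rw [Nat.eq_of_beq_eq_true hb, MGens.toM_zero h.ok, one_mul]
    exact ⟨hg, rfl⟩

end HRel

end CfsgHSType
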