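import Cfsg.Agent.Lib.HSType.FusChecks

/-!
Survivors of the second centraliser, part 0.
-/

set_option autoImplicit false
set_option maxRecDepth 100000
set_option maxHeartbeats 4000000
set_option Elab.async false

namespace CfsgHSType

theorem cent_part0 : centStats 0 5 = (240, 27, true) := by decide +kernel

theorem cent_part1 : centStats 5 5 = (96, 0, true) := by decide +kernel

theorem cent_part2 : centStats 10 5 = (192, 0, true) := by decide +kernel

theorem cent_part3 : centStats 15 5 = (192, 8, true) := by decide +kernel

theorem cent_part4 : centStats 20 5 = (144, 4, true) := by decide +kernel

theorem cent_part5 : centStats 25 5 = (144, 4, true) := by decide +kernel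

theorem cent_part6 : centStats 30 5 = (144, 4, true) := by decide +kernel

theorem cent_part7 : centStats 35 5 = (96, 0, true) := by decide +kernel

theorem cent_part8 : centStats 40 5 = (144, 4, true) := by decide +kernel

theorem cent_part9 : centStats 45 5 = (192, 4, true) := by decide +kernel

end CfsgHSType
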