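import Cfsg.Agent.Lib.HSType.FusChecks

/-!
Survivors of the second centraliser, part 1.
-/

set_option autoImplicit false
set_option maxRecDepth 100000
set_option maxHeartbeats 4000000
set_option Elab.async false

namespace CfsgHSType

theorem cent_part10 : centStats 50 5 = (96, 0, true) := by decide +kernel

theorem cent_part11 : centStats 55 5 = (96, 0, true) := by decide +kernel

theorem cent_part12 : centStats 60 5 = (192, 12, true) := by decide +kernel

theorem cent_part13 : centStats 65 5 = (144, 4, true) := by decide +kernel

theorem cent_part14 : centStats 70 5 = (96, 0, true) := by decide +kernel

theorem cent_part15 : centStats 75 5 = (48, 0, true) := by decide +kernel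

theorem cent_part16 : centStats 80 5 = (192, 0, true) := by decide +kernel

theorem cent_part17 : centStats 85 5 = (48, 0, true) := by decide +kernel

theorem cent_part18 : centStats 90 5 = (192, 0, true) := by decide +kernel

theorem cent_part19 : centStats 95 5 = (192, 4, true) := by decide +kernel

end CfsgHSType
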