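import Cfsg.Agent.Lib.HSType.ModelIso
import Cfsg.Agent.Lib.HSType.CentCount0
import Cfsg.Agent.Lib.HSType.CentCount1

/-!
The second centraliser in the permutation group.
-/

set_option autoImplicit false
set_option maxRecDepth 10000

namespace CfsgHSType

open Equiv
open CfsgAutL34.Enum (evW)
open CfsgPC (Rep Level TableOK Valid genG prodSet ap level_entry level_next sizeOfChain)
open CfsgLib.CosetEnum (force)
open CfsgLeech.Models (hsChain hs_model hs_size)

attribute [local irreducible] CfsgLeech.Models.hsChain CfsgLeech.Models.hsRigid imgCodes uC tailE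

/-- What the levels of a table give. -/
theorem chain_levels {n : ℕ} (hn : n ≤ 512) {ls : List Level} {gs : List ℕ} (h : TableOK n ls gs) :
    Valid n gs → ∀ j < ls.length, ∀ k < (ls.getD j ⟨0, [], [], []⟩).tr.length, ∃ T ∈ genG n gs,
      Rep n ((ls.getD j ⟨0, [], [], []⟩).tc k) T ∧ Rep n ((ls.getD j ⟨0, [], [], []⟩).ti k) T⁻¹ ∧
      ap ((ls.getD j ⟨0, [], [], []⟩).tc k) (ls.getD j ⟨0, [], [], []⟩).base = (ls.getD j ⟨0, [], [], []⟩).pt k ∧
      (ls.getD j ⟨0, [], [], []⟩).pos.getD ((ls.getD j ⟨0, [], [], []⟩).pt k) 0 = k ∧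
      ∀ i < j, ap ((ls.getD j ⟨0, [], [], []⟩).tc k) (ls.getD i ⟨0, [], [], []⟩).base =
        (ls.getD i ⟨0, [], [], []⟩).base := by
  induction h with
  | nil gs => intro _ j hj; simp at hj
  | @cons L ls gs hb hlen hent hsel _ ih =>
    intro hv
    obtain ⟨hnv, hnle⟩ := level_next hn hv hb hent hsel
    rintro (_ | j) hj k hk
    · simp only [List.getD_cons_zero] at hk ⊢
      obtain ⟨T, hT, hr, hri, hb', hp⟩ := level_entry hv hb hent k hk
      exact ⟨T, hT, hr, hri, (hr ⟨L.base, hb⟩).trans hb', hp, fun i hi => absurd hi (Nat.not_lt_zero _)⟩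
    · simp only [List.getD_cons_succ] at hk ⊢
      obtain ⟨T, hT, hr, hri, hb', hp, hfix⟩ := ih hnv j (by simpa using hj) k hk
      refine ⟨T, (hnle hT).1, hr, hri, hb', hp, ?_⟩
      rintro (_ | i) hi
      · simp only [List.getD_cons_zero]
        have e : T (⟨L.base, hb⟩ : Fin n) = ⟨L.base, hb⟩ := (hnle hT).2
        exact (hr ⟨L.base, hb⟩).trans (congrArg Fin.val e)
      · simp only [List.getD_cons_succ]
        exact hfix i (by omega)

/-- The indices of the survivors above three entries. -/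
noncomputable def idxAt (a b c : ℕ) : List ℕ :=
  (List.range 96).filter fun j => Nat.beq (tailE.getD j (0, 0)).1
      (q3 a b c (ap uC (ap ((lev 0).tc a) (ap ((lev 1).tc b) (ap ((lev 2).tc c) 45))))) &&
    commU ((lev 0).tc a) ((lev 1).tc b) ((lev 2).tc c) (tailE.getD j (0, 0)).2

/-- The indices of all survivors. -/
noncomputable def idxL : List (ℕ × ℕ × ℕ × ℕ) :=
  (List.range 100).flatMap fun a => if Nat.blt (kOne a) 77 then
    (List.range 60).flatMap fun c => (idxAt a (kOne a) c).map fun j => (a, kOne a, c, j) else []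

/-- The four codes of a tuple of indices. -/
def tupCode (s : ℕ × ℕ × ℕ × ℕ) : ℕ × ℕ × ℕ × ℕ :=
  ((lev 0).tc s.1, (lev 1).tc s.2.1, (lev 2).tc s.2.2.1, (tailE.getD s.2.2.2 (0, 0)).2)

theorem idx_code : idxL.map tupCode = (List.range 100).flatMap survA := by
  have ht : tailE = (List.range 96).map fun j => tailE.getD j (0, 0) := by
    refine List.ext_getElem (by rw [List.length_map, List.length_range, fus_shape.2.2.2.1]) fun i h1 h2 => ?_
    rw [List.getElem_map, List.getElem_range, List.getD_eq_getElem _ _ h1]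
  have hf : ∀ a b c, survAt a b c = (idxAt a b c).map fun j => tupCode (a, b, c, j) := by
    intro a b c
    simp only [survAt, CfsgAutL34.Enum.force_eq, idxAt]
    conv_lhs => rw [ht]
    rw [List.filterMap_map]
    have key : ∀ (p : ℕ → Bool) (f : ℕ → ℕ × ℕ × ℕ × ℕ) (l : List ℕ),
        l.filterMap (fun j => if p j then some (f j) else none) = (l.filter p).map f := by
      intro p f l
      induction l with
      | nil => rfl
      | cons j l ih => cases h : p j <;> simp [List.filterMap_cons, List.filter_cons, h, ih]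
    exact key _ _ _
  unfold idxL
  rw [List.map_flatMap]
  refine congrArg (fun f => List.flatMap f (List.range 100)) (funext fun a => ?_)
  simp only [survA, CfsgAutL34.Enum.force_eq]
  split
  · rw [List.map_flatMap]
    simp only [hf, List.map_map]
    rfl
  · rfl

theorem stats_eq (lo m : ℕ) : centStats lo m =
    (((List.range m).flatMap fun i => survA (lo + i)).length, ((List.range m).flatMap fun i => survA (lo + i)).countP tupT,
      ((List.range m).flatMap fun i => survA (lo + i)).all tupNot15) := by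
  unfold centStats
  generalize ((List.range m).flatMap fun i => survA (lo + i)) = l
  suffices h : ∀ p q r, l.foldl (fun r s => (r.1 + 1, (bif tupT s then r.2.1 + 1 else r.2.1), r.2.2 && tupNot15 s))
      (p, q, r) = (p + l.length, q + l.countP tupT, r && l.all tupNot15) by simpa using h 0 0 true
  induction l with
  | nil => simp
  | cons s l ih =>
    intro p q r
    rw [List.foldl_cons, ih]
    simp only [List.length_cons, List.countP_cons, List.all_cons, Prod.mk.injEq, Bool.and_assoc, and_true]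
    cases tupT s <;> simp <;> omega

theorem surv_facts : ((List.range 100).flatMap survA).length = 2880 ∧
    ((List.range 100).flatMap survA).countP tupT = 75 ∧ ((List.range 100).flatMap survA).all tupNot15 = true := by
  have hsplit : (List.range 100).flatMap survA =
      (List.range 20).flatMap fun k => (List.range 5).flatMap fun i => survA (5 * k + i) := by
    rw [show List.range 100 = (List.range 20).flatMap fun k => (List.range 5).map (5 * k + ·) by decide +kernel,
      List.flatMap_assoc]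
    simp only [List.flatMap_map]
  obtain ⟨F, hF⟩ : ∃ F, F = fun k => (List.range 5).flatMap fun i => survA (5 * k + i) := ⟨_, rfl⟩
  replace hsplit : (List.range 100).flatMap survA = (List.range 20).flatMap F := by rw [hF]; exact hsplit
  have h : ∀ k, centStats (5 * k) 5 = ((F k).length, (F k).countP tupT, (F k).all tupNot15) := fun k => by
    rw [hF]; exact stats_eq _ _
  have e : (List.range 20).map (fun k => centStats (5 * k) 5) = (List.range 20).map fun k =>
      ((F k).length, (F k).countP tupT, (F k).all tupNot15) := by simp only [h]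
  clear h hF
  rw [show List.range 20 = [0, 1, 2, 3, 4, 5, 6, 7, 8, 9, 10, 11, 12, 13, 14, 15, 16, 17, 18, 19] from rfl] at e
  rw [show List.range 20 = [0, 1, 2, 3, 4, 5, 6, 7, 8, 9, 10, 11, 12, 13, 14, 15, 16, 17, 18, 19] from rfl] at hsplit
  simp only [List.map_cons, List.map_nil, Nat.reduceMul,
    cent_part0, cent_part1, cent_part2, cent_part3, cent_part4, cent_part5, cent_part6, cent_part7, cent_part8,
    cent_part9, cent_part10, cent_part11, cent_part12, cent_part13, cent_part14, cent_part15, cent_part16,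
    cent_part17, cent_part18, cent_part19] at e
  simp only [List.cons.injEq, Prod.mk.injEq, and_true] at e
  rw [hsplit]
  simp only [List.flatMap_cons, List.flatMap_nil, List.length_append, List.countP_append, List.all_append,
    List.length_nil, List.countP_nil, List.all_nil, Bool.and_eq_true, ← e, and_self, Nat.add_zero]

/-- The second involution. -/
noncomputable def uP : Perm (Fin 100) := evW permL uW

theorem rep_uP : Rep 100 uC uP := fun i => by
  obtain ⟨hw, he, -, -⟩ := fus_u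
  simp only [List.all_eq_true, Nat.blt_eq, List.mem_range] at hw he
  rw [uP, ← apW_evW hw i]
  exact (Nat.eq_of_beq_eq_true (he i i.2)).symm

theorem exists_tuples : ∃ Φ : Fin 100 × Fin 77 × Fin 60 × Fin 96 → ↥hsPerm, Function.Bijective Φ ∧
    (∀ x, ∀ i : Fin 100, tupAp (tupCode (x.1, x.2.1, x.2.2.1, x.2.2.2)) i = ((Φ x : Perm (Fin 100)) i : ℕ)) ∧
    ∀ x, Commute (Φ x : Perm (Fin 100)) uP ↔ ((x.1 : ℕ), (x.2.1 : ℕ), (x.2.2.1 : ℕ), (x.2.2.2 : ℕ)) ∈ idxL := by
  classical
  obtain ⟨hval, hgood, -⟩ := hs_model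
  have htab : TableOK 100 hsChain CfsgLeech.Models.hsRigid.gens := by with_unfolding_all exact hgood.table
  have heq : prodSet 100 hsChain = (hsPerm : Set (Perm (Fin 100))) := by with_unfolding_all exact hgood.eq
  have hcard : Nat.card ↥hsPerm = 44352000 := by
    have := hgood.card
    have hls : CfsgLeech.Models.hsRigid.ls = hsChain := by with_unfolding_all rfl
    rw [hls, hs_size] at this
    with_unfolding_all exact this
  have hv : Valid 100 CfsgLeech.Models.hsRigid.gens := by with_unfolding_all exact hval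
  obtain ⟨hlen, hlens, hbases, -, htail, hval'⟩ := fus_shape
  have hlv : hsChain = [lev 0, lev 1, lev 2, lev 3, lev 4] := by
    refine List.ext_getElem (by rw [hlen]; rfl) fun i h1 h2 => ?_
    rw [hlen] at h1
    interval_cases i <;> simp [lev, List.getD_eq_getElem?_getD, List.getElem?_eq_getElem, hlen]
  have hl0 := hlens; have hb0 := hbases
  rw [hlv] at hl0 hb0
  simp only [List.map_cons, List.map_nil, List.cons.injEq, and_true] at hl0 hb0
  obtain ⟨l0, l1, l2, l3, l4⟩ := hl0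
  obtain ⟨b0, b1, b2, b3, b4⟩ := hb0
  have hlev := chain_levels (by norm_num) htab hv
  rw [hlen] at hlev
  choose! T hTm hTr hTi hTb hTp hTf using fun j (hj : j < 5) => hlev j hj
  have hR : ∀ j < 5, ∀ k < (lev j).tr.length, ∀ i : Fin 100, ap ((lev j).tc k) i = (T j k i : ℕ) := hTr
  have hI : ∀ j < 5, ∀ k < (lev j).tr.length, ∀ i : Fin 100, ap ((lev j).ti k) i = ((T j k)⁻¹ i : ℕ) := hTi
  have hT3 : ∀ j : Fin 96, ∀ i : Fin 100, ap (tailE.getD j (0, 0)).2 i = ((T 3 (j / 3) * T 4 (j % 3)) i : ℕ) := by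
    intro j i
    have := j.2
    simp only [List.all_eq_true, List.mem_range] at htail
    have h := Nat.eq_of_beq_eq_true (htail (j / 3) (by omega) (j % 3) (by omega) i i.2)
    rw [show 3 * ((j : ℕ) / 3) + (j : ℕ) % 3 = j by omega] at h
    rw [h]
    rw [hR 4 (by norm_num) ((j : ℕ) % 3) (by omega) i, Perm.mul_apply]
    exact hR 3 (by norm_num) ((j : ℕ) / 3) (by omega) _
  let Ψ : Fin 100 × Fin 77 × Fin 60 × Fin 96 → Perm (Fin 100) := fun x =>
    T 0 x.1 * (T 1 x.2.1 * (T 2 x.2.2.1 * (T 3 (x.2.2.2 / 3) * T 4 (x.2.2.2 % 3))))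
  have hk : ∀ x : Fin 100 × Fin 77 × Fin 60 × Fin 96, ((x.1 : ℕ) < (lev 0).tr.length) ∧
      ((x.2.1 : ℕ) < (lev 1).tr.length) ∧ ((x.2.2.1 : ℕ) < (lev 2).tr.length) ∧
      ((x.2.2.2 : ℕ) / 3 < (lev 3).tr.length) ∧ ((x.2.2.2 : ℕ) % 3 < (lev 4).tr.length) := by
    rintro ⟨a, b, c, j⟩
    have := a.2; have := b.2; have := c.2; have := j.2
    simp only
    omega
  have hΨmem : ∀ x, Ψ x ∈ hsPerm := fun x => by
    obtain ⟨k0, k1, k2, k3, k4⟩ := hk x
    exact mul_mem (hTm 0 (by norm_num) _ k0) (mul_mem (hTm 1 (by norm_num) _ k1) (mul_mem (hTm 2 (by norm_num) _ k2)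
      (mul_mem (hTm 3 (by norm_num) _ k3) (hTm 4 (by norm_num) _ k4))))
  have hsur : Function.Surjective (fun x => (⟨Ψ x, hΨmem x⟩ : ↥hsPerm)) := by
    rintro ⟨g, hg⟩
    have hg' : g ∈ prodSet 100 hsChain := heq ▸ hg
    rw [hlv] at hg'
    obtain ⟨k0, h0, U0, r0, y, ⟨k1, h1, U1, r1, z, ⟨k2, h2, U2, r2, w, ⟨k3, h3, U3, r3, v, ⟨k4, h4, U4, r4, o, ho, rfl⟩,
      rfl⟩, rfl⟩, rfl⟩, rfl⟩ := hg'
    obtain rfl : o = 1 := ho
    refine ⟨(⟨k0, by omega⟩, ⟨k1, by omega⟩, ⟨k2, by omega⟩, ⟨3 * k3 + k4, by omega⟩), Subtype.ext ?_⟩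
    show Ψ _ = U0 * (U1 * (U2 * (U3 * (U4 * 1))))
    rw [mul_one]
    simp only [Ψ]
    rw [show (3 * k3 + k4) / 3 = k3 by omega, show (3 * k3 + k4) % 3 = k4 by omega,
      r0.unique (hTr 0 (by norm_num) k0 h0), r1.unique (hTr 1 (by norm_num) k1 h1),
      r2.unique (hTr 2 (by norm_num) k2 h2), r3.unique (hTr 3 (by norm_num) k3 h3),
      r4.unique (hTr 4 (by norm_num) k4 h4)]
  have hbij := hsur.bijective_of_nat_card_le (by
    rw [hcard]; simp [Nat.card_prod])
  have hval4 : ∀ x, ∀ i : Fin 100, tupAp (tupCode (x.1, x.2.1, x.2.2.1, x.2.2.2)) i = (Ψ x i : ℕ) := by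
    intro x i
    obtain ⟨k0, k1, k2, -, -⟩ := hk x
    simp only [tupAp, tupCode, Ψ]
    rw [hT3 x.2.2.2 i]
    rw [hR 2 (by norm_num) _ k2, hR 1 (by norm_num) _ k1, hR 0 (by norm_num) _ k0]
    rfl
  refine ⟨fun x => ⟨Ψ x, hΨmem x⟩, hbij, hval4, fun x => ?_⟩
  show Commute (Ψ x) uP ↔ _
  obtain ⟨k0, k1, k2, k3, k4⟩ := hk x
  have hmem : ((x.1 : ℕ), (x.2.1 : ℕ), (x.2.2.1 : ℕ), (x.2.2.2 : ℕ)) ∈ idxL ↔ kOne x.1 = x.2.1 ∧
      (x.2.2.2 : ℕ) ∈ idxAt x.1 x.2.1 x.2.2.1 := by
    simp only [idxL, List.mem_flatMap, List.mem_range]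
    constructor
    · rintro ⟨a, -, h⟩
      split at h
      · simp only [List.mem_flatMap, List.mem_map, List.mem_range, Prod.mk.injEq] at h
        obtain ⟨c, -, j, hj, rfl, hb, rfl, rfl⟩ := h
        exact ⟨hb, hb ▸ hj⟩
      · simp at h
    · rintro ⟨hb, hj⟩
      refine ⟨x.1, x.1.2, ?_⟩
      rw [if_pos (by rw [hb, Nat.blt_eq]; exact x.2.1.2)]
      simp only [List.mem_flatMap, List.mem_map, List.mem_range]
      exact ⟨x.2.2.1, x.2.2.1.2, x.2.2.2, hb.symm ▸ hj, by rw [hb]⟩
  rw [hmem]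
  have hidx : (x.2.2.2 : ℕ) ∈ idxAt x.1 x.2.1 x.2.2.1 ↔
      Nat.beq (tailE.getD x.2.2.2 (0, 0)).1 (q3 x.1 x.2.1 x.2.2.1 (ap uC (ap ((lev 0).tc x.1) (ap ((lev 1).tc x.2.1) (ap ((lev 2).tc x.2.2.1) 45))))) = true ∧
      commU ((lev 0).tc x.1) ((lev 1).tc x.2.1) ((lev 2).tc x.2.2.1) (tailE.getD x.2.2.2 (0, 0)).2 = true := by
    simp only [idxAt, List.mem_filter, List.mem_range, Bool.and_eq_true]
    exact ⟨fun h => h.2, fun h => ⟨x.2.2.2.2, h⟩⟩
  have hcomm : commU ((lev 0).tc x.1) ((lev 1).tc x.2.1) ((lev 2).tc x.2.2.1) (tailE.getD x.2.2.2 (0, 0)).2 = true ↔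
      Commute (Ψ x) uP := by
    have hv' : ∀ i : Fin 100, ap ((lev 0).tc x.1) (ap ((lev 1).tc x.2.1) (ap ((lev 2).tc x.2.2.1)
        (ap (tailE.getD x.2.2.2 (0, 0)).2 i))) = (Ψ x i : ℕ) := hval4 x
    simp only [commU, List.all_eq_true, List.mem_range]
    constructor
    · intro h
      refine Equiv.ext fun i => Fin.ext ?_
      simp only [Perm.mul_apply]
      rw [← rep_uP (Ψ x i), ← hv' (uP i), ← rep_uP i, ← hv' i]
      exact Nat.eq_of_beq_eq_true (h i i.2)
    · intro h i hi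
      rw [rep_uP ⟨i, hi⟩, hv', hv' ⟨i, hi⟩, rep_uP, ← Perm.mul_apply, ← Perm.mul_apply, h.eq]
      exact Nat.beq_refl _
  rw [hidx, hcomm]
  refine ⟨fun h => ⟨?_, ?_, h⟩, fun h => h.2.2⟩
  · obtain ⟨-, -, hu64, -⟩ := fus_u
    have hfix : ∀ (j k : ℕ) (hj : j < 5), k < (hsChain.getD j ⟨0, [], [], []⟩).tr.length → ∀ i < j,
        ∀ p : Fin 100, (p : ℕ) = (lev i).base → T j k p = p := fun j k hj hk i hi p hp => Fin.ext (by
      rw [← hTr j hj k hk p, hp]; exact hTf j hj k hk i hi)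
    have e64 : (Ψ x) (⟨64, by norm_num⟩ : Fin 100) = T 0 x.1 ⟨64, by norm_num⟩ := by
      simp only [Ψ, Perm.mul_apply]
      rw [hfix 4 _ (by norm_num) k4 0 (by norm_num) _ b0.symm, hfix 3 _ (by norm_num) k3 0 (by norm_num) _ b0.symm,
        hfix 2 _ (by norm_num) k2 0 (by norm_num) _ b0.symm, hfix 1 _ (by norm_num) k1 0 (by norm_num) _ b0.symm]
    have e53 : (Ψ x) (⟨53, by norm_num⟩ : Fin 100) = T 0 x.1 (T 1 x.2.1 ⟨53, by norm_num⟩) := by
      simp only [Ψ, Perm.mul_apply]
      rw [hfix 4 _ (by norm_num) k4 1 (by norm_num) _ b1.symm, hfix 3 _ (by norm_num) k3 1 (by norm_num) _ b1.symm,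
        hfix 2 _ (by norm_num) k2 1 (by norm_num) _ b1.symm]
    have hu : uP (⟨64, by norm_num⟩ : Fin 100) = ⟨53, by norm_num⟩ := Fin.ext ((rep_uP _).symm.trans hu64)
    have hc := congrArg (fun f => f (⟨64, by norm_num⟩ : Fin 100)) h.eq
    simp only [Perm.mul_apply, hu, e64, e53] at hc
    have hc' := congrArg (fun p => (T 0 x.1)⁻¹ p) hc
    simp only [Perm.inv_def, Equiv.symm_apply_apply] at hc'
    simp only [← Perm.inv_def] at hc'
    have hv1 := congrArg Fin.val hc'
    rw [← hI 0 (by norm_num) _ k0, ← rep_uP, ← hR 0 (by norm_num) _ k0, ← hR 1 (by norm_num) _ k1] at hv1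
    have p1 := hTb 1 (by norm_num) _ k1
    have p0 := hTb 0 (by norm_num) _ k0
    have q1 := hTp 1 (by norm_num) _ k1
    change ap ((lev 1).tc _) 53 = ap ((lev 0).ti _) (ap uC (ap ((lev 0).tc _) 64)) at hv1
    change ap ((lev 1).tc _) (lev 1).base = (lev 1).pt _ at p1
    change ap ((lev 0).tc _) (lev 0).base = (lev 0).pt _ at p0
    change (lev 1).pos.getD ((lev 1).pt _) 0 = _ at q1
    rw [b1] at p1; rw [b0] at p0
    rw [p1, p0] at hv1
    rw [kOne, ← hv1, q1]
  · obtain ⟨-, -, -, -⟩ := fus_u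
    have hfix : ∀ (j k : ℕ) (hj : j < 5), k < (hsChain.getD j ⟨0, [], [], []⟩).tr.length → ∀ i < j,
        ∀ p : Fin 100, (p : ℕ) = (lev i).base → T j k p = p := fun j k hj hk i hi p hp => Fin.ext (by
      rw [← hTr j hj k hk p, hp]; exact hTf j hj k hk i hi)
    have e45 : (Ψ x) (⟨45, by norm_num⟩ : Fin 100) = T 0 x.1 (T 1 x.2.1 (T 2 x.2.2.1 ⟨45, by norm_num⟩)) := by
      simp only [Ψ, Perm.mul_apply]
      rw [hfix 4 _ (by norm_num) k4 2 (by norm_num) _ b2.symm, hfix 3 _ (by norm_num) k3 2 (by norm_num) _ b2.symm]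
    have hc := congrArg (fun f => f (⟨45, by norm_num⟩ : Fin 100)) h.eq
    simp only [Perm.mul_apply, e45] at hc
    simp only [Ψ, Perm.mul_apply] at hc
    have hc' : (T 3 ((x.2.2.2 : ℕ) / 3) * T 4 ((x.2.2.2 : ℕ) % 3)) (uP ⟨45, by norm_num⟩) =
        (T 2 x.2.2.1)⁻¹ ((T 1 x.2.1)⁻¹ ((T 0 x.1)⁻¹ (uP (T 0 x.1 (T 1 x.2.1 (T 2 x.2.2.1 ⟨45, by norm_num⟩)))))) := by
      rw [← hc]
      simp
    have hv := congrArg Fin.val hc'
    rw [← hT3 x.2.2.2 (uP ⟨45, by norm_num⟩), ← hI 2 (by norm_num) _ k2, ← hI 1 (by norm_num) _ k1,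
      ← hI 0 (by norm_num) _ k0, ← rep_uP, ← rep_uP, ← hR 0 (by norm_num) _ k0, ← hR 1 (by norm_num) _ k1,
      ← hR 2 (by norm_num) _ k2] at hv
    simp only [List.all_eq_true, List.mem_range] at hval'
    rw [Nat.eq_of_beq_eq_true (hval' _ x.2.2.2.2), hv]
    exact Nat.beq_refl _

theorem uP_facts (hu : uP ∈ hsPerm) :
    Nat.card ↥(Subgroup.centralizer ({(⟨uP, hu⟩ : ↥hsPerm)} : Set ↥hsPerm)) = 2880 ∧
    75 ≤ Nat.card {q : ↥hsPerm // Commute q ⟨uP, hu⟩ ∧ q * q = 1 ∧ q ≠ 1 ∧ ∃ i, (q : Perm (Fin 100)) i = i} ∧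
    (∀ q : ↥hsPerm, Commute q ⟨uP, hu⟩ → orderOf q ≠ 15) := by
  classical
  obtain ⟨Φ, hbij, hval, hcom⟩ := exists_tuples
  let key : Fin 100 × Fin 77 × Fin 60 × Fin 96 → ℕ × ℕ × ℕ × ℕ := fun x => (x.1, x.2.1, x.2.2.1, x.2.2.2)
  have hkey : Function.Injective key := by
    intro x y e
    simp only [key, Prod.mk.injEq] at e
    exact Prod.ext (Fin.ext e.1) (Prod.ext (Fin.ext e.2.1) (Prod.ext (Fin.ext e.2.2.1) (Fin.ext e.2.2.2)))
  have hc : ∀ x, Commute (Φ x) ⟨uP, hu⟩ ↔ key x ∈ idxL := fun x => by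
    rw [← hcom x]
    exact ⟨fun h => congrArg Subtype.val h.eq, fun h => Subtype.ext h.eq⟩
  have hnd : idxL.Nodup := by
    refine List.nodup_flatMap.2 ⟨fun a _ => ?_, ?_⟩
    · split
      · refine List.nodup_flatMap.2 ⟨fun c _ => (List.nodup_range.filter _).map fun i j e => by
          simpa using congrArg (fun s : ℕ × ℕ × ℕ × ℕ => s.2.2.2) e, ?_⟩
        refine List.Pairwise.imp (fun hab => ?_) List.nodup_range
        intro s h1 h2
        simp only [List.mem_map] at h1 h2
        obtain ⟨_, -, rfl⟩ := h1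
        obtain ⟨_, -, e⟩ := h2
        simp only [Prod.mk.injEq] at e
        exact hab e.2.2.1.symm
      · exact List.nodup_nil
    · refine List.Pairwise.imp (fun hab => ?_) List.nodup_range
      intro s h1 h2
      have : ∀ a s, s ∈ (if Nat.blt (kOne a) 77 then
          (List.range 60).flatMap fun c => (idxAt a (kOne a) c).map fun j => (a, kOne a, c, j) else []) → s.1 = a := by
        intro a s hs
        split at hs
        · simp only [List.mem_flatMap, List.mem_map] at hs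
          obtain ⟨_, -, _, -, rfl⟩ := hs
          rfl
        · simp at hs
      exact hab ((this _ _ h1).symm.trans (this _ _ h2))
  have hrange : ∀ s ∈ idxL, ∃ x, key x = s := by
    intro s hs
    simp only [idxL, List.mem_flatMap, List.mem_range] at hs
    obtain ⟨a, ha, hs⟩ := hs
    split at hs
    · next hb =>
      simp only [List.mem_flatMap, List.mem_map, List.mem_range, idxAt, List.mem_filter] at hs
      obtain ⟨c, hc', j, ⟨hj, -⟩, rfl⟩ := hs
      exact ⟨(⟨a, ha⟩, ⟨kOne a, Nat.blt_eq.mp hb⟩, ⟨c, hc'⟩, ⟨j, hj⟩), rfl⟩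
    · simp at hs
  obtain ⟨hlen, hcnt, h15⟩ := surv_facts
  rw [← idx_code, List.length_map] at hlen
  rw [← idx_code, List.countP_map] at hcnt
  rw [← idx_code, List.all_map] at h15
  have hcount : ∀ (P : ℕ × ℕ × ℕ × ℕ → Bool),
      Nat.card {x : Fin 100 × Fin 77 × Fin 60 × Fin 96 // key x ∈ idxL ∧ P (key x) = true} = idxL.countP P := by
    intro P
    rw [List.countP_eq_length_filter, ← List.toFinset_card_of_nodup (hnd.filter _)]
    rw [← Nat.card_eq_finsetCard]
    refine Nat.card_eq_of_bijective (fun x => ⟨key x.1, by simpa using x.2⟩) ⟨fun x y e =>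
      Subtype.ext (hkey (congrArg Subtype.val e)), fun s => ?_⟩
    have hs := s.2
    simp only [List.mem_toFinset, List.mem_filter] at hs
    obtain ⟨x, hx⟩ := hrange _ hs.1
    exact ⟨⟨x, hx ▸ hs⟩, Subtype.ext hx⟩
  let Φe := Equiv.ofBijective Φ hbij
  have hpow : ∀ x k, ∀ i : Fin 100, tupN (tupCode (key x)) k i = (((Φ x : Perm (Fin 100)) ^ k) i : ℕ) := by
    intro x k
    induction k with
    | zero => intro i; rfl
    | succ k ih => intro i; rw [tupN, ih i, pow_succ', Perm.mul_apply]; exact hval x _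
  have hone : ∀ x k, tupOne (tupCode (key x)) k = true ↔ Φ x ^ k = 1 := by
    intro x k
    simp only [tupOne, List.all_eq_true, List.mem_range]
    constructor
    · intro h
      refine Subtype.ext (Equiv.ext fun i => Fin.ext ?_)
      rw [SubmonoidClass.coe_pow, ← hpow x k i, Nat.eq_of_beq_eq_true (h i i.2)]
      rfl
    · intro h i hi
      rw [hpow x k ⟨i, hi⟩, ← SubmonoidClass.coe_pow, h]
      exact Nat.beq_refl _
  refine ⟨?_, ?_, ?_⟩
  · rw [← hlen, show idxL.length = idxL.countP (fun _ => true) by simp, ← hcount]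
    refine (Nat.card_congr (Φe.subtypeEquiv fun x => ?_)).symm
    rw [Subgroup.mem_centralizer_singleton_iff, and_iff_left rfl, ← hc]
    rfl
  · rw [← hcnt, ← hcount]
    refine Nat.card_le_card_of_injective (fun x => ⟨Φ x.1, (hc _).2 x.2.1, ?_⟩) fun x y e =>
      Subtype.ext (hbij.1 (congrArg Subtype.val e))
    have h := x.2.2
    simp only [Function.comp_apply, tupT, Bool.and_eq_true, Bool.not_eq_true', List.any_eq_true, List.mem_range] at h
    obtain ⟨⟨h2, h1⟩, i, hi, hf⟩ := h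
    refine ⟨by rw [← pow_two]; exact (hone _ 2).1 h2, fun e => ?_, ⟨i, hi⟩, Fin.ext ?_⟩
    · rw [(hone _ 1).2 (by rw [pow_one]; exact e)] at h1
      simp at h1
    · rw [← hval x.1 ⟨i, hi⟩]
      exact Nat.eq_of_beq_eq_true hf
  · intro q hq ho
    obtain ⟨x, rfl⟩ := hbij.2 q
    have h := List.all_eq_true.mp h15 _ ((hc x).1 hq)
    simp only [Function.comp_apply, tupNot15, Bool.or_eq_true, Bool.not_eq_true'] at h
    rcases h with (h | h) | h
    · have := orderOf_dvd_of_pow_eq_one ((hone x 3).1 h)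
      rw [ho] at this; norm_num at this
    · have := orderOf_dvd_of_pow_eq_one ((hone x 5).1 h)
      rw [ho] at this; norm_num at this
    · rw [(hone x 15).2 (ho ▸ pow_orderOf_eq_one _)] at h
      simp at h

end CfsgHSType
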