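import Cfsg.Agent.Lib.CosetEnum.Basic
import Cfsg.Agent.Lib.HSType.TabData

/-!
Arithmetic in the split extension of (Z/4)³ by L₃(2), on natural numbers.
An element is `v + 64 * l` with a vector `v < 64` and a class `l < 168`.
-/

set_option autoImplicit false

namespace CfsgHSType

open CfsgLib.CosetEnum (Tree force fld)

/-- The sum of two vectors. -/
def vadd (a b : ℕ) : ℕ := (a + b) % 4 + 4 * ((a / 4 + b / 4) % 4) + 16 * ((a / 16 + b / 16) % 4)

/-- The opposite vector. -/
def vneg (a : ℕ) : ℕ := (4 - a % 4) % 4 + 4 * ((4 - a / 4 % 4) % 4) + 16 * ((4 - a / 16 % 4) % 4)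

/-- Multiples of a vector. -/
def vsmul : ℕ → ℕ → ℕ
  | 0, _ => 0
  | k + 1, v => vadd (vsmul k v) v

/-- The action of a class on a vector. -/
noncomputable def actV (l v : ℕ) : ℕ := fld (Tab.act.get l) (6 * v) 6

/-- The product of two classes. -/
noncomputable def lmul (l k : ℕ) : ℕ := fld (Tab.lmul.get l) (8 * k) 8

/-- The inverse class. -/
noncomputable def linv (l : ℕ) : ℕ := fld Tab.linv (8 * l) 8

/-- The table of the letters. -/
noncomputable def lstep (l x : ℕ) : ℕ := fld (Tab.ltab.get l) (8 * x) 8

/-- A walk in the table of the classes. -/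
noncomputable def lrun : ℕ → List ℕ → ℕ
  | l, [] => l
  | l, x :: w => lrun (lstep l x) w

/-- The vector of an element. -/
def vp (x : ℕ) : ℕ := x % 64

/-- The class of an element. -/
def lp (x : ℕ) : ℕ := x / 64

/-- The product of two elements. -/
noncomputable def mulM (x y : ℕ) : ℕ :=
  force x fun x => force y fun y => vadd (x % 64) (actV (x / 64) (y % 64)) + 64 * lmul (x / 64) (y / 64)

/-- The inverse of an element. -/
noncomputable def invM (x : ℕ) : ℕ :=
  force x fun x => force (linv (x / 64)) fun li => vneg (actV li (x % 64)) + 64 * li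

/-- A conjugate. -/
noncomputable def cjM (g x : ℕ) : ℕ := mulM (mulM g x) (invM g)

/-- The element of a letter: the first vector, the two generators of the classes. -/
noncomputable def mlet (x : ℕ) : ℕ :=
  if x = 0 then 1 else if x = 1 then 3 else 64 * lstep 0 (x - 2)

/-- The element of a word. -/
noncomputable def evM (w : List ℕ) : ℕ := w.foldl (fun a x => mulM a (mlet x)) 0

/-- The central involution. -/
def tC : ℕ := 34

/-- Twice a vector lies in the line of the central involution. -/
def inRA (v : ℕ) : Bool := Nat.beq (vadd v v) 0 || Nat.beq (vadd v v) tC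

end CfsgHSType
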