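/-
Data of a coset enumeration.
-/
import Cfsg.Agent.Lib.HSType.L3Facts0
import Cfsg.Agent.Lib.CosetEnum.Basic

set_option autoImplicit false
set_option maxRecDepth 1000000

namespace CfsgHSType.L3

def nf : ℕ := 2096

def size : ℕ := 168

def facts : CfsgLib.CosetEnum.Tree :=
  facts0

def par : CfsgLib.CosetEnum.Tree :=
  .node (.node (.node (.node (.node (.node (.node (.node (.node (.node (.leaf 0) (.leaf 4736)) (.node (.leaf 8160) (.leaf 0))) (.node (.node (.leaf 4064) (.leaf 0)) (.node (.leaf 12256) (.leaf 0)))) (.node (.node (.node (.leaf 2018) (.leaf 18403)) (.node (.leaf 10211) (.leaf 0))) (.node (.node (.leaf 6114) (.leaf 0)) (.node (.leaf 14307) (.leaf 0))))) (.node (.node (.node (.node (.leaf 994) (.leaf 17378)) (.node (.leaf 9185) (.leaf 0))) (.node (.node (.leaf 385) (.leaf 0)) (.node (.leaf 12257) (.leaf 0)))) (.node (.node (.node (.leaf 3040) (.leaf 19424)) (.node (.leaf 11233) (.leaf 0))) (.node (.node (.leaf 7138) (.leaf 0)) (.node (.leaf 15331) (.leaf 0)))))) (.node (.node (.node (.node (.node (.leaf 483) (.leaf 16866))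 (.node (.leaf 8673) (.leaf 0))) (.node (.node (.leaf 2560) (.leaf 0)) (.node (.leaf 12768) (.leaf 0)))) (.node (.node (.node (.leaf 2530) (.leaf 18915)) (.node (.leaf 10723) (.leaf 0))) (.node (.node (.leaf 6626) (.leaf 0)) (.node (.leaf 14819) (.leaf 0))))) (.node (.node (.node (.node (.leaf 897) (.leaf 17891)) (.node (.leaf 9697) (.leaf 0))) (.node (.node (.leaf 5602) (.leaf 0)) (.node (.leaf 13794) (.leaf 0)))) (.node (.node (.node (.leaf 3552) (.leaf 19938)) (.node (.leaf 11745) (.leaf 0))) (.node (.node (.leaf 7651) (.leaf 0)) (.node (.leaf 15840) (.leaf 0))))))) (.node (.node (.node (.node (.node (.node (.leaf 226) (.leaf 16608)) (.node (.leaf 8418) (.leaf 0))) (.node (.node (.leaf 4322) (.leaf 0)) (.node (.leaf 12515) (.leaf 0)))) (.node (.node (.node (.leaf 2273) (.leaf 18657)) (.node (.leaf 10464) (.leaf 0))) (.node (.node (.leaf 6368) (.leaf 0)) (.node (.leaf 14560) (.leaf 0))))) (.node (.node (.node (.node (.leaf 1250) (.leaf 17632)) (.node (.leaf 9442) (.leaf 0))) (.node (.node (.leaf 5345) (.leaf 0)) (.node (.leaf 13537)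 (.leaf 0)))) (.node (.node (.node (.leaf 3299) (.leaf 19682)) (.node (.leaf 11490) (.leaf 0))) (.node (.node (.leaf 1282) (.leaf 0)) (.node (.leaf 15586) (.leaf 0)))))) (.node (.node (.node (.node (.node (.leaf 739) (.leaf 17120)) (.node (.leaf 8930) (.leaf 0))) (.node (.node (.leaf 4834) (.leaf 0)) (.node (.leaf 13024) (.leaf 0)))) (.node (.node (.node (.leaf 2786) (.leaf 19168)) (.node (.leaf 9473) (.leaf 0))) (.node (.node (.leaf 4000) (.leaf 0)) (.node (.leaf 15072) (.leaf 0))))) (.node (.node (.node (.node (.leaf 1761) (.leaf 18145)) (.node (.leaf 9955) (.leaf 0))) (.node (.node (.leaf 5857) (.leaf 0)) (.node (.leaf 14049) (.leaf 0)))) (.node (.node (.node (.leaf 3810) (.leaf 0)) (.node (.leaf 12003) (.leaf 0))) (.node (.node (.leaf 7907) (.leaf 0)) (.node (.leaf 16096) (.leaf 0)))))))) (.node (.node (.node (.node (.node (.node (.node (.leaf 34) (.leaf 16480)) (.node (.leaf 8290) (.leaf 0))) (.node (.node (.leaf 4192) (.leaf 0)) (.node (.leaf 12384) (.leaf 0)))) (.node (.node (.node (.leaf 1921) (.leaf 10849)) (.node (.leaf 10336)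 (.leaf 0))) (.node (.node (.leaf 6243) (.leaf 0)) (.node (.leaf 14435) (.leaf 0))))) (.node (.node (.node (.node (.leaf 1122) (.leaf 6656)) (.node (.leaf 9313) (.leaf 0))) (.node (.node (.leaf 5217) (.leaf 0)) (.node (.leaf 13409) (.leaf 0)))) (.node (.node (.node (.leaf 3171) (.leaf 19552)) (.node (.leaf 11362) (.leaf 0))) (.node (.node (.leaf 7266) (.leaf 0)) (.node (.leaf 15459) (.leaf 0)))))) (.node (.node (.node (.node (.node (.leaf 611) (.leaf 16992)) (.node (.leaf 8801) (.leaf 0))) (.node (.node (.leaf 4704) (.leaf 0)) (.node (.leaf 12896) (.leaf 0)))) (.node (.node (.node (.leaf 2658) (.leaf 19043)) (.node (.leaf 10848) (.leaf 0))) (.node (.node (.leaf 6754) (.leaf 0)) (.node (.leaf 14947) (.leaf 0))))) (.node (.node (.node (.node (.leaf 1633) (.leaf 9537)) (.node (.leaf 9825) (.leaf 0))) (.node (.node (.leaf 5729) (.leaf 0)) (.node (.leaf 13921) (.leaf 0)))) (.node (.node (.node (.leaf 3680) (.leaf 20066)) (.node (.leaf 11875) (.leaf 0))) (.node (.node (.leaf 7779) (.leaf 0)) (.node (.leaf 15968) (.leaf 0))))))) (.node (.node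 (.node (.node (.node (.node (.leaf 354) (.leaf 16738)) (.node (.leaf 961) (.leaf 0))) (.node (.node (.leaf 4450) (.leaf 0)) (.node (.leaf 12643) (.leaf 0)))) (.node (.node (.node (.leaf 2401) (.leaf 18787)) (.node (.leaf 10595) (.leaf 0))) (.node (.node (.leaf 6496) (.leaf 0)) (.node (.leaf 14688) (.leaf 0))))) (.node (.node (.node (.node (.leaf 1378) (.leaf 17763)) (.node (.leaf 9570) (.leaf 0))) (.node (.node (.leaf 5474) (.leaf 0)) (.node (.leaf 13666) (.leaf 0)))) (.node (.node (.node (.leaf 3424) (.leaf 19810)) (.node (.leaf 11617) (.leaf 0))) (.node (.node (.leaf 7522) (.leaf 0)) (.node (.leaf 15714) (.leaf 0)))))) (.node (.node (.node (.node (.node (.leaf 834) (.leaf 17250)) (.node (.leaf 1025) (.leaf 0))) (.node (.node (.leaf 4962) (.leaf 0)) (.node (.leaf 13154) (.leaf 0)))) (.node (.node (.node (.leaf 2912) (.leaf 19296)) (.node (.leaf 11105) (.leaf 0))) (.node (.node (.leaf 7008) (.leaf 0)) (.node (.leaf 15200) (.leaf 0))))) (.node (.node (.node (.node (.leaf 450) (.leaf 18275)) (.node (.leaf 10083) (.leaf 0))) (.node (.node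 (.leaf 5986) (.leaf 0)) (.node (.leaf 14179) (.leaf 0)))) (.node (.node (.node (.leaf 3072) (.leaf 0)) (.node (.leaf 12131) (.leaf 0))) (.node (.node (.leaf 8032) (.leaf 0)) (.node (.leaf 16226) (.leaf 0))))))))) (.node (.node (.node (.node (.node (.node (.node (.node (.leaf 2) (.leaf 16417)) (.node (.leaf 8224) (.leaf 0))) (.node (.node (.leaf 4129) (.leaf 0)) (.node (.leaf 12320) (.leaf 0)))) (.node (.node (.node (.leaf 2082) (.leaf 18466)) (.node (.leaf 8672) (.leaf 0))) (.node (.node (.leaf 6178) (.leaf 0)) (.node (.leaf 14370) (.leaf 0))))) (.node (.node (.node (.node (.leaf 1058) (.leaf 17443)) (.node (.leaf 9248) (.leaf 0))) (.node (.node (.leaf 5152) (.leaf 0)) (.node (.leaf 13344) (.leaf 0)))) (.node (.node (.node (.leaf 3106) (.leaf 19489)) (.node (.leaf 11296) (.leaf 0))) (.node (.node (.leaf 7203) (.leaf 0)) (.node (.leaf 15394) (.leaf 0)))))) (.node (.node (.node (.node (.node (.leaf 546) (.leaf 8033)) (.node (.leaf 8736) (.leaf 0))) (.node (.node (.leaf 4640) (.leaf 0)) (.node (.leaf 12833) (.leaf 0)))) (.node (.node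 (.node (.leaf 2595) (.leaf 18978)) (.node (.leaf 9184) (.leaf 0))) (.node (.node (.leaf 6691) (.leaf 0)) (.node (.leaf 14882) (.leaf 0))))) (.node (.node (.node (.node (.leaf 1568) (.leaf 17954)) (.node (.leaf 9760) (.leaf 0))) (.node (.node (.leaf 4800) (.leaf 0)) (.node (.leaf 6048) (.leaf 0)))) (.node (.node (.node (.leaf 3617) (.leaf 20002)) (.node (.leaf 11808) (.leaf 0))) (.node (.node (.leaf 7714) (.leaf 0)) (.node (.leaf 15905) (.leaf 0))))))) (.node (.node (.node (.node (.node (.node (.leaf 290) (.leaf 16675)) (.node (.leaf 8483) (.leaf 0))) (.node (.node (.leaf 4387) (.leaf 0)) (.node (.leaf 12578) (.leaf 0)))) (.node (.node (.node (.leaf 2336) (.leaf 18720)) (.node (.leaf 10530) (.leaf 0))) (.node (.node (.leaf 6433) (.leaf 0)) (.node (.leaf 14624) (.leaf 0))))) (.node (.node (.node (.node (.leaf 1315) (.leaf 17696)) (.node (.leaf 9506) (.leaf 0))) (.node (.node (.leaf 5408) (.leaf 0)) (.node (.leaf 13600) (.leaf 0)))) (.node (.node (.node (.leaf 257) (.leaf 19746)) (.node (.leaf 8064) (.leaf 0))) (.node (.node (.leaf 7458)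 (.leaf 0)) (.node (.leaf 15650) (.leaf 0)))))) (.node (.node (.node (.node (.node (.leaf 802) (.leaf 17187)) (.node (.leaf 8995) (.leaf 0))) (.node (.node (.leaf 4899) (.leaf 0)) (.node (.leaf 13090) (.leaf 0)))) (.node (.node (.node (.leaf 2848) (.leaf 19232)) (.node (.leaf 11040) (.leaf 0))) (.node (.node (.leaf 6944) (.leaf 0)) (.node (.leaf 15137) (.leaf 0))))) (.node (.node (.node (.node (.leaf 1824) (.leaf 18208)) (.node (.leaf 10018) (.leaf 0))) (.node (.node (.leaf 5920) (.leaf 0)) (.node (.leaf 14112) (.leaf 0)))) (.node (.node (.node (.leaf 3874) (.leaf 0)) (.node (.leaf 12066) (.leaf 0))) (.node (.node (.leaf 7970) (.leaf 0)) (.node (.leaf 16162) (.leaf 0)))))))) (.node (.node (.node (.node (.node (.node (.node (.leaf 162) (.leaf 16545)) (.node (.leaf 8355) (.leaf 0))) (.node (.node (.leaf 4259) (.leaf 0)) (.node (.leaf 12450) (.leaf 0)))) (.node (.node (.node (.leaf 2208) (.leaf 18592)) (.node (.leaf 10400) (.leaf 0))) (.node (.node (.leaf 2849) (.leaf 0)) (.node (.leaf 4864) (.leaf 0))))) (.node (.node (.node (.node (.leaf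 1187) (.leaf 17568)) (.node (.leaf 9376) (.leaf 0))) (.node (.node (.leaf 5280) (.leaf 0)) (.node (.leaf 13472) (.leaf 0)))) (.node (.node (.node (.leaf 3234) (.leaf 19617)) (.node (.leaf 11426) (.leaf 0))) (.node (.node (.leaf 7331) (.leaf 0)) (.node (.leaf 3041) (.leaf 0)))))) (.node (.node (.node (.node (.node (.leaf 674) (.leaf 17057)) (.node (.leaf 8867) (.leaf 0))) (.node (.node (.leaf 4768) (.leaf 0)) (.node (.leaf 12961) (.leaf 0)))) (.node (.node (.node (.leaf 2723) (.leaf 14272)) (.node (.leaf 10912) (.leaf 0))) (.node (.node (.leaf 6819) (.leaf 0)) (.node (.leaf 2977) (.leaf 0))))) (.node (.node (.node (.node (.leaf 1696) (.leaf 18080)) (.node (.leaf 9888) (.leaf 0))) (.node (.node (.leaf 5792) (.leaf 0)) (.node (.leaf 13984) (.leaf 0)))) (.node (.node (.node (.leaf 3746) (.leaf 0)) (.node (.leaf 11938) (.leaf 0))) (.node (.node (.leaf 7842) (.leaf 0)) (.node (.leaf 16033) (.leaf 0))))))) (.node (.node (.node (.node (.node (.node (.leaf 418) (.leaf 16803)) (.node (.leaf 8608) (.leaf 0))) (.node (.node (.leaf 4515) (.leaf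 0)) (.node (.leaf 2113) (.leaf 0)))) (.node (.node (.node (.leaf 2467) (.leaf 18850)) (.node (.leaf 10658) (.leaf 0))) (.node (.node (.leaf 6563) (.leaf 0)) (.node (.leaf 14754) (.leaf 0))))) (.node (.node (.node (.node (.leaf 1443) (.leaf 17826)) (.node (.leaf 8128) (.leaf 0))) (.node (.node (.leaf 5538) (.leaf 0)) (.node (.leaf 13730) (.leaf 0)))) (.node (.node (.node (.leaf 3489) (.leaf 7073)) (.node (.leaf 11680) (.leaf 0))) (.node (.node (.leaf 7586) (.leaf 0)) (.node (.leaf 5505) (.leaf 0)))))) (.node (.node (.node (.node (.node (.leaf 930) (.leaf 17315)) (.node (.leaf 9120) (.leaf 0))) (.node (.node (.leaf 5027) (.leaf 0)) (.node (.leaf 13218) (.leaf 0)))) (.node (.node (.node (.leaf 2976) (.leaf 6081)) (.node (.leaf 11168) (.leaf 0))) (.node (.node (.leaf 7072) (.leaf 0)) (.node (.leaf 15265) (.leaf 0))))) (.node (.node (.node (.node (.leaf 1954) (.leaf 18338)) (.node (.leaf 10146) (.leaf 0))) (.node (.node (.leaf 6050) (.leaf 0)) (.node (.leaf 14242) (.leaf 0)))) (.node (.node (.node (.leaf 4001) (.leaf 0)) (.node (.leaf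 2272) (.leaf 0))) (.node (.node (.leaf 8096) (.leaf 0)) (.node (.leaf 16290) (.leaf 0)))))))))) (.node (.node (.node (.node (.node (.node (.node (.node (.node (.leaf 0) (.leaf 16386)) (.node (.leaf 8194) (.leaf 0))) (.node (.node (.leaf 4098) (.leaf 0)) (.node (.leaf 12290) (.leaf 0)))) (.node (.node (.node (.leaf 2048) (.leaf 18432)) (.node (.leaf 10240) (.leaf 0))) (.node (.node (.leaf 5664) (.leaf 0)) (.node (.leaf 14336) (.leaf 0))))) (.node (.node (.node (.node (.leaf 1024) (.leaf 17409)) (.node (.leaf 9219) (.leaf 0))) (.node (.node (.leaf 5123) (.leaf 0)) (.node (.leaf 13315) (.leaf 0)))) (.node (.node (.node (.leaf 1120) (.leaf 19458)) (.node (.leaf 11267) (.leaf 0))) (.node (.node (.leaf 7169) (.leaf 0)) (.node (.leaf 15360) (.leaf 0)))))) (.node (.node (.node (.node (.node (.leaf 512) (.leaf 16897)) (.node (.leaf 8707) (.leaf 0))) (.node (.node (.leaf 4610) (.leaf 0)) (.node (.leaf 12802) (.leaf 0)))) (.node (.node (.node (.leaf 2561) (.leaf 18944)) (.node (.leaf 10752) (.leaf 0))) (.node (.node (.leaf 6657) (.leaf 0)) (.node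 (.leaf 14848) (.leaf 0))))) (.node (.node (.node (.node (.leaf 1539) (.leaf 17920)) (.node (.leaf 9731) (.leaf 0))) (.node (.node (.leaf 5632) (.leaf 0)) (.node (.leaf 13824) (.leaf 0)))) (.node (.node (.node (.leaf 3586) (.leaf 19968)) (.node (.leaf 11779) (.leaf 0))) (.node (.node (.leaf 7680) (.leaf 0)) (.node (.leaf 15874) (.leaf 0))))))) (.node (.node (.node (.node (.node (.node (.leaf 256) (.leaf 3841)) (.node (.leaf 8449) (.leaf 0))) (.node (.node (.leaf 4353) (.leaf 0)) (.node (.leaf 12544) (.leaf 0)))) (.node (.node (.node (.leaf 2307) (.leaf 18691)) (.node (.leaf 9632) (.leaf 0))) (.node (.node (.leaf 6402) (.leaf 0)) (.node (.leaf 14594) (.leaf 0))))) (.node (.node (.node (.node (.leaf 1281) (.leaf 17666)) (.node (.leaf 9472) (.leaf 0))) (.node (.node (.leaf 5379) (.leaf 0)) (.node (.leaf 13571) (.leaf 0)))) (.node (.node (.node (.leaf 3328) (.leaf 19712)) (.node (.leaf 11520) (.leaf 0))) (.node (.node (.leaf 7424) (.leaf 0)) (.node (.leaf 15616) (.leaf 0)))))) (.node (.node (.node (.node (.node (.leaf 768) (.leaf 3905))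 (.node (.leaf 8961) (.leaf 0))) (.node (.node (.leaf 4865) (.leaf 0)) (.node (.leaf 5344) (.leaf 0)))) (.node (.node (.node (.leaf 2818) (.leaf 19202)) (.node (.leaf 11011) (.leaf 0))) (.node (.node (.leaf 6914) (.leaf 0)) (.node (.leaf 15106) (.leaf 0))))) (.node (.node (.node (.node (.leaf 1795) (.leaf 18179)) (.node (.leaf 9984) (.leaf 0))) (.node (.node (.leaf 5891) (.leaf 0)) (.node (.leaf 14083) (.leaf 0)))) (.node (.node (.node (.leaf 3840) (.leaf 0)) (.node (.leaf 12032) (.leaf 0))) (.node (.node (.leaf 7936) (.leaf 0)) (.node (.leaf 5728) (.leaf 0)))))))) (.node (.node (.node (.node (.node (.node (.node (.leaf 128) (.leaf 16514)) (.node (.leaf 8321) (.leaf 0))) (.node (.node (.leaf 321) (.leaf 0)) (.node (.leaf 6112) (.leaf 0)))) (.node (.node (.node (.leaf 2179) (.leaf 18563)) (.node (.leaf 10370) (.leaf 0))) (.node (.node (.leaf 6272) (.leaf 0)) (.node (.leaf 14464) (.leaf 0))))) (.node (.node (.node (.node (.leaf 65) (.leaf 17538)) (.node (.leaf 9347) (.leaf 0))) (.node (.node (.leaf 5251) (.leaf 0)) (.node (.leaf 13443)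 (.leaf 0)))) (.node (.node (.node (.leaf 3200) (.leaf 19586)) (.node (.leaf 11392) (.leaf 0))) (.node (.node (.leaf 7297) (.leaf 0)) (.node (.leaf 15488) (.leaf 0)))))) (.node (.node (.node (.node (.node (.leaf 640) (.leaf 17026)) (.node (.leaf 7489) (.leaf 0))) (.node (.node (.leaf 4738) (.leaf 0)) (.node (.leaf 12930) (.leaf 0)))) (.node (.node (.node (.leaf 2689) (.leaf 19072)) (.node (.leaf 10882) (.leaf 0))) (.node (.node (.leaf 6785) (.leaf 0)) (.node (.leaf 14976) (.leaf 0))))) (.node (.node (.node (.node (.leaf 1667) (.leaf 18051)) (.node (.leaf 9859) (.leaf 0))) (.node (.node (.leaf 5763) (.leaf 0)) (.node (.leaf 13955) (.leaf 0)))) (.node (.node (.node (.leaf 576) (.leaf 20096)) (.node (.leaf 11904) (.leaf 0))) (.node (.node (.leaf 7808) (.leaf 0)) (.node (.leaf 16002) (.leaf 0))))))) (.node (.node (.node (.node (.node (.node (.leaf 384) (.leaf 16769)) (.node (.leaf 8579) (.leaf 0))) (.node (.node (.leaf 4481) (.leaf 0)) (.node (.leaf 12672) (.leaf 0)))) (.node (.node (.node (.leaf 193) (.leaf 18816)) (.node (.leaf 10624)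 (.leaf 0))) (.node (.node (.leaf 3777) (.leaf 0)) (.node (.leaf 3872) (.leaf 0))))) (.node (.node (.node (.node (.leaf 1409) (.leaf 17792)) (.node (.leaf 9600) (.leaf 0))) (.node (.node (.leaf 5504) (.leaf 0)) (.node (.leaf 13696) (.leaf 0)))) (.node (.node (.node (.leaf 3458) (.leaf 19840)) (.node (.leaf 11651) (.leaf 0))) (.node (.node (.leaf 7552) (.leaf 0)) (.node (.leaf 15744) (.leaf 0)))))) (.node (.node (.node (.node (.node (.leaf 896) (.leaf 17281)) (.node (.leaf 9091) (.leaf 0))) (.node (.node (.leaf 4993) (.leaf 0)) (.node (.leaf 13184) (.leaf 0)))) (.node (.node (.node (.leaf 2946) (.leaf 5569)) (.node (.leaf 11139) (.leaf 0))) (.node (.node (.leaf 7042) (.leaf 0)) (.node (.leaf 15234) (.leaf 0))))) (.node (.node (.node (.node (.leaf 1920) (.leaf 18304)) (.node (.leaf 10112) (.leaf 0))) (.node (.node (.leaf 6016) (.leaf 0)) (.node (.leaf 14208) (.leaf 0)))) (.node (.node (.node (.leaf 3970) (.leaf 0)) (.node (.leaf 12160) (.leaf 0))) (.node (.node (.leaf 8066) (.leaf 0)) (.node (.leaf 16256) (.leaf 0))))))))) (.node (.node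 (.node (.node (.node (.node (.node (.node (.leaf 66) (.leaf 16451)) (.node (.leaf 7040) (.leaf 0))) (.node (.node (.leaf 4163) (.leaf 0)) (.node (.leaf 12354) (.leaf 0)))) (.node (.node (.node (.leaf 2112) (.leaf 18497)) (.node (.leaf 10306) (.leaf 0))) (.node (.node (.leaf 6209) (.leaf 0)) (.node (.leaf 14401) (.leaf 0))))) (.node (.node (.node (.node (.leaf 1088) (.leaf 17472)) (.node (.leaf 9282) (.leaf 0))) (.node (.node (.leaf 5186) (.leaf 0)) (.node (.leaf 13378) (.leaf 0)))) (.node (.node (.node (.leaf 3137) (.leaf 19523)) (.node (.leaf 9696) (.leaf 0))) (.node (.node (.leaf 7232) (.leaf 0)) (.node (.leaf 15425) (.leaf 0)))))) (.node (.node (.node (.node (.node (.leaf 577) (.leaf 16963)) (.node (.leaf 8770) (.leaf 0))) (.node (.node (.leaf 4674) (.leaf 0)) (.node (.leaf 12867) (.leaf 0)))) (.node (.node (.node (.leaf 2624) (.leaf 19009)) (.node (.leaf 10818) (.leaf 0))) (.node (.node (.leaf 6720) (.leaf 0)) (.node (.leaf 14913) (.leaf 0))))) (.node (.node (.node (.node (.leaf 1602) (.leaf 17985)) (.node (.leaf 9794) (.leaf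 0))) (.node (.node (.leaf 5698) (.leaf 0)) (.node (.leaf 13890) (.leaf 0)))) (.node (.node (.node (.leaf 3651) (.leaf 20032)) (.node (.leaf 2049) (.leaf 0))) (.node (.node (.leaf 7745) (.leaf 0)) (.node (.leaf 15939) (.leaf 0))))))) (.node (.node (.node (.node (.node (.node (.leaf 320) (.leaf 16704)) (.node (.leaf 8512) (.leaf 0))) (.node (.node (.leaf 4416) (.leaf 0)) (.node (.leaf 12609) (.leaf 0)))) (.node (.node (.node (.leaf 2370) (.leaf 4769)) (.node (.leaf 10561) (.leaf 0))) (.node (.node (.leaf 6467) (.leaf 0)) (.node (.leaf 14658) (.leaf 0))))) (.node (.node (.node (.node (.leaf 1344) (.leaf 6017)) (.node (.leaf 9536) (.leaf 0))) (.node (.node (.leaf 3488) (.leaf 0)) (.node (.leaf 12480) (.leaf 0)))) (.node (.node (.node (.leaf 3395) (.leaf 19776)) (.node (.leaf 11586) (.leaf 0))) (.node (.node (.leaf 7488) (.leaf 0)) (.node (.leaf 15680) (.leaf 0)))))) (.node (.node (.node (.node (.node (.leaf 130) (.leaf 17216)) (.node (.leaf 9024) (.leaf 0))) (.node (.node (.leaf 4928) (.leaf 0)) (.node (.leaf 13120) (.leaf 0)))) (.node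 (.node (.node (.leaf 2882) (.leaf 19266)) (.node (.leaf 11074) (.leaf 0))) (.node (.node (.leaf 6978) (.leaf 0)) (.node (.leaf 15171) (.leaf 0))))) (.node (.node (.node (.node (.leaf 1858) (.leaf 4705)) (.node (.leaf 10049) (.leaf 0))) (.node (.node (.leaf 4352) (.leaf 0)) (.node (.leaf 4641) (.leaf 0)))) (.node (.node (.node (.leaf 3904) (.leaf 0)) (.node (.leaf 12097) (.leaf 0))) (.node (.node (.leaf 8002) (.leaf 0)) (.node (.leaf 16192) (.leaf 0)))))))) (.node (.node (.node (.node (.node (.node (.node (.leaf 192) (.leaf 16579)) (.node (.leaf 8384) (.leaf 0))) (.node (.node (.leaf 4288) (.leaf 0)) (.node (.leaf 12481) (.leaf 0)))) (.node (.node (.node (.leaf 2242) (.leaf 18626)) (.node (.leaf 10434) (.leaf 0))) (.node (.node (.leaf 6339) (.leaf 0)) (.node (.leaf 14530) (.leaf 0))))) (.node (.node (.node (.node (.leaf 1216) (.leaf 17602)) (.node (.leaf 1632) (.leaf 0))) (.node (.node (.leaf 5314) (.leaf 0)) (.node (.leaf 13506) (.leaf 0)))) (.node (.node (.node (.leaf 3265) (.leaf 14912)) (.node (.leaf 11456) (.leaf 0))) (.node (.node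 (.leaf 7360) (.leaf 0)) (.node (.leaf 10176) (.leaf 0)))))) (.node (.node (.node (.node (.node (.leaf 705) (.leaf 17091)) (.node (.leaf 8896) (.leaf 0))) (.node (.node (.leaf 3936) (.leaf 0)) (.node (.leaf 12995) (.leaf 0)))) (.node (.node (.node (.leaf 2752) (.leaf 19138)) (.node (.leaf 10946) (.leaf 0))) (.node (.node (.leaf 6848) (.leaf 0)) (.node (.leaf 15043) (.leaf 0))))) (.node (.node (.node (.node (.leaf 1730) (.leaf 18114)) (.node (.leaf 1089) (.leaf 0))) (.node (.node (.leaf 5826) (.leaf 0)) (.node (.leaf 14018) (.leaf 0)))) (.node (.node (.node (.leaf 3776) (.leaf 0)) (.node (.leaf 11969) (.leaf 0))) (.node (.node (.leaf 7873) (.leaf 0)) (.node (.leaf 16067) (.leaf 0))))))) (.node (.node (.node (.node (.node (.node (.leaf 129) (.leaf 16832)) (.node (.leaf 8642) (.leaf 0))) (.node (.node (.leaf 4544) (.leaf 0)) (.node (.leaf 12739) (.leaf 0)))) (.node (.node (.node (.leaf 2496) (.leaf 18881)) (.node (.leaf 10689) (.leaf 0))) (.node (.node (.leaf 6592) (.leaf 0)) (.node (.leaf 14785) (.leaf 0))))) (.node (.node (.node (.node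 (.leaf 1472) (.leaf 17857)) (.node (.leaf 9666) (.leaf 0))) (.node (.node (.leaf 5568) (.leaf 0)) (.node (.leaf 13760) (.leaf 0)))) (.node (.node (.node (.leaf 3523) (.leaf 15264)) (.node (.leaf 11714) (.leaf 0))) (.node (.node (.leaf 7425) (.leaf 0)) (.node (.leaf 15811) (.leaf 0)))))) (.node (.node (.node (.node (.node (.leaf 960) (.leaf 17344)) (.node (.leaf 9154) (.leaf 0))) (.node (.node (.leaf 5056) (.leaf 0)) (.node (.leaf 13248) (.leaf 0)))) (.node (.node (.node (.leaf 3010) (.leaf 19395)) (.node (.leaf 11202) (.leaf 0))) (.node (.node (.leaf 3008) (.leaf 0)) (.node (.leaf 12321) (.leaf 0))))) (.node (.node (.node (.node (.leaf 1984) (.leaf 18369)) (.node (.leaf 10177) (.leaf 0))) (.node (.node (.leaf 6080) (.leaf 0)) (.node (.leaf 14273) (.leaf 0)))) (.node (.node (.node (.leaf 4035) (.leaf 0)) (.node (.leaf 12226) (.leaf 0))) (.node (.node (.leaf 8130) (.leaf 0)) (.node (.leaf 16320) (.leaf 0))))))))))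

def rows : CfsgLib.CosetEnum.Tree :=
  .node (.node (.node (.node (.node (.node (.node (.node (.leaf 15577603631485036691116871932510208) (.leaf 659479616993670514295392928861848284)) (.node (.leaf 488225566777429645800050506296525022) (.leaf 0))) (.node (.node (.leaf 347968663695619667961326757178442750) (.leaf 825668135342422925271302624812008598)) (.node (.leaf 493299972243829000749764137101361554) (.leaf 0)))) (.node (.node (.node (.leaf 379087267523328823165493727053414998) (.leaf 342849256785318601703394312591577140)) (.node (.leaf 410215616558929693129464805755783442) (.leaf 0))) (.node (.node (.leaf 244051500487845909242421206928392364) (.leaf 0)) (.node (.leaf 436343796860807757085856444554740364) (.leaf 0))))) (.node (.node (.node (.node (.leaf 36347583417372942772675440749903892) (.leaf 701023854753177869684402753479705382)) (.node (.leaf 368673121779023262000261172071825662) (.leaf 0))) (.node (.node (.leaf 555782074045564187194366891242619010) (.leaf 0)) (.node (.leaf 400033292289985509155275312567222758) (.leaf 0))))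 (.node (.node (.node (.leaf 140320206377612604183057772792185672) (.leaf 784115499391592040011265618283660258)) (.node (.leaf 218184376865398050159835435996088874) (.leaf 0))) (.node (.node (.leaf 836119201353580391463625038134575296) (.leaf 0)) (.node (.leaf 415571044154518457702203789300794022) (.leaf 0)))))) (.node (.node (.node (.node (.node (.leaf 5193168399755662652278861371605004) (.leaf 680252132039651082429595183581826954)) (.node (.leaf 301296620838112759889128952995053814) (.leaf 0))) (.node (.node (.leaf 150649578069052643326953023407980666) (.leaf 597427882395363172310384166993989056)) (.node (.leaf 249344100136051907689029965801914822) (.leaf 0)))) (.node (.node (.node (.leaf 649093993162927023021675182858371784) (.leaf 763344410490013023214796897636388892)) (.node (.leaf 430986388546651940658254078253793606) (.leaf 0))) (.node (.node (.leaf 238956337290061948637826958537064632) (.leaf 0)) (.node (.leaf 851867700201734953174444653778633364) (.leaf 0))))) (.node (.node (.node (.node (.leaf 57117404656257676990120191803064348)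 (.leaf 721800965008448139375775153927295010)) (.node (.leaf 389445795274103453476907431276382400) (.leaf 0))) (.node (.node (.leaf 72705070225703445689406321131847844) (.leaf 0)) (.node (.leaf 462367792182172041236791196342092334) (.leaf 0)))) (.node (.node (.node (.leaf 186995418395501992444030111650087798) (.leaf 732442337186935277315504169648194612)) (.node (.leaf 472529200253692111315213280664685164) (.leaf 0))) (.node (.node (.leaf 41563490204264838192587430344589526) (.leaf 0)) (.node (.leaf 638706785053173665717582255808643758) (.leaf 0))))))) (.node (.node (.node (.node (.node (.node (.leaf 396144439459468033859115352123) (.leaf 529854024112478315489573983364514562)) (.node (.leaf 337517122315434524496477925853562776) (.leaf 0))) (.node (.node (.leaf 306437736277035313207585099997054068) (.leaf 768767340511498594849995177511290096)) (.node (.leaf 503684882808256794457241461280932246) (.leaf 0)))) (.node (.node (.node (.leaf 98657126450456038808839971413229611) (.leaf 820714394455774492289856968273888198)) (.node (.leaf 93629782550114210103345304283840834)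 (.leaf 0))) (.node (.node (.leaf 254436411149001013281310979633905840) (.leaf 0)) (.node (.leaf 586781439616896514857580072329743738) (.leaf 0))))) (.node (.node (.node (.node (.leaf 46732494064019018514800663216193560) (.leaf 161038925478292924573602363506099078)) (.node (.leaf 51954105264104831135026493992403238) (.leaf 0))) (.node (.node (.leaf 212894708651936619608508890910229794) (.leaf 0)) (.node (.leaf 545229912899023946768755948503368170) (.leaf 0)))) (.node (.node (.node (.leaf 20774020353262750166314371334210418) (.leaf 612979895329147360265186571024272960)) (.node (.leaf 560976193212287708689997921762607482) (.leaf 0))) (.node (.node (.leaf 295976370510398608363768398145586914) (.leaf 0)) (.node (.leaf 628321874422247979062045421201982122) (.leaf 0)))))) (.node (.node (.node (.node (.node (.leaf 25962672733250129729000569219514384) (.leaf 644152532790291854529137585332618018)) (.node (.leaf 358288211195274569910909588562444538) (.leaf 0))) (.node (.node (.leaf 192124887451748136943315302765495504) (.leaf 831088371616050397083466669184452006))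 (.node (.leaf 524458190139503265325669022802840514) (.leaf 0)))) (.node (.node (.node (.leaf 119426947672422083444668840738619443) (.leaf 550636363426432504948743831236838366)) (.node (.leaf 441371299153391510862945656157700426) (.leaf 0))) (.node (.node (.leaf 275206549302957456224602573011093136) (.leaf 0)) (.node (.leaf 607551260906536579950124543979752880) (.leaf 0))))) (.node (.node (.node (.node (.leaf 67502315287186425801790528772309024) (.leaf 810313162819740105224647850742186894)) (.node (.leaf 540178483625134751223038738864996654) (.leaf 0))) (.node (.node (.leaf 233666589800097019716179903126634664) (.leaf 0)) (.node (.leaf 566004804778969911198611230962942514) (.leaf 0)))) (.node (.node (.node (.leaf 716614451658223191841164870188598194) (.leaf 753212633820184015069849022311105682)) (.node (.leaf 327314515590961195191736774032294286) (.leaf 0))) (.node (.node (.leaf 316747300987100642821896593572038470) (.leaf 0)) (.node (.leaf 259743509521931131550271394772091608) (.leaf 0)))))))) (.node (.node (.node (.node (.node (.node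 (.node (.leaf 135004709700979804740960555917901826) (.leaf 592191296990352736140456026380963382)) (.node (.leaf 747907040592472356333275239153665928) (.leaf 0))) (.node (.node (.leaf 166159600122642345525513536221085774) (.leaf 285716878047448690119420461826707392)) (.node (.leaf 535031584529109939291269553151019784) (.leaf 0)))) (.node (.node (.node (.leaf 83079998179483496286542225892049542) (.leaf 758151717485835418114459967878595523)) (.node (.leaf 374018408207311287732197934846968115) (.leaf 0))) (.node (.node (.leaf 654494184754960453338791987475645942) (.leaf 0)) (.node (.leaf 670075512185045841937796822788476192) (.leaf 0))))) (.node (.node (.node (.node (.leaf 384260866527047471629686013868638564) (.leaf 197403542886530967659153989569089566)) (.node (.leaf 88318881128667976536232574098868362) (.leaf 0))) (.node (.node (.leaf 457174544527612596895548424707376402) (.leaf 0)) (.node (.leaf 779172533501188337556745873351248930) (.leaf 0)))) (.node (.node (.node (.leaf 124619640642741353873753648096477294) (.leaf 727249881868451890324991625334886276))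 (.node (.leaf 467336507187851615568991614093754743) (.leaf 0))) (.node (.node (.leaf 353263798739323332913257481875490514) (.leaf 0)) (.node (.leaf 690896673303466396031895034266127948) (.leaf 0)))))) (.node (.node (.node (.node (.node (.leaf 77903150731629593984860284034220234) (.leaf 633775544974406491771662744896668423)) (.node (.leaf 618172825956100991869391554247657424) (.leaf 0))) (.node (.node (.leaf 711440694198180142037596048439116960) (.leaf 571417593546112011214050060551849363)) (.node (.leaf 675237385414664429766610703528233838) (.leaf 0)))) (.node (.node (.node (.leaf 103849819501789092678299718962774772) (.leaf 706310353880070064507339990059189195)) (.node (.leaf 483081836810323329868554793842379190) (.leaf 0))) (.node (.node (.leaf 576476470112424970935515554273035870) (.leaf 0)) (.node (.leaf 799944573163688481159244048854420890) (.leaf 0))))) (.node (.node (.node (.node (.leaf 228504795738165804449998318754071048) (.leaf 737378093272167975530621680499819403)) (.node (.leaf 405022923540240292720752406764978475) (.leaf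 0))) (.node (.node (.leaf 270109880757969571044365994856023386) (.leaf 0)) (.node (.leaf 857059521685248239888664344627252412) (.leaf 0)))) (.node (.node (.node (.leaf 145389778825726958357273521977950278) (.leaf 498678772121969042722969498366513010)) (.node (.leaf 446741621683436695647110579883868543) (.leaf 0))) (.node (.node (.leaf 451875765042838663921716840718141208) (.leaf 0)) (.node (.leaf 109096783665521588562435028218023726) (.leaf 0))))))) (.node (.node (.node (.node (.node (.node (.leaf 10385148314207402685317528551293086) (.leaf 867429537447015549255066953489452680)) (.node (.leaf 171435958019295835033124409534709987) (.leaf 0))) (.node (.node (.leaf 176544510742678089048037776240017490) (.leaf 477904910221404728105468801675563066)) (.node (.leaf 394790685544626571448291583143840612) (.leaf 0)))) (.node (.node (.node (.leaf 425821662974989460300887672325668910) (.leaf 841483898806190692660110135942844348)) (.node (.leaf 581727871216465760007456723557288262) (.leaf 0))) (.node (.node (.leaf 114293279620286082568701106417960538)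 (.leaf 0)) (.node (.leaf 602358567919304301529848157335323281) (.leaf 0))))) (.node (.node (.node (.node (.leaf 223306794449512024362392566939386288) (.leaf 794751642506454371565793972599787362)) (.node (.leaf 514213275607613424601764854764275860) (.leaf 0))) (.node (.node (.leaf 62349394785532427790383135414943879) (.leaf 0)) (.node (.leaf 202604634074733980369308937691466874) (.leaf 0)))) (.node (.node (.node (.leaf 129812571322963980412818090740154434) (.leaf 789559028748618325659415638370288665)) (.node (.leaf 846555293421018060309773185063717468) (.leaf 0))) (.node (.node (.leaf 181746077266021556763302659941335237) (.leaf 0)) (.node (.leaf 696089287077069206144544425092189848) (.leaf 0)))))) (.node (.node (.node (.node (.node (.leaf 311562689164790875313833435598291224) (.leaf 773981979698502427511654208961384400)) (.node (.leaf 420743058594948414746081595111114796) (.leaf 0))) (.node (.node (.leaf 207702015675574712322957216854704255) (.leaf 685700098135098037791728665857757132)) (.node (.leaf 509075963119297793373271844851155403)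 (.leaf 0)))) (.node (.node (.node (.leaf 264821321652963608087200943455076406) (.leaf 805137345432307959675813389088984606)) (.node (.leaf 322068581262776658382011578126305810) (.leaf 0))) (.node (.node (.leaf 290783677623498097173416478934171837) (.leaf 0)) (.node (.leaf 363729522108142377225483694703510169) (.leaf 0))))) (.node (.node (.node (.node (.leaf 31172716688099816712747223400579110) (.leaf 664923621705127181233137921395920770)) (.node (.leaf 623321388881018236800199824084175106) (.leaf 0))) (.node (.node (.leaf 519343299096559793214102080737641850) (.leaf 0)) (.node (.leaf 280515786859245677386743529832582418) (.leaf 0)))) (.node (.node (.node (.leaf 155774689578758211077586052066574410) (.leaf 862247540283464877645145735922847770)) (.node (.leaf 815408642809271450543439602740234910) (.leaf 0))) (.node (.node (.leaf 332324429255655333704969547509792987) (.leaf 0)) (.node (.leaf 742624740616284059303300404575341930) (.leaf 0))))))))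

def rep : CfsgLib.CosetEnum.Tree :=
  .node (.node (.node (.node (.node (.node (.node (.node (.leaf 0) (.leaf 236)) (.node (.leaf 82) (.leaf 0))) (.node (.node (.leaf 33) (.leaf 341)) (.node (.leaf 147) (.leaf 0)))) (.node (.node (.node (.leaf 17) (.leaf 287)) (.node (.leaf 113) (.leaf 0))) (.node (.node (.leaf 64) (.leaf 0)) (.node (.leaf 206) (.leaf 0))))) (.node (.node (.node (.node (.leaf 8) (.leaf 253)) (.node (.leaf 95) (.leaf 0))) (.node (.node (.leaf 53) (.leaf 0)) (.node (.leaf 172) (.leaf 0)))) (.node (.node (.node (.leaf 25) (.leaf 300)) (.node (.leaf 136) (.leaf 0))) (.node (.node (.leaf 73) (.leaf 0)) (.node (.leaf 217) (.leaf 0)))))) (.node (.node (.node (.node (.node (.leaf 4) (.leaf 246)) (.node (.leaf 91) (.leaf 0))) (.node (.node (.leaf 49) (.leaf 378)) (.node (.leaf 165) (.leaf 0)))) (.node (.node (.node (.leaf 21) (.leaf 291)) (.node (.leaf 120) (.leaf 0))) (.node (.node (.leaf 69) (.leaf 0)) (.node (.leaf 210) (.leaf 0))))) (.node (.node (.node (.node (.leaf 12) (.leaf 271)) (.node (.leaf 109) (.leaf 0))) (.node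 (.node (.leaf 60) (.leaf 0)) (.node (.leaf 188) (.leaf 0)))) (.node (.node (.node (.leaf 29) (.leaf 323)) (.node (.leaf 140) (.leaf 0))) (.node (.node (.leaf 78) (.leaf 0)) (.node (.leaf 221) (.leaf 0))))))) (.node (.node (.node (.node (.node (.node (.leaf 2) (.leaf 244)) (.node (.leaf 84) (.leaf 0))) (.node (.node (.leaf 35) (.leaf 356)) (.node (.leaf 149) (.leaf 0)))) (.node (.node (.node (.leaf 19) (.leaf 289)) (.node (.leaf 118) (.leaf 0))) (.node (.node (.leaf 66) (.leaf 0)) (.node (.leaf 208) (.leaf 0))))) (.node (.node (.node (.node (.leaf 10) (.leaf 269)) (.node (.leaf 107) (.leaf 0))) (.node (.node (.leaf 55) (.leaf 0)) (.node (.leaf 174) (.leaf 0)))) (.node (.node (.node (.leaf 27) (.leaf 318)) (.node (.leaf 138) (.leaf 0))) (.node (.node (.leaf 75) (.leaf 0)) (.node (.leaf 219) (.leaf 0)))))) (.node (.node (.node (.node (.node (.leaf 6) (.leaf 251)) (.node (.leaf 93) (.leaf 0))) (.node (.node (.leaf 51) (.leaf 385)) (.node (.leaf 167) (.leaf 0)))) (.node (.node (.node (.leaf 23) (.leaf 298)) (.node (.leaf 122) (.leaf 0)))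 (.node (.node (.leaf 71) (.leaf 0)) (.node (.leaf 212) (.leaf 0))))) (.node (.node (.node (.node (.leaf 14) (.leaf 273)) (.node (.leaf 111) (.leaf 0))) (.node (.node (.leaf 62) (.leaf 0)) (.node (.leaf 190) (.leaf 0)))) (.node (.node (.node (.leaf 31) (.leaf 339)) (.node (.leaf 145) (.leaf 0))) (.node (.node (.leaf 80) (.leaf 0)) (.node (.leaf 234) (.leaf 0)))))))) (.node (.node (.node (.node (.node (.node (.node (.leaf 1) (.leaf 237)) (.node (.leaf 83) (.leaf 0))) (.node (.node (.leaf 34) (.leaf 342)) (.node (.leaf 148) (.leaf 0)))) (.node (.node (.node (.leaf 18) (.leaf 288)) (.node (.leaf 114) (.leaf 0))) (.node (.node (.leaf 65) (.leaf 0)) (.node (.leaf 207) (.leaf 0))))) (.node (.node (.node (.node (.leaf 9) (.leaf 254)) (.node (.leaf 96) (.leaf 0))) (.node (.node (.leaf 54) (.leaf 0)) (.node (.leaf 173) (.leaf 0)))) (.node (.node (.node (.leaf 26) (.leaf 301)) (.node (.leaf 137) (.leaf 0))) (.node (.node (.leaf 74) (.leaf 0)) (.node (.leaf 218) (.leaf 0)))))) (.node (.node (.node (.node (.node (.leaf 5) (.leaf 247)) (.node (.leaf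 92) (.leaf 0))) (.node (.node (.leaf 50) (.leaf 379)) (.node (.leaf 166) (.leaf 0)))) (.node (.node (.node (.leaf 22) (.leaf 292)) (.node (.leaf 121) (.leaf 0))) (.node (.node (.leaf 70) (.leaf 0)) (.node (.leaf 211) (.leaf 0))))) (.node (.node (.node (.node (.leaf 13) (.leaf 272)) (.node (.leaf 110) (.leaf 0))) (.node (.node (.leaf 61) (.leaf 0)) (.node (.leaf 189) (.leaf 0)))) (.node (.node (.node (.leaf 30) (.leaf 324)) (.node (.leaf 141) (.leaf 0))) (.node (.node (.leaf 79) (.leaf 0)) (.node (.leaf 222) (.leaf 0))))))) (.node (.node (.node (.node (.node (.node (.leaf 3) (.leaf 245)) (.node (.leaf 85) (.leaf 0))) (.node (.node (.leaf 36) (.leaf 357)) (.node (.leaf 150) (.leaf 0)))) (.node (.node (.node (.leaf 20) (.leaf 290)) (.node (.leaf 119) (.leaf 0))) (.node (.node (.leaf 67) (.leaf 0)) (.node (.leaf 209) (.leaf 0))))) (.node (.node (.node (.node (.leaf 11) (.leaf 270)) (.node (.leaf 108) (.leaf 0))) (.node (.node (.leaf 56) (.leaf 0)) (.node (.leaf 175) (.leaf 0)))) (.node (.node (.node (.leaf 28) (.leaf 319)) (.node (.leaf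 139) (.leaf 0))) (.node (.node (.leaf 76) (.leaf 0)) (.node (.leaf 220) (.leaf 0)))))) (.node (.node (.node (.node (.node (.leaf 7) (.leaf 252)) (.node (.leaf 94) (.leaf 0))) (.node (.node (.leaf 52) (.leaf 386)) (.node (.leaf 168) (.leaf 0)))) (.node (.node (.node (.leaf 24) (.leaf 299)) (.node (.leaf 123) (.leaf 0))) (.node (.node (.leaf 72) (.leaf 0)) (.node (.leaf 213) (.leaf 0))))) (.node (.node (.node (.node (.leaf 16) (.leaf 274)) (.node (.leaf 112) (.leaf 0))) (.node (.node (.leaf 63) (.leaf 0)) (.node (.leaf 191) (.leaf 0)))) (.node (.node (.node (.leaf 32) (.leaf 340)) (.node (.leaf 146) (.leaf 0))) (.node (.node (.leaf 81) (.leaf 0)) (.node (.leaf 235) (.leaf 0))))))))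

def spec : List (ℕ × ℕ × ℕ) := [
    (0, 1, 1), (1, 2, 1), (2, 12, 1), (3, 14, 1), (3, 13, 1), (0, 1, 0), (2, 9, 1), (3, 11, 1),
    (1, 1, 1), (2, 11, 1), (1, 2, 0), (2, 10, 1), (3, 9, 1), (1, 1, 0), (0, 2, 0)]

def rules : List (ℕ × List ℕ) := [
    (16, []), (0, [0]), (16, [0, 1]), (1, [1]),
    (16, [1, 0]), (2, [2]), (16, [2, 3]), (3, [3]),
    (16, [3, 2]), (4, [4]), (16, [4, 5]), (5, [5]),
    (16, [5, 4]), (6, [6]), (16, [6, 7]), (7, [7]),
    (16, [7, 6]), (8, [8]), (16, [8, 9]), (9, [9]),
    (16, [9, 8]), (10, [10]), (16, [10, 11]), (11, [11]),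
    (16, [11, 10]), (12, [12]), (16, [12, 13]), (13, [13]),
    (16, [13, 12]), (14, [14]), (16, [14, 15]), (15, [15]),
    (16, [15, 14]), (0, [1]), (2, [3, 3]), (0, [3, 1, 3, 1, 3, 1, 3, 1, 3, 1, 3, 1, 3]),
    (1, [3, 1, 2, 0, 3, 1, 2, 0, 3, 1, 2, 0, 3, 1, 2]), (2, [1, 2, 0, 3, 1, 2, 0, 3, 1, 2, 0, 3, 1, 2, 0]), (16, [1, 1]), (2, [1, 3, 1, 3, 1, 3, 1, 3, 1, 3, 1, 3, 1]),
    (3, [0, 3, 1, 2, 0, 3, 1, 2, 0, 3, 1, 2, 0, 3, 1]), (2, [3, 3]), (2, [1, 3, 1, 3, 1, 3, 1, 3, 1, 3, 1, 3, 1]), (16, [3, 3, 3]),
    (0, [3, 1, 3, 1, 3, 1, 3, 1, 3, 1, 3, 1, 3]), (2, [1, 2, 0, 3, 1, 2, 0, 3, 1, 2, 0, 3, 1, 2, 0]), (16, [3, 3, 3]), (16, [1, 1])]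

end CfsgHSType.L3
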