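import Cfsg.Agent.Lib.HSType.Engine
import Cfsg.Agent.Lib.HSType.Code
import Cfsg.Agent.Lib.HSType.L3Data

/-!
Kernel checks of the tables of the split extension.
-/

set_option autoImplicit false
set_option maxRecDepth 100000
set_option maxHeartbeats 4000000
set_option Elab.async false

namespace CfsgHSType

open CfsgAutL34.Enum

/-- The relators of L₃(2) on two letters. -/
def relsL : List (List ℕ) :=
  [[0, 0], [2, 2, 2], (List.replicate 7 [0, 2]).flatten, (List.replicate 4 [0, 2, 1, 3]).flatten]

/-- The enumeration of the 168 classes. -/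
def l3T : Closed :=
  ⟨⟨L3.facts, L3.nf, L3.par, [], [], L3.rules, [], [], 0, 4⟩, L3.rep, L3.rows, L3.size⟩

theorem l3_rules : L3.rules = rulesOf relsL L3.spec := by decide +kernel

theorem l3_facts0 : l3T.cert.okFacts 0 1000 = true := by decide +kernel

theorem l3_facts1 : l3T.cert.okFacts 1000 1000 = true := by decide +kernel

theorem l3_facts2 : l3T.cert.okFacts 2000 96 = true := by decide +kernel

theorem l3_rows : l3T.okRows 0 168 = true := by decide +kernel

theorem l3_data : l3T.cert.nf = 2096 ∧ l3T.n = 168 ∧ l3T.reps.get 0 = 0 ∧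
    ((List.range 168).all fun d => (List.range 4).all fun x =>
      Nat.beq (CfsgLib.CosetEnum.fld (L3.rows.get d) (32 * x + 16) 16) (lstep d x)) = true := by decide +kernel

/-- The action of a word. -/
noncomputable def actW : List ℕ → ℕ → ℕ
  | [], v => v
  | x :: w, v => actV (lstep 0 x) (actW w v)

theorem tab_word : ((List.range 168).all fun l => (Tab.lword.getD l []).all (fun x => Nat.blt x 4) &&
    Nat.beq (lrun 0 (Tab.lword.getD l [])) l && (List.range 168).all fun k =>
      Nat.beq (lrun l (Tab.lword.getD k [])) (lmul l k) && Nat.blt (lmul l k) 168) = true := by decide +kernel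

theorem tab_act : ((List.range 168).all fun l => (List.range 64).all fun v =>
    Nat.beq (actW (Tab.lword.getD l []) v) (actV l v) && Nat.blt (actV l v) 64) = true := by decide +kernel

theorem tab_gen : ((List.range 4).all fun x => (List.range 64).all fun v =>
    Nat.beq (actV (lstep 0 x) v) (vadd (vadd (vsmul (v % 4) (actV (lstep 0 x) 1))
      (vsmul (v / 4 % 4) (actV (lstep 0 x) 4))) (vsmul (v / 16) (actV (lstep 0 x) 16))) &&
    Nat.beq (actV (lstep 0 x) (actV (lstep 0 (flipL x)) v)) v) = true := by decide +kernel

theorem tab_inv : ((List.range 168).all fun l => Nat.blt (linv l) 168 && Nat.beq (lmul (linv l) l) 0 &&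
    Nat.beq (lmul l (linv l)) 0) = true ∧ (List.range 64).all (fun v => Nat.beq (actV 0 v) v) = true := by
  decide +kernel

theorem tab_let : mlet 1 = invM 1 := by decide +kernel

theorem tab_word0 : Tab.lword.getD 0 [] = [] := by decide +kernel

theorem vec_ops : ((List.range 64).all fun a => Nat.blt (vneg a) 64 && Nat.beq (vadd a (vneg a)) 0 &&
    Nat.beq (vadd 0 a) a && (List.range 64).all fun b => Nat.blt (vadd a b) 64) = true := by decide +kernel

end CfsgHSType
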