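import Cfsg.Agent.Lib.Basic
import Cfsg.Agent.Lib.ExtraspecialTwo
import Cfsg.Prelude.Def_Transfer
import Mathlib.GroupTheory.Perm.Basic

/-!
The centraliser of the involution and its core of order 64; the elementary subgroup of order eight.
-/

set_option autoImplicit false

namespace CfsgHSType

open Cfsg

variable {G : Type*} [Group G] [Finite G]

/-- What is used from the centraliser. -/
structure CentData (t : G) (R : Subgroup G) : Prop where
  ht : orderOf t = 2
  sub : ∀ x ∈ R, x * t = t * x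
  norm : ∀ h : G, h * t = t * h → ∀ x ∈ R, h * x * h⁻¹ ∈ R
  card : Nat.card R = 64
  cardH : Nat.card ↥(Subgroup.centralizer ({t} : Set G)) = 7680
  tmem : t ∈ R
  sq : ∀ x ∈ R, x * x = 1 ∨ x * x = t
  comm : ∀ x ∈ R, ∀ y ∈ R, x * y * x⁻¹ * y⁻¹ = 1 ∨ x * y * x⁻¹ * y⁻¹ = t
  quot : ∃ q : ↥(Subgroup.centralizer ({t} : Set G)) →* Equiv.Perm (Fin 5), Function.Surjective q ∧
    ∀ h : ↥(Subgroup.centralizer ({t} : Set G)), q h = 1 ↔ (h : G) ∈ R

theorem centData (t : G) (ht : orderOf t = 2) (R : Subgroup G)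
    (hR : R = (Cfsg.pCore 2 ↥(Subgroup.centralizer ({t} : Set G))).map (Subgroup.centralizer ({t} : Set G)).subtype)
    (Cy E : Subgroup G) (hCy : IsCyclic Cy) (hCycard : Nat.card Cy = 4)
    (hCyle : Cy ≤ R ⊓ Subgroup.centralizer (R : Set G))
    (hEle : E ≤ R) (hEex : Cfsg.IsExtraspecial 2 E) (hEcard : Nat.card E = 32)
    (hprod : Cy ⊔ E = R) (hmeet : Cy ⊓ E = E ⊓ Subgroup.centralizer (E : Set G))
    (eH : ↥(Subgroup.centralizer ({t} : Set G)) ⧸ Cfsg.pCore 2 ↥(Subgroup.centralizer ({t} : Set G)) ≃*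
      Equiv.Perm (Fin 5)) : CentData t R := by
  classical
  set H := Subgroup.centralizer ({t} : Set G) with hH
  have hmemH : ∀ x : G, x ∈ H ↔ x * t = t * x := fun x => Subgroup.mem_centralizer_singleton_iff
  have htH : t ∈ H := (hmemH t).2 rfl
  have htt : t * t = 1 := by rw [← sq, ← ht, pow_orderOf_eq_one]
  have hRH : ∀ x ∈ R, x * t = t * x := by
    rintro x hx
    rw [hR] at hx
    obtain ⟨y, -, rfl⟩ := hx
    exact (hmemH _).1 y.2
  have hmemR : ∀ h : ↥H, (h : G) ∈ R ↔ h ∈ Cfsg.pCore 2 ↥H := fun h => by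
    rw [hR]
    exact ⟨fun ⟨y, hy, e⟩ => Subtype.ext e ▸ hy, fun hh => ⟨h, hh, rfl⟩⟩
  have hnorm : ∀ h : G, h * t = t * h → ∀ x ∈ R, h * x * h⁻¹ ∈ R := by
    intro h hh x hx
    have hn : (Cfsg.pCore 2 ↥H).Normal := inferInstance
    exact (hmemR ⟨_, H.mul_mem (H.mul_mem ((hmemH h).2 hh) ((hmemH x).2 (hRH x hx))) (H.inv_mem ((hmemH h).2 hh))⟩).2
      (hn.conj_mem ⟨x, (hmemH x).2 (hRH x hx)⟩ ((hmemR ⟨x, _⟩).1 hx) ⟨h, (hmemH h).2 hh⟩)
  have htR : t ∈ R := by
    let z : ↥H := ⟨t, htH⟩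
    have hzc : z ∈ Subgroup.center ↥H := Subgroup.mem_center_iff.2 fun g => Subtype.ext ((hmemH _).1 g.2)
    have : (Subgroup.zpowers z).Normal := ⟨fun x hx g => by
      obtain ⟨n, rfl⟩ := Subgroup.mem_zpowers_iff.1 hx
      rw [Subgroup.mem_center_iff.1 ((Subgroup.center ↥H).zpow_mem hzc n) g, mul_assoc, mul_inv_cancel, mul_one]
      exact ⟨n, rfl⟩⟩
    refine (hmemR z).2 (CfsgLib.le_pCore (N := Subgroup.zpowers z) ?_ (Subgroup.mem_zpowers z))
    refine IsPGroup.of_card (n := 1) ?_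
    rw [Nat.card_zpowers, pow_one, ← Subgroup.orderOf_coe]
    exact ht
  have hcomm : ∀ c ∈ Cy, ∀ x ∈ R, c * x = x * c := fun c hc x hx =>
    ((Subgroup.mem_centralizer_iff.1 (Subgroup.mem_inf.1 (hCyle hc)).2) x hx).symm
  let mulHom : ↥Cy × ↥E →* G :=
    { toFun := fun p => (p.1 : G) * p.2
      map_one' := by simp
      map_mul' := fun a b => by
        show ((a.1 : G) * b.1) * ((a.2 : G) * b.2) = (a.1 : G) * a.2 * ((b.1 : G) * b.2)
        rw [mul_assoc, ← mul_assoc (b.1 : G), hcomm _ b.1.2 _ (hEle a.2.2)]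
        simp only [mul_assoc] }
  have hrange : mulHom.range = R := by
    refine le_antisymm ?_ ?_
    · rintro _ ⟨p, rfl⟩
      exact R.mul_mem (Subgroup.mem_inf.1 (hCyle p.1.2)).1 (hEle p.2.2)
    · rw [← hprod]
      refine sup_le (fun c hc => ⟨(⟨c, hc⟩, 1), by simp [mulHom]⟩) (fun x hx => ⟨(1, ⟨x, hx⟩), by simp [mulHom]⟩)
  obtain ⟨z, hz⟩ := CfsgLib.ExtraTwo.ofExtraspecial hEex
  have hzmem : ∀ x ∈ Cy ⊓ E, x = 1 ∨ x = (z : G) := by
    intro x hx
    have hxE := (Subgroup.mem_inf.1 hx).2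
    rw [hmeet] at hx
    have : (⟨x, hxE⟩ : ↥E) ∈ Subgroup.center ↥E := Subgroup.mem_center_iff.2 fun g => Subtype.ext
      (Subgroup.mem_centralizer_iff.1 (Subgroup.mem_inf.1 hx).2 g g.2)
    rcases (hz.center_iff _).1 this with h | h
    · exact Or.inl (congrArg Subtype.val h)
    · exact Or.inr (congrArg Subtype.val h)
  have hzCy : (z : G) ∈ Cy := by
    have : (z : G) ∈ E ⊓ Subgroup.centralizer (E : Set G) := Subgroup.mem_inf.2 ⟨z.2,
      Subgroup.mem_centralizer_iff.2 fun g hg => congrArg Subtype.val (hz.z_comm ⟨g, hg⟩).eq⟩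
    rw [← hmeet] at this
    exact (Subgroup.mem_inf.1 this).1
  have hcard64 : Nat.card R = 64 := by
    rw [← hrange]
    have h1 := mulHom.ker.card_mul_index
    rw [Subgroup.index_ker, Nat.card_prod, hCycard, hEcard] at h1
    have hk : Nat.card mulHom.ker = 2 := by
      rw [Nat.card_eq_two_iff' (1 : mulHom.ker)]
      have hm : ((⟨z, hzCy⟩ : ↥Cy), z⁻¹) ∈ mulHom.ker := by
        rw [MonoidHom.mem_ker]
        show (z : G) * ((z⁻¹ : ↥E) : G) = 1
        simp
      refine ⟨⟨_, hm⟩, fun e => hz.ne ?_, ?_⟩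
      · have := congrArg (fun p : mulHom.ker => (p.1.1 : G)) e
        exact Subtype.ext (by simpa using this)
      · rintro ⟨⟨a, b⟩, hab⟩ hne
        rw [MonoidHom.mem_ker] at hab
        have hab' : (a : G) = (b : G)⁻¹ := eq_inv_of_mul_eq_one_left hab
        have hmem : (a : G) ∈ Cy ⊓ E := Subgroup.mem_inf.2 ⟨a.2, hab' ▸ E.inv_mem b.2⟩
        rcases hzmem _ hmem with h | h
        · refine absurd ?_ hne
          have hb : (b : G) = 1 := by rw [h] at hab'; exact inv_eq_one.1 hab'.symm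
          exact Subtype.ext (Prod.ext (Subtype.ext h) (Subtype.ext hb))
        · refine Subtype.ext (Prod.ext (Subtype.ext h) (Subtype.ext ?_))
          show (b : G) = ((z⁻¹ : ↥E) : G)
          rw [Subgroup.coe_inv, ← h, hab', inv_inv]
    rw [hk] at h1
    omega
  have hsqC : ∀ c ∈ Cy, c * c = 1 ∨ c * c = t := by
    obtain ⟨g, hg⟩ := hCy.exists_generator
    have hog : orderOf g = 4 := by rw [orderOf_eq_card_of_forall_mem_zpowers hg, hCycard]
    have hg4 : (g : G) ^ 4 = 1 := by rw [← hog, ← Subgroup.orderOf_coe, pow_orderOf_eq_one]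
    have htCy : t ∈ Cy := by
      have hr := hrange ▸ htR
      obtain ⟨⟨a, b⟩, hab⟩ := hr
      change (a : G) * b = t at hab
      have hbC : b ∈ Subgroup.center ↥E := by
        refine Subgroup.mem_center_iff.2 fun g' => Subtype.ext ?_
        show (g' : G) * b = b * g'
        have h1 := hRH g' (hEle g'.2)
        rw [show (b : G) = (a : G)⁻¹ * t by rw [← hab]; group, ← mul_assoc,
          ← hcomm _ (Cy.inv_mem a.2) _ (hEle g'.2), mul_assoc, h1, mul_assoc]
      have hb : (b : G) ∈ Cy := by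
        rcases (hz.center_iff _).1 hbC with h | h <;> rw [h]
        · exact Cy.one_mem
        · exact hzCy
      exact hab ▸ Cy.mul_mem a.2 hb
    intro c hc
    obtain ⟨n, hn⟩ := Subgroup.mem_zpowers_iff.1 (hg ⟨c, hc⟩)
    obtain ⟨m, hm⟩ := Subgroup.mem_zpowers_iff.1 (hg ⟨t, htCy⟩)
    have hgn : ∀ k : ℤ, (g : G) ^ k = (g : G) ^ (k % 4) := fun k => by
      rw [← zpow_mod_orderOf, Subgroup.orderOf_coe, hog]; norm_num
    have ec : c = (g : G) ^ n := by rw [← Subgroup.coe_zpow, hn]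
    have et : t = (g : G) ^ m := by rw [← Subgroup.coe_zpow, hm]
    have hne : ¬ (g : G) ^ (2 : ℤ) = 1 := fun e => by
      have e2 : (g : G) ^ 2 = 1 := by exact_mod_cast e
      have := orderOf_dvd_of_pow_eq_one e2
      rw [Subgroup.orderOf_coe, hog] at this
      omega
    have et2 : t = (g : G) ^ (2 : ℤ) := by
      rw [et, hgn]
      have h4 : 0 ≤ m % 4 := Int.emod_nonneg m (by norm_num)
      have h5 : m % 4 < 4 := Int.emod_lt_of_pos m (by norm_num)
      have h1 : (g : G) ^ (m + m) = 1 := by rw [zpow_add, ← et, htt]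
      rw [hgn] at h1
      have hm2 : (m + m) % 4 = 0 ∨ (m + m) % 4 = 2 := by omega
      rcases hm2 with h | h
      · have hm0 : m % 4 = 0 ∨ m % 4 = 2 := by omega
        rcases hm0 with h0 | h0 <;> rw [h0]
        exfalso
        rw [et, hgn, h0, zpow_zero] at ht
        simp at ht
      · exact absurd (h ▸ h1) hne
    rw [ec, ← zpow_add, hgn]
    have : (n + n) % 4 = 0 ∨ (n + n) % 4 = 2 := by omega
    rcases this with h | h <;> rw [h]
    · exact Or.inl (zpow_zero _)
    · exact Or.inr et2.symm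
  have hzt : (z : G) = t := by
    obtain ⟨g, hg⟩ := hCy.exists_generator
    rcases hsqC g g.2 with h | h
    · exfalso
      have hog : orderOf g = 4 := by rw [orderOf_eq_card_of_forall_mem_zpowers hg, hCycard]
      have := orderOf_dvd_of_pow_eq_one (show (g : G) ^ 2 = 1 by rw [sq, h])
      rw [Subgroup.orderOf_coe, hog] at this
      omega
    · obtain ⟨n, hn⟩ := Subgroup.mem_zpowers_iff.1 (hg ⟨(z : G), hzCy⟩)
      have hzz : (z : G) * z = 1 := congrArg Subtype.val hz.zz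
      have hzne : (z : G) ≠ 1 := fun e => hz.ne (Subtype.ext e)
      have en : (z : G) = (g : G) ^ n := by rw [← Subgroup.coe_zpow, hn]
      have hog : orderOf (g : G) = 4 := by
        rw [Subgroup.orderOf_coe, orderOf_eq_card_of_forall_mem_zpowers hg, hCycard]
      have h2 : (4 : ℤ) ∣ n + n := by
        rw [← show ((orderOf (g : G) : ℕ) : ℤ) = 4 by rw [hog]; norm_num, orderOf_dvd_iff_zpow_eq_one, zpow_add, ← en,
          hzz]
      have h3 : ¬ (4 : ℤ) ∣ n := fun h' => hzne (by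
        rw [en, ← orderOf_dvd_iff_zpow_eq_one, hog]; exact h')
      have h4 : (g : G) ^ n = (g : G) ^ ((2 : ℤ)) := by
        rw [← zpow_mod_orderOf, hog, show n % ((4 : ℕ) : ℤ) = 2 by omega]
      rw [en, h4, zpow_two]
      exact h
  have hsqE : ∀ e ∈ E, e * e = 1 ∨ e * e = t := by
    intro e he
    rcases hz.sq ⟨e, he⟩ with h | h
    · exact Or.inl (congrArg Subtype.val h)
    · exact Or.inr ((congrArg Subtype.val h).trans hzt)
  have hsq : ∀ x ∈ R, x * x = 1 ∨ x * x = t := by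
    intro x hx
    rw [← hrange] at hx
    obtain ⟨⟨a, b⟩, rfl⟩ := hx
    show (a : G) * b * (a * b) = 1 ∨ (a : G) * b * (a * b) = t
    rw [show (a : G) * b * (a * b) = ((a : G) * a) * (b * b) by
      rw [mul_assoc, ← mul_assoc (b : G), ← hcomm _ a.2 _ (hEle b.2)]; group]
    rcases hsqC a a.2 with h1 | h1 <;> rcases hsqE b b.2 with h2 | h2 <;> rw [h1, h2]
    · exact Or.inl (one_mul 1)
    · exact Or.inr (one_mul t)
    · exact Or.inr (mul_one t)
    · exact Or.inl htt
  refine ⟨ht, hRH, hnorm, hcard64, ?_, htR, hsq, ?_, ?_⟩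
  · rw [Subgroup.card_eq_card_quotient_mul_card_subgroup (Cfsg.pCore 2 ↥H), Nat.card_congr eH.toEquiv,
      Nat.card_perm, Nat.card_fin, ← Subgroup.card_map_of_injective H.subtype_injective, ← hR, hcard64]
    rfl
  · intro x hx y hy
    have e : x * y * x⁻¹ * y⁻¹ = (x * x) * ((x⁻¹ * y) * (x⁻¹ * y)) * (y * y)⁻¹ := by group
    have m1 := hsq x hx
    have m2 := hsq (x⁻¹ * y) (R.mul_mem (R.inv_mem hx) hy)
    have m3 := hsq y hy
    have hti : t⁻¹ = t := inv_eq_of_mul_eq_one_right htt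
    rcases m1 with h1 | h1 <;> rcases m2 with h2 | h2 <;> rcases m3 with h3 | h3 <;> rw [e, h1, h2, h3] <;>
      simp [hti, htt]
  · refine ⟨eH.toMonoidHom.comp (QuotientGroup.mk' _), eH.surjective.comp (QuotientGroup.mk'_surjective _), fun h => ?_⟩
    rw [hmemR]
    show eH (h : ↥H ⧸ Cfsg.pCore 2 ↥H) = 1 ↔ _
    rw [MulEquiv.map_eq_one_iff, QuotientGroup.eq_one_iff]

end CfsgHSType
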