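/-
The two candidates for the core, as codes.
-/
import Mathlib.Data.Nat.Notation

set_option autoImplicit false

namespace CfsgHSType

/-- The candidates. -/
def coreCand : List (List ℕ) := [
  [0, 2, 8, 10, 17, 19, 25, 27, 32, 34, 40, 42, 49, 51, 57, 59, 64, 66, 72, 74, 81, 83, 89, 91, 96, 98, 104, 106, 113, 115, 121, 123, 1216, 1218, 1224, 1226, 1233, 1235, 1241, 1243, 1248, 1250, 1256, 1258, 1265, 1267, 1273, 1275, 1280, 1282, 1288, 1290, 1297, 1299, 1305, 1307, 1312, 1314, 1320, 1322, 1329, 1331, 1337, 1339],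
  [0, 2, 8, 10, 17, 19, 25, 27, 32, 34, 40, 42, 49, 51, 57, 59, 68, 70, 76, 78, 85, 87, 93, 95, 100, 102, 108, 110, 117, 119, 125, 127, 1217, 1219, 1225, 1227, 1232, 1234, 1240, 1242, 1249, 1251, 1257, 1259, 1264, 1266, 1272, 1274, 1285, 1287, 1293, 1295, 1300, 1302, 1308, 1310, 1317, 1319, 1325, 1327, 1332, 1334, 1340, 1342]]

end CfsgHSType
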