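import Cfsg.Agent.Lib.HSType.Induced

/-!
The automorphism induced on the core is one of two.
-/

set_option autoImplicit false
set_option maxRecDepth 10000

namespace CfsgHSType

open Cfsg
open CfsgLib.CosetEnum (force)
open Equiv

attribute [local irreducible] actV lmul linv lstep vadd vneg vsmul appM mulM invM sAt fget innF comp6 mtI partF Delta.dat0 Delta.dat1 datOf coreCand pack6

variable {G : Type*} [Group G] [Finite G]

theorem more_ok {k : ℕ} (hk : k < 2) : tablesMore k = true := by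
  interval_cases k
  · exact tables_more.1
  · exact tables_more.2

theorem exists_delta {t : G} {R M : Subgroup G} (X : MData t R M) (C : CentData t R) :
    ∃ d q, Over X 0 d q ∧ ∃ di, (di = 0 ∨ di = 1) ∧ ∀ i < 64,
      d * X.D.toM (sAt 0 i) * d⁻¹ = X.D.toM (sAt 0 (fget ((datOf 0).cls.getD di 0) i)) := by
  classical
  obtain ⟨k, d, q, O⟩ := exists_over X C
  obtain ⟨D, hD⟩ : ∃ D, D = datOf k := ⟨_, rfl⟩
  obtain ⟨htab, hcls⟩ := tables_ok O.klt
  have hmore := more_ok O.klt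
  simp only [tablesOK, Bool.and_eq_true, ← hD] at htab
  obtain ⟨⟨⟨⟨⟨⟨⟨⟨hmt, hact⟩, h00⟩, hlev⟩, hall⟩, hlen⟩, hg0⟩, hg1⟩, hg2⟩ := htab
  simp only [tablesMore, Bool.and_eq_true, ← hD] at hmore
  obtain ⟨⟨hclosed, hgens⟩, hp1⟩ := hmore
  simp only [classesOK, CfsgAutL34.Enum.force_eq, Bool.and_eq_true, List.all_eq_true, List.mem_cons, List.not_mem_nil,
    or_false, Nat.blt_eq, forall_eq_or_imp, forall_eq, ← hD] at hcls
  obtain ⟨⟨⟨⟨⟨⟨⟨⟨⟨⟨⟨⟨⟨⟨⟨hrl, hrt⟩, ⟨h1l, h1t⟩, h3l, h3t⟩, -⟩, -⟩, -⟩, -⟩, -⟩, -⟩, -⟩, -⟩, -⟩, -⟩, -⟩, hn1⟩, -⟩ := hcls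
  obtain ⟨e, he⟩ : ∃ e : ℕ → G, e = fun i => X.D.toM (sAt k i) := ⟨_, rfl⟩
  have elt : ∀ {i}, i < 64 → sAt k i < 10752 := fun hi => (O.idx hi).1
  have eR : ∀ {i}, i < 64 → e i ∈ R := fun hi => by rw [he]; exact (O.idx hi).2
  have einj : ∀ {i j}, i < 64 → j < 64 → e i = e j → i = j := fun hi hj h => O.idx_inj hi hj (by rwa [he] at h)
  have hget : ∀ i, (coreCand.getD k []).getD i 0 = sAt k i := fun i => by with_unfolding_all rfl
  have emul : ∀ {a b}, a < 64 → b < 64 → mtI D a b < 64 ∧ e (mtI D a b) = e a * e b := by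
    intro a b ha hb
    have h := List.all_eq_true.mp (List.all_eq_true.mp hmt a (List.mem_range.mpr ha)) b (List.mem_range.mpr hb)
    simp only [Bool.and_eq_true, Nat.blt_eq, hget] at h
    refine ⟨h.2, ?_⟩
    simp only [he]
    rw [← Nat.eq_of_beq_eq_true h.1, MGens.toM_mul X.ok (elt ha) (elt hb)]
  have e0 : e 0 = 1 := by
    simp only [he, ← hget, Nat.eq_of_beq_eq_true h00]
    exact MGens.toM_zero X.ok
  have econj : ∀ {i}, i < 64 → e (fget D.iv i) = (e i)⁻¹ ∧
      e (fget D.rp i) = X.D.toM D.rho * e i * (X.D.toM D.rho)⁻¹ ∧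
      e (fget D.p1 i) = X.D.toM D.c1 * e i * (X.D.toM D.c1)⁻¹ ∧
      e (fget D.p3 i) = X.D.toM D.c3 * e i * (X.D.toM D.c3)⁻¹ := by
    intro i hi
    have h := List.all_eq_true.mp hact i (List.mem_range.mpr hi)
    simp only [Bool.and_eq_true, hget] at h
    simp only [he]
    rw [← Nat.eq_of_beq_eq_true h.1.1.1, ← Nat.eq_of_beq_eq_true h.1.1.2, ← Nat.eq_of_beq_eq_true h.1.2,
      ← Nat.eq_of_beq_eq_true h.2, MGens.toM_invM X.ok (elt hi), MGens.toM_cjM X.ok hrl (elt hi),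
      MGens.toM_cjM X.ok h1l (elt hi), MGens.toM_cjM X.ok h3l (elt hi)]
    exact ⟨rfl, rfl, rfl, rfl⟩
  have hex : ∀ i, ∃ j < 64, i < 64 → e j = d * e i * d⁻¹ := by
    intro i
    by_cases hi : i < 64
    · obtain ⟨j, hj, ej⟩ := O.idx_surj (C.norm d O.dcomm _ (eR hi))
      exact ⟨j, hj, fun _ => by rw [← ej, he]⟩
    · exact ⟨0, by norm_num, fun h => absurd h hi⟩
  choose δ hδlt hδ using hex
  have hδu : ∀ {i j}, i < 64 → j < 64 → e j = d * e i * d⁻¹ → δ i = j := fun hi hj h =>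
    einj (hδlt _) hj ((hδ _ hi).trans h.symm)
  have hrd : ∀ {i}, i < 64 → fget D.rp (δ i) = δ (fget D.rp i) := by
    intro i hi
    refine (hδu (fget_lt _ _) (fget_lt _ _) ?_).symm
    rw [(econj (hδlt i)).2.1, hδ i hi, (econj hi).2.1]
    have hr : d * X.D.toM D.rho = X.D.toM D.rho * d := hD ▸ O.drho
    calc X.D.toM D.rho * (d * e i * d⁻¹) * (X.D.toM D.rho)⁻¹
        = (X.D.toM D.rho * d) * e i * (X.D.toM D.rho * d)⁻¹ := by group
      _ = (d * X.D.toM D.rho) * e i * (d * X.D.toM D.rho)⁻¹ := by rw [hr]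
      _ = _ := by group
  -- the words
  have hfold : ∀ (gn : List ℕ) (w : List ℕ), (∀ g ∈ gn, g < 64) → (∀ i ∈ w, i < gn.length) → ∀ x, x < 64 →
      w.foldl (fun y i => mtI D y (gn.getD i 0)) x < 64 ∧
      w.foldl (fun y i => mtI D y ((gn.map δ).getD i 0)) (δ x) = δ (w.foldl (fun y i => mtI D y (gn.getD i 0)) x) := by
    intro gn w hgn
    induction w with
    | nil => intro _ x hx; exact ⟨hx, rfl⟩
    | cons i w ih =>
      intro hw x hx
      have hi := hw i List.mem_cons_self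
      have hgi : gn.getD i 0 < 64 := by rw [List.getD_eq_getElem _ _ hi]; exact hgn _ (List.getElem_mem hi)
      have hm : (gn.map δ).getD i 0 = δ (gn.getD i 0) := by
        rw [List.getD_eq_getElem _ _ (by rw [List.length_map]; exact hi), List.getElem_map,
          List.getD_eq_getElem _ _ hi]
      simp only [List.foldl_cons, hm]
      obtain ⟨hlt, hmul⟩ := emul hx hgi
      rw [← hδu hlt (emul (hδlt x) (hδlt _)).1 (by
        rw [(emul (hδlt x) (hδlt _)).2, hδ x hx, hδ _ hgi, hmul]; group)]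
      exact ih (fun j hj => hw j (List.mem_cons_of_mem _ hj)) _ hlt
  have hδ0 : δ 0 = 0 := hδu (by norm_num) (by norm_num) (by rw [e0]; group)
  -- the steps
  have hstep : ∀ j ∈ [0, 1, 2], ∀ bs, expand D bs = (D.levels.getD j ([], [])).1.map δ →
      okLevel D j bs = true ∧ ∀ p ∈ (D.levels.getD j ([], [])).2,
        fget (partF D (D.levels.getD j ([], [])).2 (expand D bs)) p.1 = δ p.1 := by
    intro j hj bs hbs
    have hl := List.all_eq_true.mp (List.all_eq_true.mp hlev j hj)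
    have hc := List.all_eq_true.mp (List.all_eq_true.mp hclosed j hj)
    have hgn : ∀ g ∈ (D.levels.getD j ([], [])).1, g < 64 := fun g hg => by
      simpa using List.all_eq_true.mp (List.all_eq_true.mp hgens j hj) g hg
    obtain ⟨gn, dom, hL⟩ : ∃ gn dom, D.levels.getD j ([], []) = (gn, dom) := ⟨_, _, rfl⟩
    rw [hL] at hl hc hgn hbs ⊢
    dsimp only at hl hc hgn hbs ⊢
    have hval : ∀ p ∈ dom, p.1 < 64 ∧ p.2.foldl (fun x i => mtI D x ((expand D bs).getD i 0)) 0 = δ p.1 := by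
      intro p hp
      have h := hl p hp
      simp only [Bool.and_eq_true, Nat.blt_eq, List.all_eq_true] at h
      refine ⟨h.1.1, ?_⟩
      have := (hfold gn p.2 hgn h.2 0 (by norm_num)).2
      rw [hδ0, Nat.eq_of_beq_eq_true h.1.2] at this
      rw [hbs]
      exact this
    have hF : ∀ i, (∃ p ∈ dom, p.1 = i) → fget (partF D dom (expand D bs)) i = δ i := by
      intro i hi
      have h := foldr_get (fun p : ℕ × List ℕ => p.1)
        (fun p => p.2.foldl (fun x i => mtI D x ((expand D bs).getD i 0)) 0 % 64) (fun p => Nat.mod_lt _ (by norm_num))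
        δ hδlt dom (fun p hp => by rw [(hval p hp).2, Nat.mod_eq_of_lt (hδlt _)]) i
      rw [if_pos hi] at h
      rw [← h]
      congr 1
      with_unfolding_all
        refine List.foldr_ext _ _ _ ?_
        intro p hp b
        simp only [CfsgAutL34.Enum.force_eq]
        rw [(hval p hp).2, Nat.mod_eq_of_lt (hδlt _)]
    refine ⟨?_, fun p hp => hF _ ⟨p, hp, rfl⟩⟩
    rw [okLevel, hL]
    dsimp only
    simp only [okStep, CfsgAutL34.Enum.force_eq, Bool.and_eq_true, List.all_eq_true, List.mem_range]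
    refine ⟨⟨fun p hp i hi => ?_, fun p hp => ?_⟩, fun p hp r hr => ?_⟩
    · have hgi : gn.getD i 0 < 64 := by rw [List.getD_eq_getElem _ _ hi]; exact hgn _ (List.getElem_mem hi)
      have hgm : gn.getD i 0 ∈ gn := by rw [List.getD_eq_getElem _ _ hi]; exact List.getElem_mem hi
      have hin := List.all_eq_true.mp (hc p hp) _ hgm
      rw [List.any_eq_true] at hin
      obtain ⟨r, hr, er⟩ := hin
      rw [hF _ ⟨r, hr, Nat.eq_of_beq_eq_true er⟩, hF _ ⟨p, hp, rfl⟩, hbs,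
        List.getD_eq_getElem (gn.map δ) _ (by rw [List.length_map]; exact hi), List.getElem_map,
        ← List.getD_eq_getElem (d := 0) gn hi]
      obtain ⟨hlt, hmul⟩ := emul (hval p hp).1 hgi
      rw [hδu hlt (emul (hδlt p.1) (hδlt (gn.getD i 0))).1 (by
        rw [(emul (hδlt p.1) (hδlt (gn.getD i 0))).2, hmul, hδ _ (hval p hp).1, hδ _ hgi]; group), Nat.beq_refl]
    · rw [Bool.or_eq_true]
      by_cases hin : (dom.any fun r => Nat.beq r.1 (fget D.rp p.1)) = true
      · refine Or.inr ?_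
        obtain ⟨r, hr, er⟩ := List.any_eq_true.1 hin
        rw [hF _ ⟨r, hr, Nat.eq_of_beq_eq_true er⟩, hF _ ⟨p, hp, rfl⟩, hrd (hval p hp).1, Nat.beq_refl]
      · exact Or.inl (by rw [Bool.eq_false_iff.2 hin]; rfl)
    · rw [hF _ ⟨p, hp, rfl⟩, hF _ ⟨r, hr, rfl⟩, Bool.or_eq_true, Bool.not_eq_true']
      by_cases hpr : p.1 = r.1
      · exact Or.inr (by rw [hpr, Nat.beq_refl])
      · refine Or.inl (by
          by_contra hh
          rw [Bool.not_eq_false] at hh
          have := congrArg e (Nat.eq_of_beq_eq_true hh)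
          rw [hδ _ (hval p hp).1, hδ _ (hval r hr).1] at this
          exact hpr (einj (hval p hp).1 (hval r hr).1 (mul_left_cancel (mul_right_cancel this))))
  -- the images of the free generators
  obtain ⟨g0, eg0⟩ : ∃ g0, g0 = (D.levels.getD 2 ([], [])).1.getD 0 0 := ⟨_, rfl⟩
  obtain ⟨g1, eg1⟩ : ∃ g1, g1 = (D.levels.getD 2 ([], [])).1.getD 2 0 := ⟨_, rfl⟩
  obtain ⟨g2, eg2⟩ : ∃ g2, g2 = (D.levels.getD 2 ([], [])).1.getD 4 0 := ⟨_, rfl⟩
  rw [← eg0, ← eg1, beq_iff_eq] at hg1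
  rw [← eg0, ← eg1, ← eg2, beq_iff_eq] at hg2
  rw [beq_iff_eq] at hg0
  have hb : ∀ {g}, g ∈ [g0, g1, g2] → g < 64 := by
    intro g hg
    have h := List.all_eq_true.mp (List.all_eq_true.mp hgens 2 (by simp))
    have hm : g ∈ (D.levels.getD 2 ([], [])).1 := by
      rw [hg2]; simp only [List.mem_cons, List.not_mem_nil, or_false] at hg
      rcases hg with rfl | rfl | rfl <;> simp [expand]
    simpa using h g hm
  have h0 := hstep 0 (by simp) [δ g0] (by
    rw [hg0, hg2]; simp [expand, hrd (hb (g := g0) (by simp))])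
  have h1 := hstep 1 (by simp) [δ g0, δ g1] (by
    rw [hg1]; simp [expand, hrd (hb (g := g0) (by simp)), hrd (hb (g := g1) (by simp))])
  have h2 := hstep 2 (by simp) [δ g0, δ g1, δ g2] (by
    rw [hg2]; simp [expand, hrd (hb (g := g0) (by simp)), hrd (hb (g := g1) (by simp))])
  have hs := search_ok O.klt
  simp only [search, ← hD, CfsgAutL34.Enum.force_eq, List.all_eq_true, List.mem_range, Bool.or_eq_true, Bool.not_eq_true'] at hs
  have hs0 := (hs (δ g0) (hδlt _)).resolve_left (by rw [h0.1]; simp)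
  have hs1 := (hs0 (δ g1) (hδlt _)).resolve_left (by rw [h1.1]; simp)
  have hs2 := (hs1 (δ g2) (hδlt _)).resolve_left (by rw [h2.1]; simp)
  obtain ⟨F, hF⟩ : ∃ F, F = partF D (D.levels.getD 2 ([], [])).2 (expand D [δ g0, δ g1, δ g2]) := ⟨_, rfl⟩
  rw [← hF] at hs2
  have hFget : ∀ {i}, i < 64 → fget F i = δ i := by
    intro i hi
    have h := List.all_eq_true.mp hall i (List.mem_range.mpr hi)
    rw [List.any_eq_true] at h
    obtain ⟨p, hp, ep⟩ := h
    rw [← Nat.eq_of_beq_eq_true ep, hF]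
    exact h2.2 p hp
  -- maps induced by elements
  have hq1 : ∀ {h : ↥(Subgroup.centralizer ({t} : Set G))}, q h = 1 → ∃ r < 64, e r = h := by
    intro h hh
    obtain ⟨r, hr, er⟩ := O.idx_surj ((O.ker h).1 hh)
    exact ⟨r, hr, by rw [he]; exact er⟩
  obtain ⟨dd, hdd⟩ : ∃ dd : ↥(Subgroup.centralizer ({t} : Set G)), (dd : G) = d :=
    ⟨⟨d, Subgroup.mem_centralizer_singleton_iff.2 O.dcomm⟩, rfl⟩
  have hinn : ∀ (m : G) (H : ℕ → ℕ), (∀ i < 64, H i < 64 ∧ e (H i) = m * e i * m⁻¹) → m ∈ R →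
      isInn D (pack6 (List.range 64) H) = true := by
    intro m H hH hm
    obtain ⟨r, hr, er⟩ := O.idx_surj hm
    refine List.any_eq_true.2 ⟨r, List.mem_range.2 hr, ?_⟩
    have ei : innF D r = pack6 (List.range 64) H := by
      with_unfolding_all
        refine pack6_congr fun i hi => ?_
        refine einj (emul (emul hr hi).1 (fget_lt _ _)).1 (hH i hi).1 ?_
        rw [(hH i hi).2, (emul (emul hr hi).1 (fget_lt _ _)).2, (emul hr hi).2, (econj hr).1]
        simp only [he, er]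
    rw [ei, Nat.beq_refl]
  have hHH : ∀ (m : G) (H : ℕ), (∀ i < 64, e (fget H i) = m * e i * m⁻¹) → ∀ i < 64,
      fget H (fget H i) < 64 ∧ e (fget H (fget H i)) = (m * m) * e i * (m * m)⁻¹ := fun m H hH i hi =>
    ⟨fget_lt _ _, by rw [hH _ (fget_lt _ _), hH i hi]; group⟩
  have hdc : ∀ (c : ℕ) (p : ℕ), c < 10752 →
      (∀ i < 64, e (fget p i) = X.D.toM c * e i * (X.D.toM c)⁻¹) → ∀ i < 64,
      e (fget (comp6 F p) i) = (d * X.D.toM c) * e i * (d * X.D.toM c)⁻¹ := fun c p _ hp i hi => by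
    rw [comp6_get F p hi, hFget (fget_lt _ _), hδ _ (fget_lt _ _), hp i hi]
    group
  have hsw := sw_facts
  have hA1 : ∃ A : ↥(Subgroup.centralizer ({t} : Set G)), (A : G) = X.D.toM D.c1 :=
    ⟨⟨_, Subgroup.mem_centralizer_singleton_iff.2 (X.mem_cent C h1l (Nat.eq_of_beq_eq_true h1t))⟩, rfl⟩
  obtain ⟨A, hA⟩ := hA1
  obtain ⟨Cc, hC⟩ : ∃ Cc : ↥(Subgroup.centralizer ({t} : Set G)), (Cc : G) = X.D.toM D.c3 :=
    ⟨⟨_, Subgroup.mem_centralizer_singleton_iff.2 (X.mem_cent C h3l (Nat.eq_of_beq_eq_true h3t))⟩, rfl⟩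
  have qA : q A = sw 0 := O.c1 A (hD ▸ hA)
  have qC : q Cc = sw 2 := O.c3 Cc (hD ▸ hC)
  have qd : q dd = sw 3 := O.dimg dd hdd
  have mem_of : ∀ {h : ↥(Subgroup.centralizer ({t} : Set G))} {x : G}, q h = 1 → (h : G) = x → x ∈ R :=
    fun hh ex => ex ▸ (O.ker _).1 hh
  have hsol : isSol D F = true := by
    simp only [isSol, CfsgAutL34.Enum.force_eq, Bool.and_eq_true, Bool.not_eq_true']
    refine ⟨⟨⟨?_, ?_⟩, ?_⟩, ?_⟩
    · by_contra hin
      rw [Bool.not_eq_false, isInn, List.any_eq_true] at hin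
      obtain ⟨r, hr, er⟩ := hin
      rw [List.mem_range] at hr
      have hd' : ∀ x ∈ R, d * x * d⁻¹ = e r * x * (e r)⁻¹ := by
        intro x hx
        obtain ⟨i, hi, rfl⟩ := O.idx_surj hx
        have h := hFget hi
        rw [← Nat.eq_of_beq_eq_true er, innF_get D r hi] at h
        have hh := hδ i hi
        rw [← h, (emul (emul hr hi).1 (fget_lt _ _)).2, (emul hr hi).2, (econj hr).1] at hh
        simp only [he] at hh ⊢
        exact hh.symm
      obtain ⟨σ, hσ⟩ := sw_conj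
      obtain ⟨g, hg⟩ := O.surj σ
      obtain ⟨r2, hr2, er2⟩ := hq1 (h := (g * dd * g⁻¹)⁻¹ * A) (by
        simp only [map_mul, map_inv, hg, qd, qA, hσ, inv_mul_cancel])
      have eA : X.D.toM D.c1 = (g : G) * d * (g : G)⁻¹ * e r2 := by
        rw [er2, ← hA, ← hdd]; simp only [Subgroup.coe_mul, Subgroup.coe_inv]; group
      have hgc := Subgroup.mem_centralizer_singleton_iff.1 g.2
      have hgi := Subgroup.mem_centralizer_singleton_iff.1 (g⁻¹).2
      rw [Subgroup.coe_inv] at hgi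
      have hin1 : isInn D (pack6 (List.range 64) (fget D.p1)) = true := by
        refine hinn ((g : G) * e r * (g : G)⁻¹ * e r2) _ (fun i hi => ⟨fget_lt _ _, ?_⟩)
          (R.mul_mem (C.norm _ hgc _ (eR hr)) (eR hr2))
        rw [(econj hi).2.2.1, eA]
        have hx := hd' _ (C.norm _ hgi _ (R.mul_mem (R.mul_mem (eR hr2) (eR hi)) (R.inv_mem (eR hr2))))
        calc (g : G) * d * (g : G)⁻¹ * e r2 * e i * ((g : G) * d * (g : G)⁻¹ * e r2)⁻¹
            = g * (d * ((g : G)⁻¹ * (e r2 * e i * (e r2)⁻¹) * ((g : G)⁻¹)⁻¹) * d⁻¹) * (g : G)⁻¹ := by group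
          _ = g * (e r * ((g : G)⁻¹ * (e r2 * e i * (e r2)⁻¹) * ((g : G)⁻¹)⁻¹) * (e r)⁻¹) * (g : G)⁻¹ := by rw [hx]
          _ = _ := by group
      rw [Nat.eq_of_beq_eq_true hp1] at hin1
      rw [hin1] at hn1
      simp at hn1
    · have h := hinn (d * d) (fun i => fget F (fget F i)) (hHH d F fun i hi => by rw [hFget hi]; exact hδ i hi)
        (mem_of (h := dd * dd) (by rw [map_mul, qd, hsw.2.2.1]) (by rw [Subgroup.coe_mul, hdd]))
      with_unfolding_all exact h
    · have h := hinn _ _ (hHH _ (comp6 F D.p1) (hdc D.c1 D.p1 h1l fun i hi => (econj hi).2.2.1))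
        (mem_of (h := dd * A * (dd * A)) (by
          simp only [map_mul, qd, qA]
          calc sw 3 * sw 0 * (sw 3 * sw 0) = (sw 3 * sw 0) * (sw 0 * sw 3) := by rw [hsw.2.2.2.1]
            _ = sw 3 * (sw 0 * sw 0) * sw 3 := by simp only [mul_assoc]
            _ = 1 := by rw [hsw.1, mul_one, hsw.2.2.1]) (by simp only [Subgroup.coe_mul, hdd, hA]))
      with_unfolding_all exact h
    · have hH3 := hdc D.c3 D.p3 h3l fun i hi => (econj hi).2.2.2
      have h := hinn (d * X.D.toM D.c3 * (d * X.D.toM D.c3) * (d * X.D.toM D.c3))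
        (fun i => fget (comp6 F D.p3) (fget (comp6 (comp6 F D.p3) (comp6 F D.p3)) i))
        (fun i hi => ⟨fget_lt _ _, by
          rw [comp6_get _ _ hi, hH3 _ (fget_lt _ _), hH3 _ (fget_lt _ _), hH3 i hi]; group⟩)
        (mem_of (h := dd * Cc * (dd * Cc) * (dd * Cc)) (by
          simp only [map_mul, qd, qC]
          exact hsw.2.2.2.2.2.1) (by simp only [Subgroup.coe_mul, hdd, hC]))
      with_unfolding_all exact h
  rcases hs2 with h | h
  · rw [hsol] at h
    simp at h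
  rw [isKnown, List.any_eq_true] at h
  obtain ⟨c, hc, h⟩ := h
  rw [List.any_eq_true] at h
  obtain ⟨g, hg, h⟩ := h
  rw [Bool.and_eq_true] at h
  rw [List.mem_range] at hg
  have hk0 : k = 0 := by
    have := O.klt
    by_contra hk0
    have : k = 1 := by omega
    subst this
    rw [hD, search1.2] at hc
    simp at hc
  subst hk0
  obtain ⟨di, hdi, rfl⟩ := List.getElem_of_mem hc
  have hdi2 : di < 2 := by
    have : D.cls.length = 2 := by rw [hD]; exact cls_len
    omega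
  have gfix : fget D.rp g = g := Nat.eq_of_beq_eq_true h.1
  have gR := eR hg
  refine ⟨(e g)⁻¹ * d, q, ⟨O.klt, O.core, O.surj, O.ker, O.c1, O.c3, O.rho, ?_, ?_, ?_⟩, di, by omega, ?_⟩
  · have hgt : Commute (e g) t := C.sub _ gR
    exact (hgt.inv_left.mul_left O.dcomm).eq
  · intro x hx
    obtain ⟨T, hT⟩ : ∃ T : ↥(Subgroup.centralizer ({t} : Set G)), (T : G) = e g :=
      ⟨⟨e g, Subgroup.mem_centralizer_singleton_iff.2 (C.sub _ gR)⟩, rfl⟩
    have hxT : x = T⁻¹ * dd := Subtype.ext (by rw [Subgroup.coe_mul, Subgroup.coe_inv, hT, hdd, hx])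
    rw [hxT, map_mul, map_inv, (O.ker T).2 (hT ▸ gR), inv_one, one_mul, qd]
  · have h1 := (econj hg).2.1
    rw [gfix] at h1
    have hr : d * X.D.toM D.rho = X.D.toM D.rho * d := hD ▸ O.drho
    have hc1 : Commute (e g) (X.D.toM D.rho) := eq_mul_inv_iff_mul_eq.1 h1
    rw [← hD, mul_assoc, hr, ← mul_assoc, hc1.inv_left.eq, mul_assoc]
  · intro i hi
    rw [← hD, List.getD_eq_getElem _ _ hdi]
    have h2 := hFget hi
    rw [← Nat.eq_of_beq_eq_true h.2, comp6_get _ _ hi, innF_get D g (fget_lt _ _)] at h2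
    have hh := hδ i hi
    rw [← h2, (emul (emul hg (fget_lt _ _)).1 (fget_lt _ _)).2, (emul hg (fget_lt _ _)).2, (econj hg).1] at hh
    simp only [he] at hh ⊢
    calc (X.D.toM (sAt 0 g))⁻¹ * d * X.D.toM (sAt 0 i) * ((X.D.toM (sAt 0 g))⁻¹ * d)⁻¹
        = (X.D.toM (sAt 0 g))⁻¹ * (d * X.D.toM (sAt 0 i) * d⁻¹) * X.D.toM (sAt 0 g) := by group
      _ = _ := by rw [← hh]; group

end CfsgHSType
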