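import Cfsg.Agent.Lib.HSType.Code
import Cfsg.Agent.Lib.HSType.CoreData
import Cfsg.Agent.Lib.HSType.DeltaData

/-!
The finite search for the automorphism induced on the core.
-/

set_option autoImplicit false
set_option maxRecDepth 100000
set_option maxHeartbeats 4000000
set_option Elab.async false

namespace CfsgHSType

open CfsgLib.CosetEnum (Tree force fld)
open Delta (Dat)

/-- The data of a candidate. -/
def datOf (k : ℕ) : Dat := if k = 0 then Delta.dat0 else Delta.dat1

/-- The code of an index. -/
def sAt (k i : ℕ) : ℕ := (coreCand.getD k []).getD i 0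

/-- An image. -/
noncomputable def fget (F i : ℕ) : ℕ := fld F (6 * i) 6

/-- The product of indices. -/
noncomputable def mtI (D : Dat) (a b : ℕ) : ℕ := fget (D.mt.get a) b

/-- A map as a number. -/
noncomputable def pack6 (l : List ℕ) (f : ℕ → ℕ) : ℕ :=
  l.foldr (fun a acc => force (f a) fun v => Nat.lor acc (Nat.shiftLeft v (6 * a))) 0

/-- The map of a conjugation. -/
noncomputable def innF (D : Dat) (g : ℕ) : ℕ :=
  pack6 (List.range 64) fun i => mtI D (mtI D g i) (fget D.iv g)

/-- The composite. -/
noncomputable def comp6 (F H : ℕ) : ℕ := pack6 (List.range 64) fun i => fget F (fget H i)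

/-- The inner maps. -/
noncomputable def isInn (D : Dat) (F : ℕ) : Bool := (List.range 64).any fun g => Nat.beq (innF D g) F

/-- The images of the generators up to a step. -/
noncomputable def expand (D : Dat) : List ℕ → List ℕ
  | [b0] => [b0, fget D.rp b0]
  | [b0, b1] => [b0, fget D.rp b0, b1, fget D.rp b1]
  | [b0, b1, b2] => [b0, fget D.rp b0, b1, fget D.rp b1, b2]
  | _ => []

/-- The partial map defined by the images. -/
noncomputable def partF (D : Dat) (dom : List (ℕ × List ℕ)) (im : List ℕ) : ℕ :=
  dom.foldr (fun p acc => force (p.2.foldl (fun x i => mtI D x (im.getD i 0)) 0) fun v => Nat.lor acc (Nat.shiftLeft v (6 * p.1))) 0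

/-- The tests on a partial map. -/
noncomputable def okStep (D : Dat) (gn : List ℕ) (dom : List (ℕ × List ℕ)) (im : List ℕ) : Bool :=
  force (partF D dom im) fun F =>
    dom.all (fun p => (List.range gn.length).all fun i =>
      Nat.beq (fget F (mtI D p.1 (gn.getD i 0))) (mtI D (fget F p.1) (im.getD i 0))) &&
    dom.all (fun p => !(dom.any fun q => Nat.beq q.1 (fget D.rp p.1)) ||
      Nat.beq (fget F (fget D.rp p.1)) (fget D.rp (fget F p.1))) &&
    dom.all fun p => dom.all fun q => !Nat.beq (fget F p.1) (fget F q.1) || Nat.beq p.1 q.1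

/-- The tests for a step. -/
noncomputable def okLevel (D : Dat) (j : ℕ) (bs : List ℕ) : Bool :=
  okStep D (D.levels.getD j ([], [])).1 (D.levels.getD j ([], [])).2 (expand D bs)

/-- The conditions on the induced map. -/
noncomputable def isSol (D : Dat) (F : ℕ) : Bool :=
  !isInn D F && isInn D (comp6 F F) && (force (comp6 F D.p1) fun H => isInn D (comp6 H H)) &&
    force (comp6 F D.p3) fun H => isInn D (comp6 H (comp6 H H))

/-- The induced map is a translate of a listed one. -/
noncomputable def isKnown (D : Dat) (F : ℕ) : Bool :=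
  D.cls.any fun c => (List.range 64).any fun g => Nat.beq (fget D.rp g) g && Nat.beq (comp6 (innF D g) c) F

/-- The search. -/
noncomputable def search (k : ℕ) : Bool :=
  let D := datOf k
  (List.range 64).all fun b0 => !okLevel D 0 [b0] || (List.range 64).all fun b1 => !okLevel D 1 [b0, b1] ||
    (List.range 64).all fun b2 => !okLevel D 2 [b0, b1, b2] ||
      force (partF D (D.levels.getD 2 ([], [])).2 (expand D [b0, b1, b2])) fun F => !isSol D F || isKnown D F

theorem search0 : search 0 = true := by decide +kernel

theorem search1 : search 1 = true ∧ (datOf 1).cls = [] := by decide +kernel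

/-- The tables are right. -/
noncomputable def tablesOK (k : ℕ) : Bool :=
  let D := datOf k
  let S := coreCand.getD k []
  (List.range 64).all (fun i => (List.range 64).all fun j =>
    Nat.beq (mulM (S.getD i 0) (S.getD j 0)) (S.getD (mtI D i j) 0) && Nat.blt (mtI D i j) 64) &&
  (List.range 64).all (fun i => Nat.beq (invM (S.getD i 0)) (S.getD (fget D.iv i) 0) &&
    Nat.beq (cjM D.rho (S.getD i 0)) (S.getD (fget D.rp i) 0) &&
    Nat.beq (cjM D.c1 (S.getD i 0)) (S.getD (fget D.p1 i) 0) &&
    Nat.beq (cjM D.c3 (S.getD i 0)) (S.getD (fget D.p3 i) 0)) &&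
  Nat.beq (S.getD 0 0) 0 &&
  [0, 1, 2].all (fun j => (D.levels.getD j ([], [])).2.all fun p => Nat.blt p.1 64 &&
    Nat.beq (p.2.foldl (fun x i => mtI D x ((D.levels.getD j ([], [])).1.getD i 0)) 0) p.1 &&
    p.2.all fun i => Nat.blt i (D.levels.getD j ([], [])).1.length) &&
  (List.range 64).all (fun a => (D.levels.getD 2 ([], [])).2.any fun p => Nat.beq p.1 a) &&
  Nat.beq (D.levels.getD 2 ([], [])).2.length 64 &&
  (D.levels.getD 0 ([], [])).1 == expand D ((D.levels.getD 2 ([], [])).1.take 1) &&
  (D.levels.getD 1 ([], [])).1 == expand D [(D.levels.getD 2 ([], [])).1.getD 0 0, (D.levels.getD 2 ([], [])).1.getD 2 0] &&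
  (D.levels.getD 2 ([], [])).1 == expand D [(D.levels.getD 2 ([], [])).1.getD 0 0,
    (D.levels.getD 2 ([], [])).1.getD 2 0, (D.levels.getD 2 ([], [])).1.getD 4 0]

theorem tables0 : tablesOK 0 = true := by decide +kernel

theorem tables1 : tablesOK 1 = true := by decide +kernel

/-- The facts on the three classes modulo the core. -/
noncomputable def classesOK (k : ℕ) : Bool :=
  let D := datOf k
  let S := coreCand.getD k []
  force (mulM D.c1 D.rho) fun c2 => force (mulM c2 D.c3) fun c23 => force (mulM D.c1 c2) fun c12 =>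
  [D.rho, D.c1, D.c3].all (fun x => Nat.blt x 10752 && Nat.beq (mulM x tC) (mulM tC x)) &&
    Nat.beq (mulM D.rho (mulM D.rho D.rho)) 0 && !S.contains D.c1 && S.contains (mulM D.c1 D.c1) &&
    S.contains (mulM c2 c2) && S.contains (mulM D.c3 D.c3) && !S.contains c12 && !S.contains c23 &&
    S.contains (mulM c12 (mulM c12 c12)) && S.contains (mulM c23 (mulM c23 c23)) &&
    !S.contains (mulM D.c1 D.c3) && S.contains (mulM (mulM D.c1 D.c3) (invM (mulM D.c3 D.c1))) &&
    !isInn D D.p1 &&
    S.all fun s => force (mulM D.rho s) fun x => !Nat.beq (mulM x (mulM x x)) 0 ||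
      S.any fun g => Nat.beq (cjM g D.rho) x

theorem classes_ok : classesOK 0 = true ∧ classesOK 1 = true := by decide +kernel

/-- Further properties of the tables. -/
noncomputable def tablesMore (k : ℕ) : Bool :=
  let D := datOf k
  [0, 1, 2].all (fun j => (D.levels.getD j ([], [])).2.all fun p => (D.levels.getD j ([], [])).1.all fun g =>
    (D.levels.getD j ([], [])).2.any fun r => Nat.beq r.1 (mtI D p.1 g)) &&
  [0, 1, 2].all (fun j => (D.levels.getD j ([], [])).1.all fun g => Nat.blt g 64) &&
  Nat.beq (pack6 (List.range 64) (fget D.p1)) D.p1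

theorem tables_more : tablesMore 0 = true ∧ tablesMore 1 = true := by decide +kernel

theorem cls_len : (datOf 0).cls.length = 2 := by decide +kernel

end CfsgHSType
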