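import Cfsg.Agent.Lib.HSType.Core
import Mathlib.Data.ZMod.Basic

/-!
The elementary subgroup of order eight contains the involution; its normaliser, as an abelian group
of exponent four with a faithful action.
-/

set_option autoImplicit false

namespace CfsgHSType

open Cfsg

variable {G : Type*} [Group G] [Finite G]

/-- A numbering of the abelian subgroup. -/
def code4 (v : ℕ) : ZMod 4 × ZMod 4 × ZMod 4 :=
  (((v % 4 : ℕ) : ZMod 4), ((v / 4 % 4 : ℕ) : ZMod 4), ((v / 16 % 4 : ℕ) : ZMod 4))

/-- The centre of the core lies in the cyclic factor. -/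
theorem center_mem (R Cy E : Subgroup G) (hCyle : Cy ≤ R ⊓ Subgroup.centralizer (R : Set G))
    (hEle : E ≤ R) (hprod : Cy ⊔ E = R) (hmeet : Cy ⊓ E = E ⊓ Subgroup.centralizer (E : Set G))
    {z : G} (hz : z ∈ R) (hcen : ∀ x ∈ R, z * x = x * z) : z ∈ Cy := by
  let f : ↥Cy × ↥E →* G :=
    { toFun := fun p => (p.1 : G) * p.2
      map_one' := by simp
      map_mul' := fun a b => by
        show ((a.1 : G) * b.1) * ((a.2 : G) * b.2) = (a.1 : G) * a.2 * ((b.1 : G) * b.2)
        rw [mul_assoc, ← mul_assoc (b.1 : G),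
          ← (Subgroup.mem_centralizer_iff.1 (Subgroup.mem_inf.1 (hCyle b.1.2)).2 _ (hEle a.2.2))]
        simp only [mul_assoc] }
  have hle : R ≤ f.range := by
    rw [← hprod]
    exact sup_le (fun c hc => ⟨(⟨c, hc⟩, 1), by simp [f]⟩) (fun x hx => ⟨(1, ⟨x, hx⟩), by simp [f]⟩)
  obtain ⟨⟨a, b⟩, rfl⟩ := hle hz
  have hb : (b : G) ∈ Cy ⊓ E := by
    rw [hmeet]
    refine Subgroup.mem_inf.2 ⟨b.2, Subgroup.mem_centralizer_iff.2 fun g hg => ?_⟩
    have h1 : (a : G) * b * g = g * ((a : G) * b) := hcen g (hEle hg)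
    have h2 := Subgroup.mem_centralizer_iff.1 (Subgroup.mem_inf.1 (hCyle a.2)).2 g (hEle hg)
    rw [← mul_assoc, h2, mul_assoc, mul_assoc] at h1
    exact (mul_left_cancel h1).symm
  exact Cy.mul_mem a.2 (Subgroup.mem_inf.1 hb).1

/-- The involution lies in every elementary subgroup of order eight of the core. -/
theorem CentData.mem_eight {t : G} {R : Subgroup G} (C : CentData t R) (Cy : Subgroup G) (hCycard : Nat.card Cy = 4)
    (hCyle : Cy ≤ R ⊓ Subgroup.centralizer (R : Set G)) (hCy : IsCyclic Cy) {V : Subgroup G}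
    (hVcomm : IsMulCommutative V) (hVexp : ∀ v ∈ V, v ^ 2 = 1) (hVcard : Nat.card V = 8) (hVR : V ≤ R)
    (hZ : ∀ z ∈ R, (∀ x ∈ R, z * x = x * z) → z ∈ Cy) : t ∈ V := by
  classical
  by_contra htV
  obtain ⟨ht, hRt, -, h64, -, htR, hsq, hcomm, -⟩ := C
  have htt : t * t = 1 := by rw [← pow_two, ← ht, pow_orderOf_eq_one]
  have htne : t ≠ 1 := fun e => by rw [e] at ht; simp at ht
  obtain ⟨c, hc⟩ := hCy.exists_generator
  have hcm : ∀ x ∈ R, (c : G) * x = x * c := fun x hx =>
    ((Subgroup.mem_centralizer_iff.1 (Subgroup.mem_inf.1 (hCyle c.2)).2) x hx).symm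
  have hcR : (c : G) ∈ R := (Subgroup.mem_inf.1 (hCyle c.2)).1
  have hoc : orderOf (c : G) = 4 := by
    rw [Subgroup.orderOf_coe, orderOf_eq_card_of_forall_mem_zpowers hc, hCycard]
  have hcc : (c : G) * c = t := by
    rcases hsq _ hcR with h | h
    · have := orderOf_dvd_of_pow_eq_one (show (c : G) ^ 2 = 1 by rw [pow_two, h])
      rw [hoc] at this
      omega
    · exact h
  -- the group W = V × ⟨c⟩ has order 32 and is abelian
  let f : ↥V × ↥Cy →* G :=
    { toFun := fun p => (p.1 : G) * p.2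
      map_one' := by simp
      map_mul' := fun a b => by
        show ((a.1 : G) * b.1) * ((a.2 : G) * b.2) = (a.1 : G) * a.2 * ((b.1 : G) * b.2)
        rw [mul_assoc, ← mul_assoc (b.1 : G),
          (Subgroup.mem_centralizer_iff.1 (Subgroup.mem_inf.1 (hCyle a.2.2)).2 _ (hVR b.1.2))]
        simp only [mul_assoc] }
  have hfinj : Function.Injective f := by
    rw [injective_iff_map_eq_one]
    rintro ⟨v, d⟩ h
    change (v : G) * d = 1 at h
    have hd : (d : G) ∈ V := by
      rw [eq_inv_of_mul_eq_one_right h]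
      exact V.inv_mem v.2
    have hd2 : (d : G) * d = 1 := by rw [← pow_two, hVexp _ hd]
    obtain ⟨n, hn⟩ := Subgroup.mem_zpowers_iff.1 (hc d)
    have en : (d : G) = (c : G) ^ n := by rw [← Subgroup.coe_zpow, hn]
    have h2 : (4 : ℤ) ∣ n + n := by
      rw [← show ((orderOf (c : G) : ℕ) : ℤ) = 4 by rw [hoc]; norm_num, orderOf_dvd_iff_zpow_eq_one, zpow_add, ← en, hd2]
    have hd1 : (d : G) = 1 := by
      by_cases h0 : n % 4 = 0
      · rw [en, ← zpow_mod_orderOf, hoc, show n % ((4 : ℕ) : ℤ) = 0 by omega, zpow_zero]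
      · exfalso
        refine htV ?_
        rw [← hcc, ← zpow_two, show (2 : ℤ) = n % ((4 : ℕ) : ℤ) by omega, ← hoc, zpow_mod_orderOf, ← en]
        exact hd
    refine Prod.ext (Subtype.ext ?_) (Subtype.ext hd1)
    rw [hd1, mul_one] at h
    exact h
  have h32 : Nat.card f.range = 32 := by
    rw [← Nat.card_congr (MonoidHom.ofInjective hfinj).toEquiv, Nat.card_prod, hVcard, hCycard]
  have hle : f.range ≤ R := by
    rintro _ ⟨p, rfl⟩
    exact R.mul_mem (hVR p.1.2) (Subgroup.mem_inf.1 (hCyle p.2.2)).1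
  have habel : ∀ a ∈ f.range, ∀ b ∈ f.range, a * b = b * a := by
    rintro _ ⟨p, rfl⟩ _ ⟨q, rfl⟩
    rw [← map_mul, ← map_mul]
    refine congrArg f (Prod.ext (Subtype.ext ?_) (Subtype.ext ?_))
    · exact congrArg Subtype.val (hVcomm.is_comm.comm p.1 q.1)
    · show (p.2 : G) * q.2 = q.2 * p.2
      exact ((Subgroup.mem_centralizer_iff.1 (Subgroup.mem_inf.1 (hCyle p.2.2)).2) _
        (Subgroup.mem_inf.1 (hCyle q.2.2)).1).symm
  obtain ⟨x, hxR, hxW⟩ : ∃ x ∈ R, x ∉ f.range := by
    by_contra hno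
    push Not at hno
    have := Subgroup.card_le_of_le (H := R) (K := f.range) hno
    rw [h64, h32] at this
    omega
  have hti : ∀ w ∈ f.range, x * w * x⁻¹ * w⁻¹ = 1 ∨ x * w * x⁻¹ * w⁻¹ = t := fun w hw => hcomm x hxR w (hle hw)
  let K : Subgroup G :=
    { carrier := {w | w ∈ f.range ∧ x * w = w * x}
      one_mem' := ⟨f.range.one_mem, by simp⟩
      mul_mem' := fun {a b} ha hb => ⟨f.range.mul_mem ha.1 hb.1, by
        rw [← mul_assoc, ha.2, mul_assoc, hb.2, mul_assoc]⟩
      inv_mem' := fun {a} ha => ⟨f.range.inv_mem ha.1, (Commute.inv_right (show Commute x a from ha.2)).eq⟩ }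
  have hKcard : 16 ≤ Nat.card K := by
    by_contra hlt
    push Not at hlt
    have hKle : K ≤ f.range := fun w hw => hw.1
    have hidx : Nat.card K * 2 ≥ Nat.card f.range := by
      by_cases hall : ∀ w ∈ f.range, x * w = w * x
      · have : f.range ≤ K := fun w hw => ⟨hw, hall w hw⟩
        have := Subgroup.card_le_of_le this
        omega
      push Not at hall
      obtain ⟨w0, hw0, hw0x⟩ := hall
      let g : ↥K × Bool → ↥f.range := fun p => if p.2 then ⟨(p.1 : G) * w0, f.range.mul_mem (hKle p.1.2) hw0⟩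
        else ⟨p.1, hKle p.1.2⟩
      have hs : Function.Surjective g := by
        rintro ⟨w, hw⟩
        by_cases hwx : x * w = w * x
        · exact ⟨(⟨w, hw, hwx⟩, false), rfl⟩
        refine ⟨(⟨w * w0⁻¹, f.range.mul_mem hw (f.range.inv_mem hw0), ?_⟩, true), Subtype.ext ?_⟩
        · have ex : ∀ u ∈ f.range, ¬ x * u = u * x → x * u = t * (u * x) := fun u hu hne => by
            rcases hti u hu with h | h
            · exact absurd (by calc x * u = x * u * x⁻¹ * u⁻¹ * (u * x) := by group
                                  _ = u * x := by rw [h, one_mul]) hne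
            · calc x * u = x * u * x⁻¹ * u⁻¹ * (u * x) := by group
                _ = t * (u * x) := by rw [h]
          have e1 := ex w hw hwx
          have e2 := ex w0 hw0 hw0x
          have e3 : x * w0⁻¹ = t⁻¹ * (w0⁻¹ * x) := by
            have ht' : t * w0 = w0 * t := (hRt w0 (hle hw0)).symm
            calc x * w0⁻¹ = w0⁻¹ * (w0 * x) * w0⁻¹ := by group
              _ = w0⁻¹ * (t⁻¹ * (t * (w0 * x))) * w0⁻¹ := by group
              _ = w0⁻¹ * (t⁻¹ * (x * w0)) * w0⁻¹ := by rw [e2]
              _ = w0⁻¹ * t⁻¹ * x := by group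
              _ = (t * w0)⁻¹ * x := by group
              _ = (w0 * t)⁻¹ * x := by rw [ht']
              _ = _ := by group
          calc x * (w * w0⁻¹) = x * w * w0⁻¹ := (mul_assoc _ _ _).symm
            _ = t * (w * (x * w0⁻¹)) := by rw [e1]; group
            _ = t * (w * t⁻¹) * (w0⁻¹ * x) := by rw [e3]; group
            _ = t * (t⁻¹ * w) * (w0⁻¹ * x) := by
              rw [(Commute.inv_right (show Commute w t from hRt w (hle hw))).eq]
            _ = _ := by group
        · show w * w0⁻¹ * w0 = w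
          group
      have := Nat.card_le_card_of_surjective g hs
      rw [Nat.card_prod, Nat.card_eq_fintype_card (α := Bool), Fintype.card_bool] at this
      omega
    omega
  have hKR : ∀ w ∈ K, ∀ y ∈ R, w * y = y * w := by
    intro w hw
    have hidx : f.range ⊔ Subgroup.zpowers x = R := by
      refine Subgroup.eq_of_le_of_card_ge (sup_le hle ((Subgroup.zpowers_le).2 hxR)) ?_
      have h1 := Subgroup.card_dvd_of_le (le_sup_left : f.range ≤ f.range ⊔ Subgroup.zpowers x)
      have h2 : Nat.card f.range < Nat.card ↥(f.range ⊔ Subgroup.zpowers x) := by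
        by_contra hh
        push Not at hh
        have := Subgroup.eq_of_le_of_card_ge (le_sup_left : f.range ≤ f.range ⊔ Subgroup.zpowers x) hh
        exact hxW (this ▸ Subgroup.mem_sup_right (Subgroup.mem_zpowers x))
      rw [h32] at h1 h2
      obtain ⟨k, hk⟩ := h1
      rw [h64]
      rcases k with _ | _ | k
      · omega
      · omega
      · rw [hk]; omega
    intro y hy
    rw [← hidx] at hy
    have : f.range ⊔ Subgroup.zpowers x ≤ Subgroup.centralizer ({w} : Set G) :=
      sup_le (fun u hu => Subgroup.mem_centralizer_singleton_iff.2 (habel u hu w hw.1))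
        ((Subgroup.zpowers_le).2 (Subgroup.mem_centralizer_singleton_iff.2 hw.2))
    exact (Subgroup.mem_centralizer_singleton_iff.1 (this hy)).symm
  have hKCy : K ≤ Cy := fun w hw => hZ w (hle hw.1) (hKR w hw)
  have := Subgroup.card_le_of_le hKCy
  omega

end CfsgHSType
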