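import Mathlib.GroupTheory.Perm.Fin
import Mathlib.Data.Fintype.Perm
import Mathlib.Tactic.Group

/-!
Coxeter generators of S₄ inside S₅ are conjugate to the standard ones.
-/

set_option autoImplicit false
set_option maxRecDepth 100000
set_option maxHeartbeats 4000000
set_option synthInstance.maxHeartbeats 400000
set_option synthInstance.maxSize 4000

namespace CfsgHSType

open Equiv

/-- The transposition of two neighbours. -/
def sw (i : Fin 4) : Perm (Fin 5) := swap i.castSucc i.succ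

theorem coxeter_std : ∀ a : Perm (Fin 5), a * a = 1 → a ≠ 1 → ∀ b : Perm (Fin 5), b * b = 1 → a * b ≠ 1 →
    a * b * (a * b) * (a * b) = 1 → ∀ c : Perm (Fin 5), c * c = 1 → b * c ≠ 1 → b * c * (b * c) * (b * c) = 1 →
    a * c = c * a → a ≠ c → ∃ τ : Perm (Fin 5), τ * a = sw 0 * τ ∧ τ * b = sw 1 * τ ∧ τ * c = sw 2 * τ := by
  decide +kernel

theorem sw_facts : sw 0 * sw 0 = 1 ∧ sw 2 * sw 2 = 1 ∧ sw 3 * sw 3 = 1 ∧ sw 0 * sw 3 = sw 3 * sw 0 ∧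
    sw 1 * sw 3 = sw 3 * sw 1 ∧ sw 3 * sw 2 * (sw 3 * sw 2) * (sw 3 * sw 2) = 1 ∧ sw 3 4 = 3 ∧ sw 3 3 = 4 ∧
    sw 0 4 = 4 ∧ sw 1 4 = 4 ∧ sw 2 4 = 4 := by decide +kernel

theorem sw_conj : ∃ σ : Perm (Fin 5), σ * sw 3 * σ⁻¹ = sw 0 := by decide +kernel

theorem sw_moves : sw 0 4 = 4 ∧ sw 3 4 = 3 ∧ sw 2 (sw 3 4) = 2 ∧ sw 1 (sw 2 (sw 3 4)) = 1 ∧
    sw 0 (sw 1 (sw 2 (sw 3 4))) = 0 := by decide +kernel

end CfsgHSType
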