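import Cfsg.Agent.Lib.HSType.Code

/-!
Linear maps of (Z/4)³ as triples of vectors, with the finite facts on lifts of generators.
-/

set_option autoImplicit false
set_option maxRecDepth 100000
set_option maxHeartbeats 4000000
set_option Elab.async false

namespace CfsgHSType

/-- A linear map given by the images of the three unit vectors. -/
def appM (X : ℕ × ℕ × ℕ) (v : ℕ) : ℕ :=
  vadd (vadd (vsmul (v % 4) X.1) (vsmul (v / 4 % 4) X.2.1)) (vsmul (v / 16 % 4) X.2.2)

/-- The parities of a vector. -/
def par2 (v : ℕ) : ℕ := v % 2 + 2 * (v / 4 % 2) + 4 * (v / 16 % 2)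

/-- A vector with the given parities `p` and halves `s`. -/
def lift2 (p s : ℕ) : ℕ := p % 2 + 2 * (s % 2) + 4 * (p / 2 % 2 + 2 * (s / 2 % 2)) + 16 * (p / 4 % 2 + 2 * (s / 4 % 2))

/-- The lift number `s` of a triple of parities. -/
def liftT (p : ℕ × ℕ × ℕ) (s : ℕ) : ℕ × ℕ × ℕ :=
  (lift2 p.1 (s % 8), lift2 p.2.1 (s / 8 % 8), lift2 p.2.2 (s / 64))

/-- The class of a triple as a map. -/
noncomputable def matL (l : ℕ) : ℕ × ℕ × ℕ := (actV l 1, actV l 4, actV l 16)

/-- The class of the first generator. -/
noncomputable def lA : ℕ := lstep 0 0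

/-- The class of the second generator. -/
noncomputable def lB : ℕ := lstep 0 2

/-- The class of the inverse of the second generator. -/
noncomputable def lBi : ℕ := lstep 0 3

/-- The parities of a class. -/
noncomputable def parL (l : ℕ) : ℕ × ℕ × ℕ := (par2 (actV l 1), par2 (actV l 4), par2 (actV l 16))

/-- Equality of two maps on the unit vectors. -/
def eqOn (f g : ℕ → ℕ) : Bool := Nat.beq (f 1) (g 1) && Nat.beq (f 4) (g 4) && Nat.beq (f 16) (g 16)

/-- A lift of the identity modulo two. -/
def kerT (s : ℕ) : ℕ × ℕ × ℕ := liftT (1, 2, 4) s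

theorem lift_surj : (List.range 64).all (fun v => (List.range 8).any fun s => Nat.beq (lift2 (par2 v) s) v) = true ∧
    ((List.range 64).all fun v => Nat.beq (par2 v) 0 == Nat.beq (vadd v v) 0) = true := by decide +kernel

theorem ker_fix : ((List.range 512).all fun s => Nat.beq (appM (kerT s) tC) tC &&
    eqOn (fun v => appM (kerT s) (appM (kerT s) v)) id) = true := by decide +kernel

theorem app_lin : ((List.range 64).all fun v => Nat.beq (appM (1, 4, 16) v) v &&
    (List.range 168).all fun l => Nat.beq (appM (matL l) v) (actV l v)) = true := by decide +kernel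

theorem inv_cover : ((List.range 512).all fun p => (List.range 8).any (fun a => !Nat.beq a 0 &&
      Nat.beq (par2 (appM (lift2 (p % 8) 0, lift2 (p / 8 % 8) 0, lift2 (p / 64) 0) (lift2 a 0))) 0) ||
    (List.range 168).any fun l => parL l == (p % 8, p / 8 % 8, p / 64)) = true := by decide +kernel

theorem beta_lift : ((List.range 512).all fun s =>
    !eqOn (fun v => appM (liftT (parL lB) s) (appM (liftT (parL lB) s) (appM (liftT (parL lB) s) v))) id ||
    (List.range 512).any fun k => eqOn (fun v => appM (liftT (parL lB) s) (appM (kerT k) v))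
      (fun v => appM (kerT k) (actV lB v))) = true := by decide +kernel

/-- The condition on a lift of the first generator. -/
noncomputable def alphaCond (X : ℕ × ℕ × ℕ) : Bool :=
  let a := fun v => appM X v
  let b := fun v => actV lB v
  let bi := fun v => actV lBi v
  let ab := fun v => a (b v)
  let c := fun v => a (b (a (bi v)))
  eqOn (fun v => a (a v)) id && eqOn (fun v => ab (ab (ab (ab (ab (ab (ab v))))))) id &&
    eqOn (fun v => c (c (c (c v)))) id

theorem alpha_lift : ((List.range 512).all fun s => !alphaCond (liftT (parL lA) s) ||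
    (List.range 512).any fun k => eqOn (fun v => appM (liftT (parL lA) s) (appM (kerT k) v))
      (fun v => appM (kerT k) (actV lA v)) && eqOn (fun v => actV lB (appM (kerT k) v))
      (fun v => appM (kerT k) (actV lB v))) = true := by decide +kernel

theorem square_fix : ((List.range 64).all fun u => [0, tC].all fun d =>
    let a := vadd d (vneg (vadd u (actV lA u)))
    !Nat.beq (actV lA a) a || (List.range 64).any fun c => Nat.beq (vadd (vadd c (actV lA c)) a) 0) = true := by
  decide +kernel

theorem seven_fix : ((List.range 64).all fun v => !Nat.beq (actV lA (actV lB v)) v || Nat.beq v 0) = true := by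
  decide +kernel

/-- The class of a word. -/
noncomputable def lW (w : List ℕ) : ℕ := lrun 0 w

/-- The class of the conjugating element. -/
noncomputable def lK : ℕ := lW [3, 0, 2, 0, 3, 0, 2]

/-- The sum over the powers of the commutator. -/
noncomputable def sumC (v : ℕ) : ℕ :=
  let c := fun v => actV (lW [0, 2, 0, 3]) v
  vadd (vadd v (c v)) (vadd (c (c v)) (c (c (c v))))

theorem q_norm : ((List.range 64).all fun q => !Nat.beq (actV (lW [0, 2, 0, 3]) q) q ||
    (List.range 64).all fun u => !inRA (vadd (vadd (actV lK u) (vneg u)) (actV lBi q)) ||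
      !(Nat.beq (vadd u (actV lA u)) 0 || Nat.beq (vadd u (actV lA u)) tC) ||
      (List.range 64).any fun c => Nat.beq (vadd c (actV lA c)) 0 &&
        Nat.beq (vadd (sumC (vadd c (actV lA (actV lB c)))) q) 0) = true := by decide +kernel

/-- The classes fixing the central involution. -/
noncomputable def stabL : List ℕ := (List.range 168).filter fun l => Nat.beq (actV l tC) tC

/-- An element of order three. -/
noncomputable def three (x : ℕ) : Bool := !Nat.beq x 0 && Nat.beq (lmul (lmul x x) x) 0

/-- The four classes of the image of the core. -/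
def fourL : List ℕ := [0, 1, 19, 20]

theorem four_closure : (stabL.all fun l => (fourL.contains l || three l ||
      stabL.any fun s => three (lmul l (lmul (lmul s l) (linv s)))) &&
    (Nat.beq l 0 || three l || stabL.any fun s => three (lmul l (lmul (lmul s l) (linv s))) ||
      Nat.beq (lmul (lmul s l) (linv s)) lA || Nat.beq (lmul l (lmul (lmul s l) (linv s))) lA)) = true ∧
    stabL.length = 24 ∧ fourL.all (fun l => stabL.contains l) = true ∧ stabL.contains lK = true := by decide +kernel

end CfsgHSType
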