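import Cfsg.Agent.Lib.HSType.Mat

/-!
Finite facts for the coordinates on the normaliser.
-/

set_option autoImplicit false
set_option maxRecDepth 100000
set_option maxHeartbeats 4000000
set_option Elab.async false

namespace CfsgHSType

/-- The unit vectors. -/
def units : List ℕ := [1, 4, 16]

theorem act_comp : ((List.range 168).all fun l => (List.range 168).all fun k => units.all fun v =>
    Nat.beq (actV (lmul l k) v) (actV l (actV k v))) = true := by decide +kernel

theorem par_inj : ((List.range 168).all fun l => (List.range 168).all fun k =>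
    !(parL l == parL k) || Nat.beq l k) = true := by decide +kernel

theorem par_double : ((List.range 64).all fun v =>
    Nat.beq (vadd v v) (vadd (lift2 (par2 v) 0) (lift2 (par2 v) 0)) && Nat.beq (appM (1, 4, 16) v) v) = true := by
  decide +kernel

theorem par_half : ((List.range 64).all fun v =>
    Nat.beq (vadd v v) (2 * (par2 v % 2) + 8 * (par2 v / 2 % 2) + 32 * (par2 v / 4)) && Nat.blt (par2 v) 8 &&
    Nat.blt (lift2 (par2 v) 0) 64) = true := by decide +kernel

theorem act_double : ((List.range 168).all fun l =>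
    Nat.beq (vadd (actV l 17) (actV l 17)) (actV l tC)) = true ∧ Nat.beq (vadd 17 17) tC = true := by
  decide +kernel

theorem frame_shift : ((List.range 64).all fun w => !Nat.beq (vadd w w) 0 || Nat.beq w 0 ||
    (List.range 168).any fun l => Nat.beq (actV l tC) w && (List.range 64).all fun v =>
      Nat.beq (actV (linv l) (actV l v)) v) = true := by decide +kernel

theorem word_classes : lW [0, 0] = 0 ∧ lW [2, 2, 2] = 0 ∧ lW [2, 2, 2, 2] = lB ∧ lW [1] = lA ∧ lW [0] = lA ∧
    lW [2] = lB ∧ lW [3] = lBi ∧
    lW (List.replicate 7 [0, 2]).flatten = 0 ∧ lW (List.replicate 4 [0, 2, 0, 3]).flatten = 0 ∧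
    lW [0, 2, 1, 3] = lW [0, 2, 0, 3] ∧ lA < 168 ∧ lB < 168 ∧ lBi < 168 ∧ lK < 168 ∧ lW [0, 2] = lmul lA lB ∧
    linv lA = lA ∧ linv lB = lBi := by decide +kernel

theorem small_vec : ((List.range 4).all fun a => (List.range 4).all fun b => (List.range 4).all fun c =>
    Nat.beq (vadd (vadd (vsmul a 1) (vsmul b 4)) (vsmul c 16)) (a + 4 * b + 16 * c)) = true ∧
    vadd 1 4 = vadd 4 1 ∧ vadd 1 16 = vadd 16 1 ∧ vadd 4 16 = vadd 16 4 := by decide +kernel

theorem step_mul : ((List.range 168).all fun d => (List.range 4).all fun x =>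
    Nat.beq (lstep d x) (lmul d (lW [x]))) = true := by decide +kernel

theorem par_lift : ((List.range 8).all fun p => Nat.beq (par2 (lift2 p 0)) p) = true := by decide +kernel

theorem halves_ok : ((List.range 64).all fun v => !Nat.beq (vadd v v) 0 ||
    (List.range 64).any fun u => Nat.beq (vadd u u) v) = true := by decide +kernel

theorem halves (v : ℕ) (hv : v < 64) (h : vadd v v = 0) : ∃ u < 64, vadd u u = v := by
  have h1 := List.all_eq_true.mp halves_ok v (List.mem_range.mpr hv)
  rw [Bool.or_eq_true, h, Nat.beq_refl, List.any_eq_true] at h1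
  rcases h1 with h1 | ⟨u, hu, e⟩
  · simp at h1
  · exact ⟨u, List.mem_range.mp hu, Nat.eq_of_beq_eq_true e⟩

theorem hlBB : lmul lB lB = lBi := by decide +kernel

theorem class_facts : lmul lA lA = 0 ∧ lmul lA 0 = lA ∧ lmul 0 lA = lA ∧
    ((List.range 64).filter fun v => inRA v).length = 16 ∧ actV lK tC = tC ∧ lW [3, 0, 2, 0, 3, 0, 2] = lK ∧
    ((List.range 168).all fun s => (List.range 168).all fun k =>
      !Nat.beq (lmul s k) 0 || Nat.beq k (linv s)) = true := by decide +kernel

theorem cls_three : ((List.range 168).all fun l => Nat.blt (linv l) 168) = true ∧ lW [] = 0 ∧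
    ((List.range 64).all fun v => Nat.beq (vadd v v) 0 || Nat.beq (vadd (vadd v v) (vadd v v)) 0) = true := by
  decide +kernel

end CfsgHSType
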