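import Cfsg.Agent.Lib.HSType.Base
import Cfsg.Agent.Lib.HSType.Mat
import Cfsg.Agent.Lib.HSType.SetChecks
import Cfsg.Agent.Lib.HSType.Eight
import Cfsg.Agent.Lib.SmallSimple.Order168

/-!
Numberings of the abelian subgroup and the linear maps induced by the normaliser.
-/

set_option autoImplicit false

namespace CfsgHSType

open Cfsg

attribute [local irreducible] actV lmul linv lstep

theorem small_lt : (1 : ℕ) < 64 ∧ (4 : ℕ) < 64 ∧ (16 : ℕ) < 64 ∧ tC < 64 := by decide

theorem vadd_lt {a b : ℕ} : vadd a b < 64 := by unfold vadd; omega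

theorem vsmul_lt {k v : ℕ} : vsmul k v < 64 := by
  cases k with
  | zero => simp [vsmul]
  | succ k => exact vadd_lt

theorem appM_lt {X : ℕ × ℕ × ℕ} {v : ℕ} : appM X v < 64 := vadd_lt

theorem actV_lt64 {l v : ℕ} : actV l v < 64 := by
  unfold actV
  exact Nat.mod_lt _ (by norm_num)

theorem vadd_zero_both {a : ℕ} (ha : a < 64) : vadd 0 a = a ∧ vadd a 0 = a := by
  unfold vadd
  omega

theorem app_units {p q r : ℕ} (hp : p < 64) (hq : q < 64) (hr : r < 64) :
    appM (p, q, r) 1 = p ∧ appM (p, q, r) 4 = q ∧ appM (p, q, r) 16 = r := by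
  refine ⟨?_, ?_, ?_⟩ <;> simp only [appM, Nat.reduceMod, Nat.reduceDiv, vsmul]
  · rw [(vadd_zero_both hp).1, (vadd_zero_both hp).2, (vadd_zero_both hp).2]
  · rw [(vadd_zero_both hq).1, (vadd_zero_both hq).1, (vadd_zero_both hq).2]
  · rw [(vadd_zero_both hr).1, (vadd_zero_both (show (0:ℕ) < 64 by norm_num)).1, (vadd_zero_both hr).1]

variable {G : Type*} [Group G]

/-- An additive numbering of a subgroup. -/
structure IsFrame (A : Subgroup G) (t : G) (f : ℕ → G) : Prop where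
  add : ∀ a < 64, ∀ b < 64, f (vadd a b) = f a * f b
  inj : ∀ a < 64, ∀ b < 64, f a = f b → a = b
  mem : ∀ x, x ∈ A ↔ ∃ v < 64, f v = x
  hT : f tC = t

/-- An element acts by a class. -/
def Act (f : ℕ → G) (m : G) (l : ℕ) : Prop := ∀ v < 64, m * f v * m⁻¹ = f (actV l v)

/-- An element acts by a class modulo two. -/
def Par (f : ℕ → G) (m : G) (l : ℕ) : Prop :=
  ∀ v < 64, m * (f v * f v) * m⁻¹ = f (actV l v) * f (actV l v)

namespace IsFrame

variable {A : Subgroup G} {t : G} {f : ℕ → G} (hf : IsFrame A t f)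
include hf

theorem zero : f 0 = 1 := by
  have := hf.add 0 (by norm_num) 0 (by norm_num)
  rw [show vadd 0 0 = 0 from rfl] at this
  exact mul_eq_left.1 this.symm

theorem mem' {v : ℕ} (hv : v < 64) : f v ∈ A := (hf.mem _).2 ⟨v, hv, rfl⟩

theorem comm {a b : ℕ} (ha : a < 64) (hb : b < 64) : Commute (f a) (f b) := by
  show f a * f b = f b * f a
  rw [← hf.add a ha b hb, ← hf.add b hb a ha]
  congr 1
  unfold vadd
  rw [Nat.add_comm a b, Nat.add_comm (a / 4), Nat.add_comm (a / 16)]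

theorem neg {v : ℕ} (hv : v < 64) : f (vneg v) = (f v)⁻¹ ∧ vneg v < 64 := by
  have h := List.all_eq_true.mp vec_ops v (List.mem_range.mpr hv)
  simp only [Bool.and_eq_true, Nat.blt_eq] at h
  refine ⟨eq_inv_of_mul_eq_one_right ?_, h.1.1.1⟩
  rw [← hf.add v hv _ h.1.1.1, Nat.eq_of_beq_eq_true h.1.1.2, hf.zero]

theorem smul {v : ℕ} (hv : v < 64) (k : ℕ) : f (vsmul k v) = f v ^ k := by
  induction k with
  | zero => rw [vsmul, hf.zero, pow_zero]
  | succ k ih => rw [vsmul, hf.add _ vsmul_lt v hv, ih, pow_succ]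

theorem app {X : ℕ × ℕ × ℕ} (h1 : X.1 < 64) (h2 : X.2.1 < 64) (h3 : X.2.2 < 64) (v : ℕ) :
    f (appM X v) = f X.1 ^ (v % 4) * f X.2.1 ^ (v / 4 % 4) * f X.2.2 ^ (v / 16 % 4) := by
  rw [appM, hf.add _ vadd_lt _ vsmul_lt, hf.add _ vsmul_lt _ vsmul_lt, hf.smul h1, hf.smul h2, hf.smul h3]

theorem expand {v : ℕ} (hv : v < 64) : f v = f 1 ^ (v % 4) * f 4 ^ (v / 4 % 4) * f 16 ^ (v / 16 % 4) := by
  have h := List.all_eq_true.mp app_lin v (List.mem_range.mpr hv)
  rw [Bool.and_eq_true] at h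
  rw [← hf.app (X := (1, 4, 16)) small_lt.1 small_lt.2.1 small_lt.2.2.1, Nat.eq_of_beq_eq_true h.1]

theorem pow_four {v : ℕ} (hv : v < 64) : f v ^ 4 = 1 := by
  have h := List.all_eq_true.mp cls_three.2.2 v (List.mem_range.mpr hv)
  rw [Bool.or_eq_true] at h
  rw [show 4 = 2 + 2 by norm_num, pow_add, pow_two, ← hf.add v hv v hv]
  rcases h with h | h
  · rw [Nat.eq_of_beq_eq_true h, hf.zero, one_mul]
  · rw [← hf.add _ vadd_lt _ vadd_lt, Nat.eq_of_beq_eq_true h, hf.zero]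

/-- A conjugation is linear. -/
theorem conj_ext {m : G} {X : ℕ × ℕ × ℕ} (h1 : X.1 < 64) (h2 : X.2.1 < 64) (h3 : X.2.2 < 64)
    (e1 : m * f 1 * m⁻¹ = f X.1) (e2 : m * f 4 * m⁻¹ = f X.2.1) (e3 : m * f 16 * m⁻¹ = f X.2.2) {v : ℕ}
    (hv : v < 64) : m * f v * m⁻¹ = f (appM X v) := by
  rw [hf.app h1 h2 h3, hf.expand hv, ← e1, ← e2, ← e3, conj_pow, conj_pow, conj_pow]
  group

theorem mat_app {l v : ℕ} (hl : l < 168) (hv : v < 64) : appM (matL l) v = actV l v := by
  have h := List.all_eq_true.mp app_lin v (List.mem_range.mpr hv)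
  rw [Bool.and_eq_true, List.all_eq_true] at h
  exact Nat.eq_of_beq_eq_true (h.2 l (List.mem_range.mpr hl))

theorem act_of_units {m : G} {l : ℕ} (hl : l < 168) (e : ∀ u ∈ units, m * f u * m⁻¹ = f (actV l u)) : Act f m l := by
  intro v hv
  rw [← hf.mat_app hl hv]
  exact hf.conj_ext actV_lt64 actV_lt64 actV_lt64 (e 1 (by simp [units])) (e 4 (by simp [units]))
    (e 16 (by simp [units])) hv

theorem act_add {l : ℕ} (hl : l < 168) {a b : ℕ} (ha : a < 64) (hb : b < 64) :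
    f (actV l (vadd a b)) = f (actV l a) * f (actV l b) := by
  have hc : Commute (f (actV l 1)) (f (actV l 4)) ∧ Commute (f (actV l 1)) (f (actV l 16)) ∧
      Commute (f (actV l 4)) (f (actV l 16)) :=
    ⟨hf.comm actV_lt64 actV_lt64, hf.comm actV_lt64 actV_lt64, hf.comm actV_lt64 actV_lt64⟩
  let D : MGens G := ⟨f (actV l 1), f (actV l 4), f (actV l 16), 1, 1⟩
  have hD : D.VOk := ⟨hc.1, hc.2.1, hc.2.2, hf.pow_four actV_lt64, hf.pow_four actV_lt64, hf.pow_four actV_lt64⟩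
  rw [← hf.mat_app hl vadd_lt, ← hf.mat_app hl ha, ← hf.mat_app hl hb]
  unfold matL
  rw [hf.app actV_lt64 actV_lt64 actV_lt64, hf.app actV_lt64 actV_lt64 actV_lt64,
    hf.app actV_lt64 actV_lt64 actV_lt64]
  exact MGens.eV_vadd hD a b

theorem act_one : Act f 1 0 := fun v hv => by
  have := List.all_eq_true.mp tab_inv.2 v (List.mem_range.mpr hv)
  rw [Nat.eq_of_beq_eq_true this, one_mul, inv_one, mul_one]

theorem actV_comp {l k v : ℕ} (hl : l < 168) (hk : k < 168) (hv : v < 64) :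
    f (actV (lmul l k) v) = f (actV l (actV k v)) := by
  have hlk : lmul l k < 168 := by
    have h1 := List.all_eq_true.mp tab_word l (List.mem_range.mpr hl)
    simp only [Bool.and_eq_true, List.all_eq_true, Nat.blt_eq, List.mem_range] at h1
    exact (h1.2 k hk).2
  have hu : ∀ u ∈ units, actV (lmul l k) u = actV l (actV k u) := fun u hu =>
    Nat.eq_of_beq_eq_true (List.all_eq_true.mp (List.all_eq_true.mp (List.all_eq_true.mp act_comp l
      (List.mem_range.mpr hl)) k (List.mem_range.mpr hk)) u hu)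
  have e1 : f (actV k v) = f (appM (matL k) v) := by rw [hf.mat_app hk hv]
  have hadd := fun a b ha hb => hf.act_add hl (a := a) (b := b) ha hb
  have hpow : ∀ a < 64, ∀ n, f (actV l (vsmul n a)) = f (actV l a) ^ n := by
    intro a ha n
    induction n with
    | zero =>
      have h0 := hadd 0 0 (by norm_num) (by norm_num)
      rw [show vadd 0 0 = 0 from rfl] at h0
      rw [pow_zero, vsmul]
      exact mul_eq_left.1 h0.symm
    | succ n ih => rw [vsmul, hadd _ _ vsmul_lt ha, ih, pow_succ]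
  rw [← hf.mat_app hlk hv, ← hf.mat_app hk hv]
  unfold appM matL
  rw [hadd _ _ vadd_lt vsmul_lt, hadd _ _ vsmul_lt vsmul_lt, hpow _ actV_lt64, hpow _ actV_lt64, hpow _ actV_lt64,
    hf.add _ vadd_lt _ vsmul_lt, hf.add _ vsmul_lt _ vsmul_lt, hf.smul actV_lt64, hf.smul actV_lt64,
    hf.smul actV_lt64, hu 1 (by simp [units]), hu 4 (by simp [units]), hu 16 (by simp [units])]

theorem act_mul {m n : G} {l k : ℕ} (hl : l < 168) (hk : k < 168) (h1 : Act f m l) (h2 : Act f n k) :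
    Act f (m * n) (lmul l k) := fun v hv => by
  rw [hf.actV_comp hl hk hv, ← h1 _ actV_lt64, ← h2 v hv]
  group

theorem par_of_act {m : G} {l : ℕ} (h : Act f m l) : Par f m l := fun v hv => by
  rw [← h v hv]
  group

theorem par_mul {m n : G} {l k : ℕ} (hl : l < 168) (hk : k < 168) (h1 : Par f m l) (h2 : Par f n k) :
    Par f (m * n) (lmul l k) := fun v hv => by
  rw [hf.actV_comp hl hk hv, ← h1 _ actV_lt64, ← h2 v hv]
  group

theorem par_units {m : G} {X : ℕ × ℕ × ℕ} (h1 : X.1 < 64) (h2 : X.2.1 < 64) (h3 : X.2.2 < 64)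
    (hX : ∀ v < 64, m * f v * m⁻¹ = f (appM X v)) {l : ℕ} (hl : l < 168)
    (e : (par2 X.1, par2 X.2.1, par2 X.2.2) = parL l) : Par f m l := by
  intro v hv
  have hd : ∀ a b, a < 64 → b < 64 → par2 a = par2 b → f a * f a = f b * f b := fun a b ha hb he => by
    have ha' := List.all_eq_true.mp par_double a (List.mem_range.mpr ha)
    have hb' := List.all_eq_true.mp par_double b (List.mem_range.mpr hb)
    rw [Bool.and_eq_true] at ha' hb'
    rw [← hf.add a ha a ha, ← hf.add b hb b hb, Nat.eq_of_beq_eq_true ha'.1, Nat.eq_of_beq_eq_true hb'.1, he]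
  have e' : par2 X.1 = par2 (actV l 1) ∧ par2 X.2.1 = par2 (actV l 4) ∧ par2 X.2.2 = par2 (actV l 16) := by
    simp only [parL, Prod.mk.injEq] at e
    exact e
  rw [show m * (f v * f v) * m⁻¹ = (m * f v * m⁻¹) * (m * f v * m⁻¹) by group, hX v hv, ← hf.mat_app hl hv]
  unfold matL
  rw [hf.app h1 h2 h3, hf.app actV_lt64 actV_lt64 actV_lt64]
  have c := fun a b ha hb => (hf.comm (a := a) (b := b) ha hb).eq
  have key : ∀ a b c : ℕ, a < 64 → b < 64 → c < 64 → ∀ i j k : ℕ,
      f a ^ i * f b ^ j * f c ^ k * (f a ^ i * f b ^ j * f c ^ k) =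
        (f a * f a) ^ i * (f b * f b) ^ j * (f c * f c) ^ k := by
    intro a b c ha hb hc i j k
    rw [(Commute.refl (f a)).mul_pow, (Commute.refl (f b)).mul_pow, (Commute.refl (f c)).mul_pow]
    have q1 : Commute (f b ^ j * f c ^ k) (f a ^ i) :=
      ((hf.comm hb ha).pow_pow _ _).mul_left ((hf.comm hc ha).pow_pow _ _)
    have q2 : Commute (f c ^ k) (f b ^ j) := (hf.comm hc hb).pow_pow _ _
    calc f a ^ i * f b ^ j * f c ^ k * (f a ^ i * f b ^ j * f c ^ k)
        = f a ^ i * ((f b ^ j * f c ^ k) * f a ^ i) * f b ^ j * f c ^ k := by group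
      _ = f a ^ i * (f a ^ i * (f b ^ j * f c ^ k)) * f b ^ j * f c ^ k := by rw [q1.eq]
      _ = f a ^ i * f a ^ i * f b ^ j * (f c ^ k * f b ^ j) * f c ^ k := by group
      _ = f a ^ i * f a ^ i * f b ^ j * (f b ^ j * f c ^ k) * f c ^ k := by rw [q2.eq]
      _ = _ := by group
  rw [key _ _ _ h1 h2 h3, key _ _ _ actV_lt64 actV_lt64 actV_lt64, hd _ _ h1 actV_lt64 e'.1,
    hd _ _ h2 actV_lt64 e'.2.1, hd _ _ h3 actV_lt64 e'.2.2]

theorem par_unique {m : G} {l k : ℕ} (hl : l < 168) (hk : k < 168) (h1 : Par f m l) (h2 : Par f m k) : l = k := by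
  have hu : ∀ u < 64, par2 (actV l u) = par2 (actV k u) := fun u hu => by
    have e := (h1 u hu).symm.trans (h2 u hu)
    rw [← hf.add _ actV_lt64 _ actV_lt64, ← hf.add _ actV_lt64 _ actV_lt64] at e
    have e2 := hf.inj _ vadd_lt _ vadd_lt e
    have ha := List.all_eq_true.mp par_half (actV l u) (List.mem_range.mpr actV_lt64)
    have hb := List.all_eq_true.mp par_half (actV k u) (List.mem_range.mpr actV_lt64)
    simp only [Bool.and_eq_true, Nat.blt_eq] at ha hb
    rw [Nat.eq_of_beq_eq_true ha.1.1, Nat.eq_of_beq_eq_true hb.1.1] at e2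
    omega
  have h := List.all_eq_true.mp (List.all_eq_true.mp par_inj l (List.mem_range.mpr hl)) k (List.mem_range.mpr hk)
  rw [Bool.or_eq_true, Bool.not_eq_true'] at h
  rcases h with h | h
  · exfalso
    rw [beq_eq_false_iff_ne] at h
    exact h (by simp only [parL, hu 1 small_lt.1, hu 4 small_lt.2.1, hu 16 small_lt.2.2.1])
  · exact Nat.eq_of_beq_eq_true h

/-- A change of frame by a lift of the identity. -/
theorem change {s : ℕ} (hs : s < 512) : IsFrame A t (fun v => f (appM (kerT s) v)) := by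
  have hl : ∀ p q, lift2 p q < 64 := fun p q => by unfold lift2; omega
  have hc : ∀ v, f (appM (kerT s) v) = f (kerT s).1 ^ (v % 4) * f (kerT s).2.1 ^ (v / 4 % 4) *
      f (kerT s).2.2 ^ (v / 16 % 4) := hf.app (hl _ _) (hl _ _) (hl _ _)
  let D : MGens G := ⟨f (kerT s).1, f (kerT s).2.1, f (kerT s).2.2, 1, 1⟩
  have hD : D.VOk := ⟨hf.comm (hl _ _) (hl _ _), hf.comm (hl _ _) (hl _ _), hf.comm (hl _ _) (hl _ _),
    hf.pow_four (hl _ _), hf.pow_four (hl _ _), hf.pow_four (hl _ _)⟩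
  have hfix := List.all_eq_true.mp ker_fix s (List.mem_range.mpr hs)
  rw [Bool.and_eq_true] at hfix
  obtain ⟨hft, hinv⟩ := hfix
  simp only [eqOn, Bool.and_eq_true, id] at hinv
  have hadd : ∀ a b, f (appM (kerT s) (vadd a b)) = f (appM (kerT s) a) * f (appM (kerT s) b) := fun a b => by
    rw [hc, hc, hc]
    exact MGens.eV_vadd hD a b
  have hpow : ∀ a n, f (appM (kerT s) (vsmul n a)) = f (appM (kerT s) a) ^ n := by
    intro a n
    induction n with
    | zero =>
      rw [pow_zero, vsmul, hc]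
      simp
    | succ n ih => rw [vsmul, hadd, ih, pow_succ]
  have hii : ∀ v < 64, f (appM (kerT s) (appM (kerT s) v)) = f v := fun v hv => by
    rw [show appM (kerT s) v = vadd (vadd (vsmul (v % 4) (kerT s).1) (vsmul (v / 4 % 4) (kerT s).2.1))
      (vsmul (v / 16 % 4) (kerT s).2.2) from rfl, hadd, hadd, hpow, hpow, hpow]
    have e1 := Nat.eq_of_beq_eq_true hinv.1.1
    have e2 := Nat.eq_of_beq_eq_true hinv.1.2
    have e3 := Nat.eq_of_beq_eq_true hinv.2
    obtain ⟨a1, a2, a3⟩ := app_units (hl (1 : ℕ) (s % 8)) (hl (2 : ℕ) (s / 8 % 8)) (hl (4 : ℕ) (s / 64))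
    have u1 : appM (kerT s) 1 = (kerT s).1 := a1
    have u2 : appM (kerT s) 4 = (kerT s).2.1 := a2
    have u3 : appM (kerT s) 16 = (kerT s).2.2 := a3
    rw [← u1, ← u2, ← u3, e1, e2, e3]
    exact (hf.expand hv).symm
  refine ⟨fun a _ b _ => hadd a b, fun a ha b hb e => ?_, fun x => ⟨fun hx => ?_, ?_⟩, ?_⟩
  · have e' : appM (kerT s) a = appM (kerT s) b := hf.inj _ appM_lt _ appM_lt e
    refine hf.inj a ha b hb ?_
    rw [← hii a ha, ← hii b hb, e']
  · obtain ⟨v, hv, rfl⟩ := (hf.mem x).1 hx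
    exact ⟨appM (kerT s) v, appM_lt, hii v hv⟩
  · rintro ⟨v, -, rfl⟩
    exact hf.mem' appM_lt
  · show f (appM (kerT s) tC) = t
    rw [Nat.eq_of_beq_eq_true hft, hf.hT]

end IsFrame

end CfsgHSType
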