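import Cfsg.Agent.Lib.HSType.Setting

/-!
Generators of the normaliser with the relations of the split extension.
-/

set_option autoImplicit false
set_option maxRecDepth 10000

namespace CfsgHSType

open Cfsg CfsgAutL34.Enum

attribute [local irreducible] actV lmul linv lstep vadd vneg vsmul appM

variable {G : Type*} [Group G] [Finite G]

/-- Coordinates on the normaliser. -/
structure MData (t : G) (R M : Subgroup G) where
  /-- the generators -/
  D : MGens G
  ok : D.Ok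
  inj : ∀ x < 10752, ∀ y < 10752, D.toM x = D.toM y → x = y
  range : ∀ m : G, m ∈ M ↔ ∃ x < 10752, D.toM x = m
  hTC : D.toM 34 = t
  le : R ≤ M

theorem exists_frame {t : G} {R V M : Subgroup G} (C : CentData t R)
    (hVexp : ∀ v ∈ V, v ^ 2 = 1) (hVcard : Nat.card V = 8) (htV : t ∈ V)
    (hM : M = Subgroup.normalizer (V : Set G))
    (eOM : Cfsg.pCore 2 M ≃* Multiplicative (ZMod 4 × ZMod 4 × ZMod 4))
    (eM : M ⧸ Cfsg.pCore 2 M ≃* GL (Fin 3) (ZMod 2)) :
    Nat.card M = 10752 ∧ ∃ A f, MFrame t M A f := by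
  classical
  haveI : Fact (Nat.Prime 2) := ⟨Nat.prime_two⟩
  have h168 : Nat.card (GL (Fin 3) (ZMod 2)) = 168 := CfsgLib.Order168.gl32.2
  have h64 : Nat.card (Cfsg.pCore 2 M) = 64 := by
    rw [Nat.card_congr eOM.toEquiv, Nat.card_congr Multiplicative.toAdd]
    simp [Nat.card_prod, Nat.card_zmod]
  have hcardM : Nat.card M = 10752 := by
    rw [Subgroup.card_eq_card_quotient_mul_card_subgroup (Cfsg.pCore 2 M), Nat.card_congr eM.toEquiv, h168, h64]
  set A : Subgroup G := (Cfsg.pCore 2 M).map M.subtype with hA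
  have hAle : A ≤ M := Subgroup.map_subtype_le _
  have hVM : V ≤ M := hM ▸ Subgroup.le_normalizer
  -- the numbering
  let φ : ℕ → G := fun v => ((eOM.symm (Multiplicative.ofAdd (code4 v)) : Cfsg.pCore 2 M) : ↥M)
  have hadd4 : ∀ a b, code4 (vadd a b) = code4 a + code4 b := fun a b => by
    obtain ⟨x, hx, ex⟩ : ∃ x < 4, x = (a + b) % 4 := ⟨_, Nat.mod_lt _ (by norm_num), rfl⟩
    obtain ⟨y, hy, ey⟩ : ∃ y < 4, y = (a / 4 + b / 4) % 4 := ⟨_, Nat.mod_lt _ (by norm_num), rfl⟩
    obtain ⟨z, hz, ez⟩ : ∃ z < 4, z = (a / 16 + b / 16) % 4 := ⟨_, Nat.mod_lt _ (by norm_num), rfl⟩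
    have e0 : vadd a b = x + 4 * y + 16 * z := by rw [ex, ey, ez]; unfold vadd; rfl
    obtain ⟨d1, d2, d3⟩ := digits hx hy hz
    have e1 : vadd a b % 4 = (a % 4 + b % 4) % 4 := by rw [e0, d1, ex, Nat.add_mod]
    have e2 : vadd a b / 4 % 4 = (a / 4 % 4 + b / 4 % 4) % 4 := by rw [e0, d2, ey, Nat.add_mod]
    have e3 : vadd a b / 16 % 4 = (a / 16 % 4 + b / 16 % 4) % 4 := by rw [e0, d3, ez, Nat.add_mod]
    unfold code4
    rw [e1, e2, e3]
    simp only [ZMod.natCast_mod, Nat.cast_add, Prod.mk_add_mk]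
  have hadd : ∀ a b, φ (vadd a b) = φ a * φ b := fun a b => by
    simp only [φ]
    rw [hadd4, ofAdd_add, map_mul]
    rfl
  have hinj : ∀ a < 64, ∀ b < 64, φ a = φ b → a = b := by
    intro a ha b hb e
    have e' : code4 a = code4 b :=
      Multiplicative.ofAdd.injective (eOM.symm.injective (Subtype.ext (Subtype.ext e)))
    simp only [code4, Prod.mk.injEq, ZMod.natCast_eq_natCast_iff', Nat.mod_mod] at e'
    omega
  have hmem : ∀ x, x ∈ A ↔ ∃ v < 64, φ v = x := by
    intro x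
    rw [hA, Subgroup.mem_map]
    constructor
    · rintro ⟨y, hy, rfl⟩
      obtain ⟨p, hp⟩ : ∃ p : ZMod 4 × ZMod 4 × ZMod 4, Multiplicative.ofAdd p = eOM ⟨y, hy⟩ :=
        ⟨Multiplicative.toAdd (eOM ⟨y, hy⟩), ofAdd_toAdd _⟩
      have hlt := fun q : ZMod 4 => ZMod.val_lt q
      obtain ⟨d1, d2, d3⟩ := digits (hlt p.1) (hlt p.2.1) (hlt p.2.2)
      refine ⟨p.1.val + 4 * p.2.1.val + 16 * p.2.2.val, ?_, ?_⟩
      · have := hlt p.1; have := hlt p.2.1; have := hlt p.2.2; omega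
      · have hp' : code4 (p.1.val + 4 * p.2.1.val + 16 * p.2.2.val) = p := by
          unfold code4
          rw [d1, d2, d3]
          simp
        simp only [φ, hp', hp, MulEquiv.symm_apply_apply]
        rfl
    · rintro ⟨v, -, rfl⟩
      exact ⟨_, (eOM.symm (Multiplicative.ofAdd (code4 v))).2, rfl⟩
  have hsub : V ≤ A := by
    intro x hx
    have hn : (V.subgroupOf M).Normal := by
      constructor
      intro a ha g
      rw [Subgroup.mem_subgroupOf] at ha ⊢
      have hg : (g : G) ∈ Subgroup.normalizer (V : Set G) := hM ▸ g.2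
      exact (Subgroup.mem_normalizer_iff.1 hg _).1 ha
    have hp : IsPGroup 2 (V.subgroupOf M) := by
      refine IsPGroup.of_card (n := 3) ?_
      rw [Nat.card_congr (Subgroup.subgroupOfEquivOfLe hVM).toEquiv, hVcard]
      norm_num
    exact ⟨⟨x, hVM hx⟩, CfsgLib.le_pCore (N := V.subgroupOf M) hp (Subgroup.mem_subgroupOf.2 hx), rfl⟩
  -- the numbering with t at its place
  have htne : t ≠ 1 := fun e => by have := C.ht; rw [e] at this; simp at this
  obtain ⟨w, hw, ew⟩ := (hmem t).1 (hsub htV)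
  have hφ0 : φ 0 = 1 := by
    have := hadd 0 0
    rw [show vadd 0 0 = 0 by unfold vadd; rfl] at this
    exact mul_eq_left.1 this.symm
  have h2w : vadd w w = 0 := by
    refine hinj _ vadd_lt 0 (by norm_num) ?_
    rw [hadd, ew, hφ0, ← pow_two, hVexp t htV]
  obtain ⟨l, hl, el, hli⟩ : ∃ l < 168, actV l tC = w ∧ ∀ v < 64, actV (linv l) (actV l v) = v := by
    have h := List.all_eq_true.mp frame_shift w (List.mem_range.mpr hw)
    rw [Bool.or_eq_true, Bool.or_eq_true, Bool.not_eq_true', h2w, Nat.beq_refl] at h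
    rcases h with (h | h) | h
    · exact absurd h (by simp)
    · exfalso
      rw [Nat.eq_of_beq_eq_true h, hφ0] at ew
      exact htne ew.symm
    · rw [List.any_eq_true] at h
      obtain ⟨l, hl, h⟩ := h
      rw [Bool.and_eq_true, List.all_eq_true] at h
      exact ⟨l, List.mem_range.mp hl, Nat.eq_of_beq_eq_true h.1,
        fun v hv => Nat.eq_of_beq_eq_true (h.2 v (List.mem_range.mpr hv))⟩
  have hF0 : IsFrame A (φ tC) φ := ⟨fun a _ b _ => hadd a b, hinj, hmem, rfl⟩
  let f : ℕ → G := fun v => φ (actV l v)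
  have hfi : ∀ a < 64, ∀ b < 64, f a = f b → a = b := fun a ha b hb e => by
    rw [← hli a ha, ← hli b hb, hinj _ actV_lt64 _ actV_lt64 e]
  have hf : IsFrame A t f := by
    refine ⟨fun a ha b hb => hF0.act_add hl ha hb, hfi, fun x => ⟨fun hx => ?_, ?_⟩, by simp only [f, el, ew]⟩
    · -- surjective by counting
      obtain ⟨v, hv, rfl⟩ := (hmem x).1 hx
      have hs : Function.Surjective fun a : Fin 64 => (⟨actV l a, actV_lt64⟩ : Fin 64) :=
        Finite.injective_iff_surjective.1 fun a b e => Fin.ext (by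
          rw [← hli a a.2, ← hli b b.2, Fin.mk.inj_iff.1 e])
      obtain ⟨a, ha⟩ := hs ⟨v, hv⟩
      exact ⟨a, a.2, congrArg φ (Fin.mk.inj_iff.1 ha)⟩
    · rintro ⟨v, -, rfl⟩
      exact hF0.mem' actV_lt64
  refine ⟨hcardM, A, f, hf, hAle, ?_, ?_⟩
  · -- the centraliser of V
    intro m hm hpar
    have hcenV : ∀ x ∈ V, m * x = x * m := by
      intro x hx
      have hA2 : ∀ y ∈ A, y * y = 1 → ∃ v < 64, f v * f v = y := by
        intro y hy h2
        obtain ⟨v, hv, rfl⟩ := (hf.mem y).1 hy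
        rw [← hf.add v hv v hv, ← hf.zero] at h2
        have h2v := hf.inj _ vadd_lt 0 (by norm_num) h2
        obtain ⟨u, hu, eu⟩ := halves v hv h2v
        exact ⟨u, hu, by rw [← hf.add u hu u hu, eu]⟩
      obtain ⟨v, hv, ev⟩ := hA2 x (hsub hx) (by rw [← pow_two, hVexp x hx])
      have h := hpar v hv
      rw [Nat.eq_of_beq_eq_true (List.all_eq_true.mp tab_inv.2 v (List.mem_range.mpr hv)), ev] at h
      exact mul_inv_eq_iff_eq_mul.1 h
    let K : Subgroup ↥M := (Subgroup.centralizer (V : Set G)).subgroupOf M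
    haveI hKn : K.Normal := by
      constructor
      intro a ha g
      rw [Subgroup.mem_subgroupOf] at ha ⊢
      refine Subgroup.mem_centralizer_iff.2 fun x hx => ?_
      have hg : (g : G) ∈ Subgroup.normalizer (V : Set G) := hM ▸ g.2
      have hy := (Subgroup.mem_normalizer_iff''.1 hg x).1 hx
      have := Subgroup.mem_centralizer_iff.1 ha _ hy
      simp only [Subgroup.coe_mul, Subgroup.coe_inv]
      calc x * ((g : G) * a * (g : G)⁻¹) = g * ((g : G)⁻¹ * x * g * a) * (g : G)⁻¹ := by group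
        _ = g * (a * ((g : G)⁻¹ * x * g)) * (g : G)⁻¹ := by rw [this]
        _ = _ := by group
    haveI := CfsgLib.Order168.gl32.1
    have hmK : (⟨m, hm⟩ : ↥M) ∈ K :=
      Subgroup.mem_subgroupOf.2 (Subgroup.mem_centralizer_iff.2 fun x hx => (hcenV x hx).symm)
    let q : ↥M →* GL (Fin 3) (ZMod 2) := eM.toMonoidHom.comp (QuotientGroup.mk' _)
    have hq : Function.Surjective q := eM.surjective.comp (QuotientGroup.mk'_surjective _)
    rcases (hKn.map q hq).eq_bot_or_eq_top with h | h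
    · have : q ⟨m, hm⟩ = 1 := Subgroup.mem_bot.1 (h ▸ Subgroup.mem_map_of_mem q hmK)
      have h1 : ((⟨m, hm⟩ : ↥M) : ↥M ⧸ Cfsg.pCore 2 M) = 1 := eM.injective (this.trans (map_one eM).symm)
      exact ⟨⟨m, hm⟩, (QuotientGroup.eq_one_iff _).1 h1, rfl⟩
    · exfalso
      have hMH : M ≤ Subgroup.centralizer ({t} : Set G) := by
        intro g hg
        obtain ⟨k, hk, ek⟩ : (q ⟨g, hg⟩) ∈ K.map q := h ▸ Subgroup.mem_top _
        have : ((k : ↥M) : ↥M ⧸ Cfsg.pCore 2 M) = ((⟨g, hg⟩ : ↥M) : ↥M ⧸ Cfsg.pCore 2 M) := eM.injective ek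
        rw [QuotientGroup.eq] at this
        obtain ⟨v, hv, ev⟩ := (hf.mem _).1 (⟨_, this, rfl⟩ : M.subtype (k⁻¹ * ⟨g, hg⟩) ∈ A)
        simp only [Subgroup.coe_subtype, Subgroup.coe_mul, Subgroup.coe_inv] at ev
        have hk' : ∀ x ∈ V, (k : G) * x = x * k := fun x hx =>
          (Subgroup.mem_centralizer_iff.1 (Subgroup.mem_subgroupOf.1 hk) x hx).symm
        refine Subgroup.mem_centralizer_singleton_iff.2 ?_
        have hc := hf.comm hv small_lt.2.2.2
        rw [hf.hT] at hc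
        rw [show g = (k : G) * f v by rw [ev]; group, mul_assoc, hc.eq, ← mul_assoc, hk' t htV, mul_assoc]
      have := Subgroup.card_le_of_le hMH
      rw [C.cardH, hcardM] at this
      norm_num at this
  · intro m hm v hv
    have hn : (Cfsg.pCore 2 M).Normal := inferInstance
    obtain ⟨y, hy, ey⟩ := hf.mem' hv
    exact ((hf.mem _).1 ⟨_, hn.conj_mem y hy ⟨m, hm⟩, by rw [← ey]; rfl⟩).imp fun u hu => ⟨hu.1, hu.2.symm⟩


theorem lift_of_parities {X : ℕ × ℕ × ℕ} (h1 : X.1 < 64) (h2 : X.2.1 < 64) (h3 : X.2.2 < 64) {l : ℕ}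
    (e : (par2 X.1, par2 X.2.1, par2 X.2.2) = parL l) : ∃ s < 512, liftT (parL l) s = X := by
  have h : ∀ v < 64, ∃ a < 8, lift2 (par2 v) a = v := fun v hv => by
    have := List.all_eq_true.mp lift_surj.1 v (List.mem_range.mpr hv)
    rw [List.any_eq_true] at this
    obtain ⟨a, ha, e⟩ := this
    exact ⟨a, List.mem_range.mp ha, Nat.eq_of_beq_eq_true e⟩
  obtain ⟨a, ha, ea⟩ := h _ h1
  obtain ⟨b, hb, eb⟩ := h _ h2
  obtain ⟨c, hc, ec⟩ := h _ h3
  refine ⟨a + 8 * b + 64 * c, by omega, ?_⟩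
  unfold liftT
  rw [← e, show (a + 8 * b + 64 * c) % 8 = a by omega, show (a + 8 * b + 64 * c) / 8 % 8 = b by omega,
    show (a + 8 * b + 64 * c) / 64 = c by omega]
  simp only [ea, eb, ec]

omit [Finite G] in
theorem evW_mem {K : Subgroup G} (L : List G) (hL : ∀ g ∈ L, g ∈ K) (w : List ℕ) : evW L w ∈ K := by
  refine K.list_prod_mem fun y hy => ?_
  obtain ⟨x, -, rfl⟩ := List.mem_map.1 hy
  have : L.getD (x / 2) 1 ∈ K := by
    rw [List.getD_eq_getElem?_getD]
    cases h : L[x / 2]? with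
    | none => exact K.one_mem
    | some g => exact hL g (List.mem_of_getElem? h)
  unfold letG
  split
  · exact this
  · exact K.inv_mem this

theorem aa_class : lmul lA lA = 0 := class_facts.1

theorem a_zero : lmul lA 0 = lA := class_facts.2.1

theorem zero_a : lmul 0 lA = lA := class_facts.2.2.1

theorem ra_count : ((Finset.range 64).filter fun v => inRA v = true).card = 16 := by
  rw [← class_facts.2.2.2.1, ← List.toFinset_card_of_nodup (List.nodup_range.filter _)]
  congr 1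
  ext v
  simp

theorem inv_lt {s : ℕ} (hs : s < 168) : linv s < 168 := by
  have := List.all_eq_true.mp cls_three.1 s (List.mem_range.mpr hs)
  simpa using this

theorem inv_unique (s : ℕ) (hs : s < 168) (k : ℕ) (hk : k < 168) (e : lmul s k = 0) : k = linv s := by
  have h := List.all_eq_true.mp (List.all_eq_true.mp class_facts.2.2.2.2.2.2 s (List.mem_range.mpr hs)) k
    (List.mem_range.mpr hk)
  rw [e, Nat.beq_refl] at h
  simpa using h

omit [Finite G] in
theorem pow_four_twist {t : G} {M A : Subgroup G} {f : ℕ → G} {C0 : G} (hC : Act f C0 (lW [0, 2, 0, 3]))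
    (F : MFrame t M A f) {v q : ℕ} (hv : v < 64) (hq : q < 64) (eq : f q = C0 ^ 4) :
    (f v * C0) ^ 4 = f (vadd (sumC v) q) := by
  have hf := F.frame
  unfold sumC
  rw [hf.add _ vadd_lt q hq, hf.add _ vadd_lt _ vadd_lt, hf.add v hv _ actV_lt64,
    hf.add _ actV_lt64 _ actV_lt64, ← hC (actV (lW [0, 2, 0, 3]) (actV (lW [0, 2, 0, 3]) v)) actV_lt64,
    ← hC (actV (lW [0, 2, 0, 3]) v) actV_lt64, ← hC v hv, eq]
  simp only [pow_succ, pow_zero, one_mul]
  group

theorem seven {t : G} {R M A : Subgroup G} {f : ℕ → G} (_C : CentData t R) (F : MFrame t M A f) {a b : G}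
    (ha : a ∈ M) (hb : b ∈ M) (haA : Act f a lA) (hbA : Act f b lB)
    (hact : ∀ w : List ℕ, (∀ x ∈ w, x < 4) → lW w < 168 ∧ Act f (evW [a, b] w) (lW w)) : (a * b) ^ 7 = 1 := by
  have hf := F.frame
  obtain ⟨hw00, -, -, -, -, -, -, hw7, -, -, hA, hB, -⟩ := word_classes
  obtain ⟨z, hz, ez⟩ : ∃ z < 64, f z = (a * b) ^ 7 := by
    refine (hf.mem _).1 (F.ker _ (M.pow_mem (M.mul_mem ha hb) 7) (hf.par_of_act ?_))
    have h := (hact (List.replicate 7 [0, 2]).flatten (by simp)).2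
    rw [hw7] at h
    have e : evW [a, b] (List.replicate 7 [0, 2]).flatten = (a * b) ^ 7 := by
      simp [evW, letG, List.replicate, pow_succ, mul_assoc]
    exact e ▸ h
  have hfix : actV lA (actV lB z) = z := hf.inj _ actV_lt64 _ hz (by
    rw [← haA _ actV_lt64, ← hbA z hz, ez, show ∀ p : G, a * (b * p * b⁻¹) * a⁻¹ = (a * b) * p * (a * b)⁻¹ from
      fun p => by group]
    generalize a * b = p
    group)
  have h := List.all_eq_true.mp seven_fix z (List.mem_range.mpr hz)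
  rw [hfix, Nat.beq_refl] at h
  simp only [Bool.not_true, Bool.false_or] at h
  rw [← ez, Nat.eq_of_beq_eq_true h, hf.zero]

theorem core_element {t : G} {R M A : Subgroup G} {f : ℕ → G} (C : CentData t R) (F : MFrame t M A f)
    (hcardM : Nat.card M = 10752) (hRM : R ≤ M) {a : G} (ha : a ∈ M) (haA : Act f a lA) :
    ∃ g, ∃ u < 64, g = f u * a ∧ g ∈ R := by
  classical
  have hf := F.frame
  obtain ⟨hA, hB⟩ : lA < 168 ∧ lB < 168 := ⟨word_classes.2.2.2.2.2.2.2.2.2.2.1, word_classes.2.2.2.2.2.2.2.2.2.2.2.1⟩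
  have hfix : ∀ m : G, ∀ l, l < 168 → Par f m l → (m * t * m⁻¹ = t ↔ actV l tC = tC) := by
    intro m l hl hp
    have h17 := act_double
    have e0 : f 17 * f 17 = t := by rw [← hf.add 17 (by norm_num) 17 (by norm_num), Nat.eq_of_beq_eq_true h17.2, hf.hT]
    have e1 := hp 17 (by norm_num)
    rw [e0, ← hf.add _ actV_lt64 _ actV_lt64,
      Nat.eq_of_beq_eq_true (List.all_eq_true.mp h17.1 l (List.mem_range.mpr hl))] at e1
    rw [e1]
    exact ⟨fun h => hf.inj _ actV_lt64 _ small_lt.2.2.2 (h.trans hf.hT.symm), fun h => by rw [h, hf.hT]⟩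
  have hcls : ∀ m ∈ M, ∃ l < 168, Par f m l := fun m hm => by
    obtain ⟨X, -, -, -, -, l, hl, -, h⟩ := F.exists_matrix hm
    exact ⟨l, hl, h⟩
  have hinR : ∀ r ∈ R, ∀ l, l < 168 → Par f r l → l ∈ stabL := fun r hr l hl hp =>
    List.mem_filter.2 ⟨List.mem_range.2 hl, by
      rw [(hfix r l hl hp).1 (mul_inv_eq_iff_eq_mul.2 (C.sub r hr)), Nat.beq_refl]⟩
  have hno3 : ∀ r ∈ R, ∀ l, l < 168 → Par f r l → three l = false := by
    intro r hr l hl hp
    by_contra h
    rw [Bool.not_eq_false, three, Bool.and_eq_true, Bool.not_eq_true'] at h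
    have hp3 := hf.par_mul (F.lmul_lt hl hl) hl (hf.par_mul hl hl hp hp) hp
    rw [Nat.eq_of_beq_eq_true h.2] at hp3
    have hr4 : r ^ 4 = 1 := by
      rw [show 4 = 2 + 2 by norm_num, pow_add, pow_two]
      rcases C.sq r hr with e | e <;> rw [e]
      · exact one_mul 1
      · rw [← pow_two, ← C.ht, pow_orderOf_eq_one]
    obtain ⟨v, hv, ev⟩ := (hf.mem _).1 (F.ker _ (M.mul_mem (M.mul_mem (hRM hr) (hRM hr)) (hRM hr)) hp3)
    have e1 : r = f (vneg v) := by
      rw [(hf.neg hv).1, ev]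
      refine eq_inv_of_mul_eq_one_left ?_
      rw [← hr4]
      simp [pow_succ, mul_assoc]
    have hl0 : l = 0 := hf.par_unique hl (by norm_num) hp
      (hf.par_of_act (e1 ▸ F.mem_act (hf.mem' (hf.neg hv).2)))
    rw [hl0, Nat.beq_refl] at h
    simp at h
  have hconj : ∀ r ∈ R, ∀ l, l < 168 → Par f r l → ∀ s ∈ stabL,
      ∃ r' ∈ R, Par f r' (lmul (lmul s l) (linv s)) := by
    intro r hr l hl hp s hs
    rw [stabL, List.mem_filter, List.mem_range] at hs
    obtain ⟨m, hm, hmP⟩ := F.exists_lift hcardM hs.1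
    have hmt : m * t = t * m := mul_inv_eq_iff_eq_mul.1 ((hfix m s hs.1 hmP).2 (Nat.eq_of_beq_eq_true hs.2))
    obtain ⟨k, hk, hkP⟩ := hcls m⁻¹ (M.inv_mem hm)
    have h1 := hf.par_mul hs.1 hk hmP hkP
    rw [mul_inv_cancel] at h1
    have e : lmul s k = 0 := hf.par_unique (F.lmul_lt hs.1 hk) (by norm_num) h1 (hf.par_of_act hf.act_one)
    rw [inv_unique s hs.1 k hk e] at hkP
    exact ⟨_, C.norm m hmt r hr,
      hf.par_mul (F.lmul_lt hs.1 hl) (inv_lt hs.1) (hf.par_mul hs.1 hl hmP hp) hkP⟩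
  have hRA : ∀ r ∈ R, r ∈ A → ∃ v < 64, f v = r ∧ inRA v = true := by
    intro r hr hrA
    obtain ⟨v, hv, rfl⟩ := (hf.mem r).1 hrA
    refine ⟨v, hv, rfl, ?_⟩
    rcases C.sq _ hr with e | e <;> rw [← hf.add v hv v hv] at e
    · simp [inRA, hf.inj _ vadd_lt 0 (by norm_num) (e.trans hf.zero.symm)]
    · simp [inRA, hf.inj _ vadd_lt _ small_lt.2.2.2 (e.trans hf.hT.symm)]
  obtain ⟨r, hr, hrA⟩ : ∃ r ∈ R, r ∉ A := by
    by_contra hno
    push Not at hno
    have hsub : (R : Set G) ⊆ f '' (((Finset.range 64).filter fun v => inRA v = true) : Finset ℕ) := fun r hr => by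
      obtain ⟨v, hv, e, h⟩ := hRA r hr (hno r hr)
      exact ⟨v, by simpa using ⟨hv, h⟩, e⟩
    have := (Set.ncard_le_ncard hsub ((Finset.finite_toSet _).image _)).trans
      (Set.ncard_image_le (Finset.finite_toSet _))
    rw [← Nat.card_coe_set_eq, Set.ncard_coe_finset] at this
    change Nat.card R ≤ _ at this
    rw [C.card, ra_count] at this
    norm_num at this
  obtain ⟨l, hl, hp⟩ := hcls r (hRM hr)
  have hl0 : l ≠ 0 := fun e => hrA (F.ker r (hRM hr) (e ▸ hp))
  have h := List.all_eq_true.mp four_closure.1 l (hinR r hr l hl hp)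
  rw [Bool.and_eq_true] at h
  have h2 := h.2
  rw [Bool.or_eq_true, Bool.or_eq_true, hno3 r hr l hl hp, List.any_eq_true] at h2
  obtain ⟨r', hr', hp'⟩ : ∃ r' ∈ R, Par f r' lA := by
    rcases h2 with (h2 | h2) | ⟨s, hs, h2⟩
    · exact absurd (Nat.eq_of_beq_eq_true h2) hl0
    · simp at h2
    obtain ⟨r1, hr1, hp1⟩ := hconj r hr l hl hp s hs
    have hs1 := List.mem_range.1 (List.mem_filter.1 hs).1
    have hl1 : lmul (lmul s l) (linv s) < 168 := F.lmul_lt (F.lmul_lt hs1 hl) (inv_lt hs1)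
    rw [Bool.or_eq_true, Bool.or_eq_true, hno3 _ (R.mul_mem hr hr1) _ (F.lmul_lt hl hl1) (hf.par_mul hl hl1 hp hp1)] at h2
    rcases h2 with (h2 | h2) | h2
    · simp at h2
    · exact ⟨r1, hr1, Nat.eq_of_beq_eq_true h2 ▸ hp1⟩
    · exact ⟨_, R.mul_mem hr hr1, Nat.eq_of_beq_eq_true h2 ▸ hf.par_mul hl hl1 hp hp1⟩
  obtain ⟨k, hk, hkP⟩ := hcls a⁻¹ (M.inv_mem ha)
  have h1 := hf.par_mul hA hk (hf.par_of_act haA) hkP
  rw [mul_inv_cancel] at h1
  have e : lmul lA k = 0 := hf.par_unique (F.lmul_lt hA hk) (by norm_num) h1 (hf.par_of_act hf.act_one)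
  have hq := hf.par_mul hA hk hp' hkP
  rw [e] at hq
  obtain ⟨u, hu, eu⟩ := (hf.mem _).1 (F.ker _ (M.mul_mem (hRM hr') (M.inv_mem ha)) hq)
  exact ⟨r', u, hu, by rw [eu]; group, hr'⟩

theorem split_cond {t : G} {R M A : Subgroup G} {f : ℕ → G} (C : CentData t R) (F : MFrame t M A f) {a b g : G}
    (ha2 : a * a = 1) (hbi : Act f b⁻¹ lBi)
    (hact : ∀ w : List ℕ, (∀ x ∈ w, x < 4) → lW w < 168 ∧ Act f (evW [a, b] w) (lW w))
    {u q : ℕ} (hu : u < 64) (hg : g = f u * a) (hgR : g ∈ R) (hq : q < 64)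
    (eq : f q = (a * b * a * b⁻¹) ^ 4) (hai : a⁻¹ = a) :
    inRA (vadd (vadd (actV lK u) (vneg u)) (actV lBi q)) = true := by
  have hf := F.frame
  obtain ⟨k, ek⟩ : ∃ k, k = evW [a, b] [3, 0, 2, 0, 3, 0, 2] := ⟨_, rfl⟩
  have hk : Act f k lK := by
    have h := (hact [3, 0, 2, 0, 3, 0, 2] (by simp)).2
    rwa [class_facts.2.2.2.2.2.1, ← ek] at h
  have hkt : k * t = t * k := by
    have h := hk tC small_lt.2.2.2
    rw [class_facts.2.2.2.2.1, hf.hT] at h
    exact mul_inv_eq_iff_eq_mul.1 h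
  have hmem : k * g * k⁻¹ * g⁻¹ ∈ R := R.mul_mem (C.norm k hkt g hgR) (R.inv_mem hgR)
  obtain ⟨γ, eγ⟩ : ∃ γ, γ = b⁻¹ * a * b := ⟨_, rfl⟩
  have hγ : γ * γ = 1 := by
    calc γ * γ = b⁻¹ * (a * a) * b := by rw [eγ]; group
      _ = 1 := by rw [ha2]; group
  have ekγ : k = γ * a * γ := by
    rw [ek, eγ]
    simp [evW, letG, mul_assoc]
  have hgi : γ⁻¹ = γ := inv_eq_of_mul_eq_one_right hγ
  have e4 : k * a * k⁻¹ * a⁻¹ = b⁻¹ * f q * b := by
    calc k * a * k⁻¹ * a⁻¹ = γ * a * γ * a * (γ⁻¹ * a⁻¹ * γ⁻¹) * a⁻¹ := by rw [ekγ]; group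
      _ = (γ * a) ^ 4 := by rw [hgi, hai]; simp [pow_succ, mul_assoc]
      _ = (b⁻¹ * (a * b * a * b⁻¹) * b⁻¹⁻¹) ^ 4 := by rw [eγ]; group
      _ = b⁻¹ * f q * b := by rw [conj_pow, eq, inv_inv]
  have e5 : k * g * k⁻¹ * g⁻¹ = f (vadd (vadd (actV lK u) (vneg u)) (actV lBi q)) := by
    rw [hf.add _ vadd_lt _ actV_lt64, hf.add _ actV_lt64 _ (hf.neg hu).2, (hf.neg hu).1]
    calc k * g * k⁻¹ * g⁻¹ = (k * f u * k⁻¹) * (k * a * k⁻¹ * a⁻¹) * (f u)⁻¹ := by rw [hg]; group
      _ = f (actV lK u) * f (actV lBi q) * (f u)⁻¹ := by rw [hk u hu, e4, ← hbi q hq, inv_inv]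
      _ = _ := by rw [mul_assoc, mul_assoc, ((hf.comm actV_lt64 hu).inv_right).eq]
  rcases C.sq _ hmem with h | h <;> rw [e5, ← hf.add _ vadd_lt _ vadd_lt] at h
  · simp [inRA, hf.inj _ vadd_lt 0 (by norm_num) (h.trans hf.zero.symm)]
  · simp [inRA, hf.inj _ vadd_lt _ small_lt.2.2.2 (h.trans hf.hT.symm)]

theorem mdata_of_rels {t : G} {R M A : Subgroup G} {f : ℕ → G} (_C : CentData t R) (F : MFrame t M A f)
    (hcardM : Nat.card M = 10752) (hRM : R ≤ M) {a b : G} (ha : a ∈ M) (hb : b ∈ M) (haA : Act f a lA)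
    (hbA : Act f b lB) (ha2 : a * a = 1) (hb3 : b ^ 3 = 1) (e7 : (a * b) ^ 7 = 1)
    (e4 : (a * b * a * b⁻¹) ^ 4 = 1) : Nonempty (MData t R M) := by
  classical
  have hf := F.frame
  obtain ⟨D, hDdef⟩ : ∃ D : MGens G, D = ⟨f 1, f 4, f 16, a, b⟩ := ⟨_, rfl⟩
  have hev : ∀ v < 64, D.eV v = f v := fun v hv => by rw [hDdef, hf.expand hv]; rfl
  have hai : a⁻¹ = a := inv_eq_of_mul_eq_one_right ha2
  have h : D.Ok := by
    have hV : D.VOk := by
      subst hDdef
      exact ⟨hf.comm small_lt.1 small_lt.2.1, hf.comm small_lt.1 small_lt.2.2.1, hf.comm small_lt.2.1 small_lt.2.2.1,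
        hf.pow_four small_lt.1, hf.pow_four small_lt.2.1, hf.pow_four small_lt.2.2.1⟩
    refine ⟨hV, ?_, ?_, ?_, ?_, ?_, ?_, ?_⟩
    all_goals try rw [hev _ actV_lt64]
    all_goals try subst hDdef
    · exact haA 1 small_lt.1
    · exact haA 4 small_lt.2.1
    · exact haA 16 small_lt.2.2.1
    · exact hbA 1 small_lt.1
    · exact hbA 4 small_lt.2.1
    · exact hbA 16 small_lt.2.2.1
    · intro w hw
      simp only [relsL, List.mem_cons, List.not_mem_nil, or_false] at hw
      rcases hw with rfl | rfl | rfl | rfl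
      · simpa [evW, letG] using ha2
      · simpa [evW, letG, pow_succ, mul_assoc] using hb3
      · simpa [evW, letG, List.replicate, pow_succ, mul_assoc] using e7
      · simpa [evW, letG, List.replicate, pow_succ, mul_assoc, hai] using e4
  have hAB : D.al = a ∧ D.be = b := by subst hDdef; exact ⟨rfl, rfl⟩
  have hbi : Act f b⁻¹ lBi := by
    obtain ⟨-, -, -, -, -, -, -, -, -, -, -, hB, -⟩ := word_classes
    rw [show b⁻¹ = b * b from inv_eq_of_mul_eq_one_right (by rw [← mul_assoc, ← pow_two, ← pow_succ, hb3]), ← hlBB]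
    exact hf.act_mul hB hB hbA hbA
  have hsigM : ∀ l, D.sig l ∈ M := fun l => evW_mem _ (fun y hy => by
    simp only [List.mem_cons, List.not_mem_nil, or_false, hAB.1, hAB.2] at hy
    rcases hy with rfl | rfl
    · exact ha
    · exact hb) _
  have hsigA : ∀ l < 168, Act f (D.sig l) l := by
    intro l hl
    have h1 := List.all_eq_true.mp tab_word l (List.mem_range.mpr hl)
    simp only [Bool.and_eq_true, List.all_eq_true, Nat.blt_eq] at h1
    have h2 := (F.act_word haA hbA (by rw [hai]; exact haA) hbi _ h1.1.1).2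
    rw [show lW (Tab.lword.getD l []) = l from Nat.eq_of_beq_eq_true h1.1.2] at h2
    rw [MGens.sig, hAB.1, hAB.2]
    exact h2
  have hrange : ∀ m : G, m ∈ M ↔ ∃ x < 10752, D.toM x = m := by
    intro m
    constructor
    · intro hm
      obtain ⟨X, -, -, -, -, l, hl, -, hp⟩ := F.exists_matrix hm
      obtain ⟨Y, -, -, -, -, k, hk, -, hkp⟩ := F.exists_matrix (M.inv_mem (hsigM l))
      have h1 := hf.par_mul hl hk (hf.par_of_act (hsigA l hl)) hkp
      rw [mul_inv_cancel] at h1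
      have e : lmul l k = 0 := hf.par_unique (F.lmul_lt hl hk) (by norm_num) h1 (hf.par_of_act hf.act_one)
      have h2 := hf.par_mul hl hk hp hkp
      rw [e] at h2
      obtain ⟨v, hv, ev⟩ := (hf.mem _).1 (F.ker _ (M.mul_mem hm (M.inv_mem (hsigM l))) h2)
      refine ⟨v + 64 * l, by omega, ?_⟩
      rw [MGens.toM, show (v + 64 * l) % 64 = v by omega, show (v + 64 * l) / 64 = l by omega, hev v hv, ev]
      group
    · rintro ⟨x, hx, rfl⟩
      rw [MGens.toM, hev _ (Nat.mod_lt _ (by norm_num))]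
      exact M.mul_mem (F.le (hf.mem' (Nat.mod_lt _ (by norm_num)))) (hsigM _)
  refine ⟨⟨D, h, ?_, hrange, ?_, hRM⟩⟩
  · let g : Fin 10752 → ↥M := fun x => ⟨D.toM x, (hrange _).2 ⟨x, x.2, rfl⟩⟩
    have hs : Function.Surjective g := fun m => by
      obtain ⟨x, hx, e⟩ := (hrange _).1 m.2
      exact ⟨⟨x, hx⟩, Subtype.ext e⟩
    have hb' := hs.bijective_of_nat_card_le (by rw [Nat.card_fin, hcardM])
    intro x hx y hy e
    exact congrArg Fin.val (hb'.1 (Subtype.ext e : g ⟨x, hx⟩ = g ⟨y, hy⟩))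
  · rw [MGens.toM, show 34 % 64 = 34 by norm_num, show 34 / 64 = 0 by norm_num, MGens.sig_zero h, mul_one,
      hev _ (by norm_num)]
    exact hf.hT

theorem exists_gens_of_act {t : G} {R M A : Subgroup G} {f : ℕ → G} (C : CentData t R) (F : MFrame t M A f)
    (hcardM : Nat.card M = 10752) (hRM : R ≤ M) {a b : G} (ha : a ∈ M) (hb : b ∈ M) (haA : Act f a lA)
    (hbA : Act f b lB) (hb3 : b ^ 3 = 1) : Nonempty (MData t R M) := by
  classical
  obtain ⟨hw00, hw222, hw2222, hw1, hw0, hw2, hw3, hw7, hw4, hw4', hA, hB, hBi, hK, hwAB, hiA, hiB⟩ := word_classes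
  have hf := F.frame
  have htt : t * t = 1 := by rw [← pow_two, ← C.ht, pow_orderOf_eq_one]
  have h0 : ∀ v < 64, actV 0 v = v := fun v hv =>
    Nat.eq_of_beq_eq_true (List.all_eq_true.mp tab_inv.2 v (List.mem_range.mpr hv))
  have hbi : Act f b⁻¹ lBi := by
    rw [show b⁻¹ = b * b from inv_eq_of_mul_eq_one_right (by rw [← mul_assoc, ← pow_two, ← pow_succ, hb3]), ← hlBB]
    exact hf.act_mul hB hB hbA hbA
  have hsqA : a * a ∈ A := by
    refine F.ker _ (M.mul_mem ha ha) (hf.par_of_act ?_)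
    have hll : lmul lA lA = 0 := aa_class
    exact hll ▸ hf.act_mul hA hA haA haA
  obtain ⟨x, hx, ex⟩ := (hf.mem _).1 hsqA
  have hai : Act f a⁻¹ lA := by
    rw [show a⁻¹ = a * (f x)⁻¹ by rw [ex]; group]
    have h1 := hf.act_mul hA (show (0 : ℕ) < 168 by norm_num) haA (F.mem_act (A.inv_mem (hf.mem' hx)))
    rwa [a_zero] at h1
  -- the fixed square
  have hθx : actV lA x = x := hf.inj _ actV_lt64 _ hx (by rw [← haA x hx, ex]; group)
  obtain ⟨g, u, hu, hg, hgR⟩ := core_element C F hcardM hRM ha haA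
  have hgsq : g * g = f (vadd u (actV lA u)) * f x := by
    rw [hf.add u hu _ actV_lt64, ← haA u hu, ex, hg]
    group
  obtain ⟨d, hd, hgd⟩ : ∃ d, (d = 0 ∨ d = tC) ∧ g * g = f d := by
    rcases C.sq g hgR with h | h
    · exact ⟨0, Or.inl rfl, h.trans hf.zero.symm⟩
    · exact ⟨tC, Or.inr rfl, h.trans hf.hT.symm⟩
  have hd64 : d < 64 := by rcases hd with rfl | rfl <;> norm_num [CfsgHSType.tC]
  have hxeq : x = vadd d (vneg (vadd u (actV lA u))) := by
    obtain ⟨en, hn⟩ := hf.neg (vadd_lt (a := u) (b := actV lA u))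
    refine hf.inj _ hx _ vadd_lt ?_
    rw [hf.add d hd64 _ hn, en, ← hgd, hgsq, (hf.comm vadd_lt hx).eq, mul_inv_cancel_right]
  obtain ⟨c, hc, hcx⟩ : ∃ c < 64, vadd (vadd c (actV lA c)) x = 0 := by
    have h := List.all_eq_true.mp square_fix u (List.mem_range.mpr hu)
    rw [List.all_eq_true] at h
    have h1 := h d (by rcases hd with rfl | rfl <;> simp)
    simp only [← hxeq, hθx, Nat.beq_refl, Bool.not_true, Bool.false_or, List.any_eq_true] at h1
    obtain ⟨c, hc, e⟩ := h1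
    exact ⟨c, List.mem_range.mp hc, Nat.eq_of_beq_eq_true e⟩
  -- the involution
  obtain ⟨a', ha'⟩ : ∃ a', a' = f c * a := ⟨_, rfl⟩
  have ha'M : a' ∈ M := ha' ▸ M.mul_mem (F.le (hf.mem' hc)) ha
  have ha'A : Act f a' lA := by
    have h1 := hf.act_mul (show (0 : ℕ) < 168 by norm_num) hA (F.mem_act (hf.mem' hc)) haA
    rw [← ha', zero_a] at h1
    exact h1
  have ha2 : a' * a' = 1 := by
    rw [← hf.zero, ← hcx, hf.add _ vadd_lt _ hx, hf.add c hc _ actV_lt64, ← haA c hc, ex, ha']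
    group
  obtain ⟨g, u, hu, hg, hgR⟩ := core_element C F hcardM hRM ha'M ha'A
  clear hxeq hgsq hgd hd hd64 hcx hθx ex hsqA hai haA ha ha' hc c hx x d
  have hai : a'⁻¹ = a' := inv_eq_of_mul_eq_one_right ha2
  have hbib : b⁻¹ = b * b := inv_eq_of_mul_eq_one_right (by rw [← mul_assoc, ← pow_two, ← pow_succ, hb3])
  have hact : ∀ w : List ℕ, (∀ x ∈ w, x < 4) → lW w < 168 ∧ Act f (evW [a', b] w) (lW w) :=
    fun w hw => F.act_word ha'A hbA (by rw [hai]; exact ha'A) hbi w hw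
  have hmem : ∀ w : List ℕ, evW [a', b] w ∈ M := fun w => evW_mem _ (fun y hy => by
    simp only [List.mem_cons, List.not_mem_nil, or_false] at hy
    rcases hy with rfl | rfl
    · exact ha'M
    · exact hb) w
  have e7 : (a' * b) ^ 7 = 1 := seven C F ha'M hb ha'A hbA hact
  -- the commutator
  have hev4 : evW [a', b] [0, 2, 0, 3] = a' * b * a' * b⁻¹ := by simp [evW, letG, mul_assoc]
  have hC : Act f (a' * b * a' * b⁻¹) (lW [0, 2, 0, 3]) := hev4 ▸ (hact [0, 2, 0, 3] (by simp)).2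
  obtain ⟨q, hq, eq⟩ : ∃ q < 64, f q = (a' * b * a' * b⁻¹) ^ 4 := by
    refine (hf.mem _).1 (F.ker _ (M.pow_mem (hev4 ▸ hmem _) 4) (hf.par_of_act ?_))
    have h := (hact (List.replicate 4 [0, 2, 0, 3]).flatten (by simp)).2
    rw [hw4] at h
    have e : evW [a', b] (List.replicate 4 [0, 2, 0, 3]).flatten = (a' * b * a' * b⁻¹) ^ 4 := by
      simp [evW, letG, List.replicate, pow_succ, mul_assoc]
    exact e ▸ h
  have hCq : actV (lW [0, 2, 0, 3]) q = q := hf.inj _ actV_lt64 _ hq (by rw [← hC q hq, eq]; generalize a' * b * a' * b⁻¹ = p; group)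
  have hu2 : vadd u (actV lA u) = 0 ∨ vadd u (actV lA u) = tC := by
    have e : g * g = f (vadd u (actV lA u)) := by
      rw [hf.add u hu _ actV_lt64, ← ha'A u hu, hg, hai]
      group
    rcases C.sq g hgR with h | h <;> rw [e] at h
    · exact Or.inl (hf.inj _ vadd_lt 0 (by norm_num) (h.trans hf.zero.symm))
    · exact Or.inr (hf.inj _ vadd_lt _ small_lt.2.2.2 (h.trans hf.hT.symm))
  have hcondq : inRA (vadd (vadd (actV lK u) (vneg u)) (actV lBi q)) = true :=
    split_cond C F ha2 hbi hact hu hg hgR hq eq hai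
  obtain ⟨c, hc, hc0, hcq⟩ : ∃ c < 64, vadd c (actV lA c) = 0 ∧
      vadd (sumC (vadd c (actV lA (actV lB c)))) q = 0 := by
    have h := List.all_eq_true.mp q_norm q (List.mem_range.mpr hq)
    rw [hCq, Nat.beq_refl] at h
    simp only [Bool.not_true, Bool.false_or, List.all_eq_true] at h
    have h1 := h u (List.mem_range.mpr hu)
    rw [hcondq] at h1
    rcases hu2 with h2 | h2 <;> rw [h2] at h1 <;>
    · simp only [Nat.beq_refl, Bool.not_true, Bool.false_or, Bool.true_or, Bool.or_true, List.any_eq_true,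
        Bool.and_eq_true] at h1
      obtain ⟨c, hc, e1, e2⟩ := h1
      exact ⟨c, List.mem_range.mp hc, Nat.eq_of_beq_eq_true e1, Nat.eq_of_beq_eq_true e2⟩
  obtain ⟨a'', ha''⟩ : ∃ a'', a'' = f c * a' := ⟨_, rfl⟩
  have ha''M : a'' ∈ M := ha'' ▸ M.mul_mem (F.le (hf.mem' hc)) ha'M
  have ha''A : Act f a'' lA := by
    have h1 := hf.act_mul (show (0 : ℕ) < 168 by norm_num) hA (F.mem_act (hf.mem' hc)) ha'A
    rw [← ha'', zero_a] at h1
    exact h1
  have hsq2 : a'' * a'' = 1 := by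
    rw [← hf.zero, ← hc0, hf.add c hc _ actV_lt64, ← ha'A c hc, ha'', hai]
    group
  have hcomm : (a'' * b * a'' * b⁻¹) ^ 4 = 1 := by
    have e1 : a'' * b * a'' * b⁻¹ = f (vadd c (actV lA (actV lB c))) * (a' * b * a' * b⁻¹) := by
      rw [hf.add c hc _ actV_lt64, ← ha'A _ actV_lt64, ← hbA c hc, ha'']
      group
    rw [e1, pow_four_twist hC F vadd_lt hq eq, hcq, hf.zero]
  have hai'' : a''⁻¹ = a'' := inv_eq_of_mul_eq_one_right hsq2
  have hact'' : ∀ w : List ℕ, (∀ x ∈ w, x < 4) → lW w < 168 ∧ Act f (evW [a'', b] w) (lW w) :=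
    fun w hw => F.act_word ha''A hbA (by rw [hai'']; exact ha''A) hbi w hw
  have e7'' : (a'' * b) ^ 7 = 1 := seven C F ha''M hb ha''A hbA hact''
  exact mdata_of_rels C F hcardM hRM ha''M hb ha''A hbA hsq2 hb3 e7'' hcomm

theorem exists_gens {t : G} {R M A : Subgroup G} {f : ℕ → G} (C : CentData t R) (F : MFrame t M A f)
    (hcardM : Nat.card M = 10752) (hRM : R ≤ M) : Nonempty (MData t R M) := by
  classical
  obtain ⟨hw00, hw222, hw2222, hw1, hw0, hw2, hw3, hw7, hw4, hw4', hA, hB, hBi, hK, hwAB, hiA, hiB⟩ := word_classes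
  have htne : t ≠ 1 := fun e => by have := C.ht; rw [e] at this; simp at this
  have hM2 : ∀ m ∈ M, ∀ l, l < 168 → Par f m l → ∀ x ∈ A, m * x * m⁻¹ ∈ A := fun m hm l _ _ x hx => by
    obtain ⟨v, hv, rfl⟩ := (F.frame.mem x).1 hx
    obtain ⟨w, hw, e⟩ := F.img m hm v hv
    exact e ▸ F.frame.mem' hw
  -- an element of order three
  obtain ⟨m, hm, hmP⟩ := F.exists_lift hcardM hB
  have hpB : ∀ w : List ℕ, (∀ x ∈ w, x = 2) → lW w < 168 ∧ Par f (m ^ w.length) (lW w) := by
    suffices h : ∀ w : List ℕ, (∀ x ∈ w, x = 2) → ∀ d < 168, ∀ g : G, Par f g d →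
        lrun d w < 168 ∧ Par f (g * m ^ w.length) (lrun d w) by
      intro w hw
      have := h w hw 0 (by norm_num) 1 (F.frame.par_of_act F.frame.act_one)
      rwa [one_mul] at this
    intro w
    induction w with
    | nil => intro _ d hd g hg; simpa [lrun] using ⟨hd, hg⟩
    | cons x w ih =>
      intro hw d hd g hg
      rw [hw x List.mem_cons_self, lrun,
        Nat.eq_of_beq_eq_true (List.all_eq_true.mp (List.all_eq_true.mp step_mul d (List.mem_range.mpr hd)) 2 (by simp)),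
        hw2, List.length_cons, pow_succ', ← mul_assoc]
      exact ih (fun y hy => hw y (List.mem_cons_of_mem _ hy)) _ (F.lmul_lt hd hB) _ (F.frame.par_mul hd hB hg hmP)
  have hm3 : m ^ 3 ∈ A := F.ker _ (M.pow_mem hm 3) (by
    have := (hpB [2, 2, 2] (by simp)).2
    rwa [hw222] at this)
  obtain ⟨v3, hv3, ev3⟩ := (F.frame.mem _).1 hm3
  have hb3 : (m ^ 4) ^ 3 = 1 := by
    rw [← pow_mul, show 4 * 3 = 3 * 4 by norm_num, pow_mul, ← ev3, F.frame.pow_four hv3]
  have hbP : Par f (m ^ 4) lB := by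
    have := (hpB [2, 2, 2, 2] (by simp)).2
    rwa [hw2222] at this
  have hbM : m ^ 4 ∈ M := M.pow_mem hm 4
  generalize m ^ 4 = b at hb3 hbP hbM
  clear hpB hm3 ev3 hmP hm v3 hv3 m
  obtain ⟨X, hX1, hX2, hX3, hX, l, hl, hlX, hPl⟩ := F.exists_matrix hbM
  rw [F.frame.par_unique hl hB hPl hbP] at hlX
  obtain ⟨s, hs, es⟩ : ∃ s < 512, liftT (parL lB) s = X := lift_of_parities hX1 hX2 hX3 hlX
  have hcube : eqOn (fun v => appM X (appM X (appM X v))) id = true := by
    have h3 : ∀ v < 64, appM X (appM X (appM X v)) = v := fun v hv => F.frame.inj _ appM_lt _ hv (by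
      rw [← hX _ appM_lt, ← hX _ appM_lt, ← hX _ hv,
        show b * (b * (b * f v * b⁻¹) * b⁻¹) * b⁻¹ = b * b * b * f v * (b * b * b)⁻¹ by group,
        show b * b * b = 1 by rw [← hb3, pow_succ, pow_two]]
      group)
    simp [eqOn, h3]
  have hbl := List.all_eq_true.mp beta_lift s (List.mem_range.mpr hs)
  rw [es, hcube] at hbl
  simp only [Bool.not_true, Bool.false_or, List.any_eq_true, eqOn, Bool.and_eq_true] at hbl
  obtain ⟨k, hk, ⟨hk1, hk4⟩, hk16⟩ := hbl
  have F1 := F.change (List.mem_range.mp hk)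
  have hbA : Act (fun v => f (appM (kerT k) v)) b lB := F1.frame.act_of_units hB fun u hu => by
    show b * f (appM (kerT k) u) * b⁻¹ = f (appM (kerT k) (actV lB u))
    rw [hX _ appM_lt]
    congr 1
    simp only [units, List.mem_cons, List.not_mem_nil, or_false] at hu
    rcases hu with rfl | rfl | rfl
    · exact Nat.eq_of_beq_eq_true hk1
    · exact Nat.eq_of_beq_eq_true hk4
    · exact Nat.eq_of_beq_eq_true hk16
  clear hk1 hk4 hk16 hX hX1 hX2 hX3 es hcube hbP hlX hPl F hM2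
  generalize (fun v => f (appM (kerT k) v)) = f1 at F1 hbA
  clear f hk k s hs X l hl
  rename' f1 => f, F1 => F
  have hbi : Act f b⁻¹ lBi := by
    rw [show b⁻¹ = b * b from inv_eq_of_mul_eq_one_right (by rw [← mul_assoc, ← pow_two, ← pow_succ, hb3]), ← hlBB]
    exact F.frame.act_mul hB hB hbA hbA
  -- the involution
  obtain ⟨m, hm, hmP⟩ := F.exists_lift hcardM hA
  obtain ⟨X, hX1, hX2, hX3, hX, l, hl, hlX, hPl⟩ := F.exists_matrix hm
  rw [F.frame.par_unique hl hA hPl hmP] at hlX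
  obtain ⟨s, hs, es⟩ : ∃ s < 512, liftT (parL lA) s = X := lift_of_parities hX1 hX2 hX3 hlX
  have hpw : ∀ w : List ℕ, (∀ x ∈ w, x = 0 ∨ x = 2 ∨ x = 3) → lW w < 168 ∧ Par f (evW [m, b] w) (lW w) := by
    suffices h : ∀ w : List ℕ, (∀ x ∈ w, x = 0 ∨ x = 2 ∨ x = 3) → ∀ d < 168, ∀ g : G, Par f g d →
        lrun d w < 168 ∧ Par f (g * evW [m, b] w) (lrun d w) by
      intro w hw
      have := h w hw 0 (by norm_num) 1 (F.frame.par_of_act F.frame.act_one)
      rwa [one_mul] at this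
    intro w
    induction w with
    | nil => intro _ d hd g hg; simpa [lrun, evW_nil] using ⟨hd, hg⟩
    | cons x w ih =>
      intro hw d hd g hg
      have hst : ∀ y < 4, lstep d y = lmul d (lW [y]) := fun y hy =>
        Nat.eq_of_beq_eq_true (List.all_eq_true.mp (List.all_eq_true.mp step_mul d (List.mem_range.mpr hd)) y
          (List.mem_range.mpr hy))
      rw [lrun, evW_cons, ← mul_assoc]
      rcases hw x List.mem_cons_self with rfl | rfl | rfl
      · rw [hst 0 (by norm_num), hw0]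
        exact ih (fun y hy => hw y (List.mem_cons_of_mem _ hy)) _ (F.lmul_lt hd hA) _
          (F.frame.par_mul hd hA hg (by simpa [letG] using hmP))
      · rw [hst 2 (by norm_num), hw2]
        exact ih (fun y hy => hw y (List.mem_cons_of_mem _ hy)) _ (F.lmul_lt hd hB) _
          (F.frame.par_mul hd hB hg (by simpa [letG] using F.frame.par_of_act hbA))
      · rw [hst 3 (by norm_num), hw3]
        exact ih (fun y hy => hw y (List.mem_cons_of_mem _ hy)) _ (F.lmul_lt hd hBi) _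
          (F.frame.par_mul hd hBi hg (by simpa [letG] using F.frame.par_of_act hbi))
  have hAct0 : ∀ w : List ℕ, (∀ x ∈ w, x = 0 ∨ x = 2 ∨ x = 3) → lW w = 0 → Act f (evW [m, b] w) 0 := by
    intro w hw e
    refine F.mem_act (F.ker _ (evW_mem [m, b] (fun g hg => ?_) w) (e ▸ (hpw w hw).2))
    simp only [List.mem_cons, List.not_mem_nil, or_false] at hg
    rcases hg with rfl | rfl
    · exact hm
    · exact hbM
  have hop : ∀ w : List ℕ, (∀ x ∈ w, x = 0 ∨ x = 2 ∨ x = 3) → ∀ v < 64,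
      evW [m, b] w * f v * (evW [m, b] w)⁻¹ = f (w.foldr (fun x u => if x = 0 then appM X u else
        if x = 2 then actV lB u else actV lBi u) v) ∧
      w.foldr (fun x u => if x = 0 then appM X u else if x = 2 then actV lB u else actV lBi u) v < 64 := by
    intro w
    induction w with
    | nil => intro _ v hv; simp [evW_nil, hv]
    | cons x w ih =>
      intro hw v hv
      obtain ⟨e, hlt⟩ := ih (fun y hy => hw y (List.mem_cons_of_mem _ hy)) v hv
      rw [List.foldr_cons, evW_cons, show letG [m, b] x * evW [m, b] w * f v * (letG [m, b] x * evW [m, b] w)⁻¹ =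
        letG [m, b] x * (evW [m, b] w * f v * (evW [m, b] w)⁻¹) * (letG [m, b] x)⁻¹ by group, e]
      rcases hw x List.mem_cons_self with rfl | rfl | rfl
      · exact ⟨by simpa [letG] using hX _ hlt, by simpa using appM_lt⟩
      · exact ⟨by simpa [letG] using hbA _ hlt, by simpa using actV_lt64⟩
      · exact ⟨by simpa [letG] using hbi _ hlt, by simpa using actV_lt64⟩
  have hcond : alphaCond X = true := by
    have hid : ∀ w : List ℕ, (∀ x ∈ w, x = 0 ∨ x = 2 ∨ x = 3) → lW w = 0 → ∀ v < 64,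
        w.foldr (fun x u => if x = 0 then appM X u else if x = 2 then actV lB u else actV lBi u) v = v := by
      intro w hw e v hv
      obtain ⟨e1, hlt⟩ := hop w hw v hv
      refine F.frame.inj _ hlt _ hv ?_
      rw [← e1, hAct0 w hw e v hv, Nat.eq_of_beq_eq_true (List.all_eq_true.mp tab_inv.2 v (List.mem_range.mpr hv))]
    have c1 := hid [0, 0] (by simp) hw00
    have c2 := hid (List.replicate 7 [0, 2]).flatten (by simp) hw7
    have c3 := hid (List.replicate 4 [0, 2, 0, 3]).flatten (by simp) hw4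
    simp only [List.foldr_cons, List.foldr_nil, List.replicate, List.flatten_cons, List.flatten_nil, List.append_eq,
      List.cons_append, List.nil_append, List.append_nil, reduceIte, OfNat.ofNat_ne_zero, Nat.reduceEqDiff] at c1 c2 c3
    simp [alphaCond, eqOn, c1 1 small_lt.1, c1 4 small_lt.2.1, c1 16 small_lt.2.2.1, c2 1 small_lt.1,
      c2 4 small_lt.2.1, c2 16 small_lt.2.2.1, c3 1 small_lt.1, c3 4 small_lt.2.1, c3 16 small_lt.2.2.1]
  have hal := List.all_eq_true.mp alpha_lift s (List.mem_range.mpr hs)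
  rw [es, hcond] at hal
  simp only [Bool.not_true, Bool.false_or, List.any_eq_true, eqOn, Bool.and_eq_true] at hal
  obtain ⟨k, hk, ⟨⟨hk1, hk4⟩, hk16⟩, ⟨hj1, hj4⟩, hj16⟩ := hal
  have F2 := F.change (List.mem_range.mp hk)
  have hmA : Act (fun v => f (appM (kerT k) v)) m lA := F2.frame.act_of_units hA fun u hu => by
    show m * f (appM (kerT k) u) * m⁻¹ = f (appM (kerT k) (actV lA u))
    rw [hX _ appM_lt]
    congr 1
    simp only [units, List.mem_cons, List.not_mem_nil, or_false] at hu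
    rcases hu with rfl | rfl | rfl
    · exact Nat.eq_of_beq_eq_true hk1
    · exact Nat.eq_of_beq_eq_true hk4
    · exact Nat.eq_of_beq_eq_true hk16
  have hbA2 : Act (fun v => f (appM (kerT k) v)) b lB := F2.frame.act_of_units hB fun u hu => by
    show b * f (appM (kerT k) u) * b⁻¹ = f (appM (kerT k) (actV lB u))
    rw [hbA _ appM_lt]
    congr 1
    simp only [units, List.mem_cons, List.not_mem_nil, or_false] at hu
    rcases hu with rfl | rfl | rfl
    · exact Nat.eq_of_beq_eq_true hj1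
    · exact Nat.eq_of_beq_eq_true hj4
    · exact Nat.eq_of_beq_eq_true hj16
  clear hcond hop hAct0 hpw hbA hbi hk1 hk4 hk16 hj1 hj4 hj16 hX hX1 hX2 hX3 es hlX hPl hmP F
  generalize (fun v => f (appM (kerT k) v)) = f2 at F2 hmA hbA2
  clear f hk k s hs X l hl
  rename' f2 => f, F2 => F
  exact exists_gens_of_act C F hcardM hRM hm hbM hmA hbA2 hb3

end CfsgHSType
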