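import Cfsg.Agent.Lib.HSType.Key0
import Cfsg.Agent.Lib.HSType.AutoChecks

/-!
The centraliser with its fifth generator in one normal form.
-/

set_option autoImplicit false
set_option maxRecDepth 10000

namespace CfsgHSType

open Cfsg
open Equiv
open CfsgAutL34.Enum (evW letG)

attribute [local irreducible] actV lmul linv lstep vadd vneg vsmul appM mulM invM sAt uAt fget innF comp6 mtI mlet Delta.dat0 Delta.dat1 coreCand pack6 Dec.tab decAt phi evL alN

variable {G : Type*} [Group G] [Finite G]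

/-- The key of the normal form. -/
def key0 : Key := ⟨0, 0, 0, 0⟩

/-- The normal form. -/
structure HData (t : G) (R M : Subgroup G) where
  /-- the coordinates -/
  X : MData t R M
  /-- the fifth generator -/
  d : G
  /-- the map onto the symmetric group -/
  q : ↥(Subgroup.centralizer ({t} : Set G)) →* Perm (Fin 5)
  ov : Over X 0 d q
  rel : HRel X.D d key0

omit [Finite G] in
theorem seqT_sound {D : MGens G} {d : G} {K : Key} (h : HRel D d K) : ∀ {l : List ℕ}, (∀ x ∈ l, x ≤ 10752) →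
    ∀ {st}, seqT K l = some st → HRel.Good st ∧
      HRel.val D d st = (l.map fun x => if x = 10752 then d else D.toM x).prod := by
  intro l
  induction l with
  | nil =>
    intro _ st e
    simp only [seqT, Option.some.injEq] at e
    subst e
    exact ⟨⟨by norm_num, by norm_num⟩, by simp [HRel.val, HRel.rep, MGens.toM_zero h.ok]⟩
  | cons x l ih =>
    intro hl st e
    obtain ⟨s0, e0, e1⟩ := Option.bind_eq_some_iff.1 (show (seqT K l).bind _ = some st from e)
    obtain ⟨g0, v0⟩ := ih (fun y hy => hl y (List.mem_cons_of_mem _ hy)) e0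
    have hx := hl x List.mem_cons_self
    rw [List.map_cons, List.prod_cons, ← v0]
    split at e1
    · next hx' =>
      rw [if_pos hx']
      exact h.dT_sound g0 e1
    · next hx' =>
      rw [if_neg hx']
      exact h.pT_sound (by omega) g0 e1

theorem seqT_one {D : MGens G} {d : G} {K : Key} (h : HRel D d K) {l : List ℕ} (hl : ∀ x ∈ l, x ≤ 10752)
    (e : (seqT K l == some (0, 0)) = true) : (l.map fun x => if x = 10752 then d else D.toM x).prod = 1 := by
  obtain ⟨-, v⟩ := seqT_sound h hl (beq_iff_eq.1 e)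
  rw [← v]
  simp [HRel.val, HRel.rep, MGens.toM_zero h.ok]

theorem exists_hdata {t : G} {R M : Subgroup G} (X : MData t R M) (C : CentData t R) :
    Nonempty (HData t R M) := by
  classical
  obtain ⟨d, q, di, O, hrel⟩ := exists_key X C
  rcases hrel.di with hdi | hdi
  · simp only at hdi
    subst hdi
    exact ⟨⟨X, d, q, O, hrel⟩⟩
  simp only at hdi
  subst hdi
  obtain ⟨hal, hu, huS, hcl, hlet, hlen⟩ := alN_ok
  obtain ⟨hev, hconjs⟩ := alN_rels
  obtain ⟨hphi, hphiS, hphi34⟩ := phi_ok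
  simp only [List.all_eq_true, List.mem_range, Bool.and_eq_true, Nat.blt_eq] at hphi hconjs
  have h := X.ok
  have hb : mlet 4 < 10752 := calc_consts.2.2.2.2.1
  have hbi : mlet 5 < 10752 := calc_consts.2.2.2.2.2.1
  have hbe : X.D.toM (mlet 4) = X.D.be ∧ X.D.toM (mlet 5) = X.D.be⁻¹ := by
    constructor
    · rw [← evM_single 4 (by norm_num), (MGens.toM_evM h [4] (by simp)).2]; simp [evW, letG]
    · rw [← evM_single 5 (by norm_num), (MGens.toM_evM h [5] (by simp)).2]; simp [evW, letG]
  obtain ⟨D', hD'⟩ : ∃ D' : MGens G, D' = ⟨X.D.a1, X.D.a2, X.D.a3, X.D.toM alN, X.D.be⟩ := ⟨_, rfl⟩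
  have hD1 : D'.a1 = X.D.a1 ∧ D'.a2 = X.D.a2 ∧ D'.a3 = X.D.a3 ∧ D'.al = X.D.toM alN ∧ D'.be = X.D.be := by
    subst hD'; exact ⟨rfl, rfl, rfl, rfl, rfl⟩
  have heV : ∀ v, D'.eV v = X.D.eV v := fun v => by simp [MGens.eV, hD1.1, hD1.2.1, hD1.2.2.1]
  have hvec : ∀ v, v < 64 → X.D.toM v = X.D.eV v := fun v hv => by
    rw [MGens.toM, show v % 64 = v by omega, show v / 64 = 0 by omega, MGens.sig_zero h, mul_one]
  have hev4 : ∀ w : List ℕ, (∀ x ∈ w, x < 4) → evL w < 10752 ∧ X.D.toM (evL w) = evW [D'.al, D'.be] w := by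
    intro w
    induction w with
    | nil => intro _; exact ⟨by with_unfolding_all decide, by with_unfolding_all exact MGens.toM_zero h⟩
    | cons x w ih =>
      intro hw
      have hx := hw x List.mem_cons_self
      obtain ⟨hlt, e⟩ := ih fun y hy => hw y (List.mem_cons_of_mem _ hy)
      have hl : [alN, invM alN, mlet 4, mlet 5].getD x 0 < 10752 := by
        have := List.all_eq_true.mp hlet x (List.mem_range.mpr hx); simpa using this
      have ev : evL (x :: w) = mulM ([alN, invM alN, mlet 4, mlet 5].getD x 0) (evL w) := by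
        with_unfolding_all rfl
      refine ⟨ev ▸ mulM_lt hl hlt, ?_⟩
      rw [ev, MGens.toM_mul h hl hlt, e, CfsgAutL34.Enum.evW_cons]
      congr 1
      interval_cases x <;> simp [letG, hD1.2.2.2.1, hD1.2.2.2.2, hbe, MGens.toM_invM h hal]
  have hok : D'.Ok := by
    have hc : ∀ v ∈ [1, 4, 16], X.D.toM alN * X.D.eV v * (X.D.toM alN)⁻¹ = X.D.eV (actV (lstep 0 0) v) ∧
        X.D.be * X.D.eV v * X.D.be⁻¹ = X.D.eV (actV (lstep 0 2) v) := by
      intro v hv
      have hv64 : v < 64 := by simp at hv; omega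
      obtain ⟨e1, e2⟩ := hconjs v hv
      have q1 := congrArg X.D.toM (Nat.eq_of_beq_eq_true e1)
      have q2 := congrArg X.D.toM (Nat.eq_of_beq_eq_true e2)
      rw [MGens.toM_cjM h hal (by omega), hvec v hv64, hvec _ actV_lt64] at q1
      rw [MGens.toM_cjM h hb (by omega), hbe.1, hvec v hv64, hvec _ actV_lt64] at q2
      exact ⟨q1, q2⟩
    obtain ⟨o1, o2, o3⟩ := MGens.eV_one (D := X.D) h.toVOk
    refine ⟨?_, ?_, ?_, ?_, ?_, ?_, ?_, ?_⟩
    · subst hD'; exact ⟨h.c12, h.c13, h.c23, h.p1, h.p2, h.p3⟩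
    all_goals try rw [hD1.2.2.2.1]
    all_goals try rw [heV, hD1.1, ← o1]
    all_goals try rw [heV, hD1.2.1, ← o2]
    all_goals try rw [heV, hD1.2.2.1, ← o3]
    · exact (hc 1 (by simp)).1
    · exact (hc 4 (by simp)).1
    · exact (hc 16 (by simp)).1
    · rw [hD1.2.2.2.2]; exact (hc 1 (by simp)).2
    · rw [hD1.2.2.2.2]; exact (hc 4 (by simp)).2
    · rw [hD1.2.2.2.2]; exact (hc 16 (by simp)).2
    · intro w hw
      have hw4 : ∀ x ∈ w, x < 4 := by
        have : ∀ v ∈ relsL, ∀ x ∈ v, x < 4 := by with_unfolding_all decide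
        exact this w hw
      have e := List.all_eq_true.mp hev w hw
      have := (hev4 w hw4).2
      rw [Nat.eq_of_beq_eq_true e, MGens.toM_zero h, hD1.2.2.2.1] at this
      exact this.symm
  have hphlt : ∀ x < 10752, phi x < 10752 := fun x hx => (hphi x hx).1
  have hphh : ∀ x < 10752, phi (phi x) = x := fun x hx => Nat.eq_of_beq_eq_true (hphi x hx).2
  have hto : ∀ x < 10752, D'.toM x = X.D.toM (phi x) := by
    intro x hx
    have hl : x / 64 < 168 := by omega
    have h1 := List.all_eq_true.mp tab_word (x / 64) (List.mem_range.mpr hl)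
    simp only [Bool.and_eq_true, List.all_eq_true, Nat.blt_eq] at h1
    obtain ⟨hlt, e⟩ := hev4 _ h1.1.1
    have ep : phi x = mulM (x % 64) (evL (Tab.lword.getD (x / 64) [])) := by
      with_unfolding_all exact CfsgAutL34.Enum.force_eq _ _
    rw [ep, MGens.toM_mul h (by omega) hlt, hvec _ (Nat.mod_lt _ (by norm_num)), e, MGens.toM, heV]
    rfl
  let X' : MData t R M :=
    { D := D'
      ok := hok
      inj := fun x hx y hy e => by
        rw [hto x hx, hto y hy] at e
        rw [← hphh x hx, X.inj _ (hphlt x hx) _ (hphlt y hy) e, hphh y hy]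
      range := fun m => by
        rw [X.range]
        constructor
        · rintro ⟨x, hx, rfl⟩
          exact ⟨phi x, hphlt x hx, by rw [hto _ (hphlt x hx), hphh x hx]⟩
        · rintro ⟨x, hx, rfl⟩
          exact ⟨phi x, hphlt x hx, (hto x hx).symm⟩
      hTC := by rw [hto 34 (by norm_num), hphi34, X.hTC]
      le := X.le }
  have hcore : ∀ x < 10752, D'.toM x ∈ R ↔ x ∈ coreCand.getD 0 [] := by
    intro x hx
    rw [hto x hx, O.core _ (hphlt x hx)]
    constructor
    · intro hm
      have := List.all_eq_true.mp hphiS _ hm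
      rw [hphh x hx, List.contains_iff_mem] at this
      exact this
    · intro hm
      have := List.all_eq_true.mp hphiS _ hm
      rwa [List.contains_iff_mem] at this
  have hmod : ∀ c ∈ [Delta.dat0.c1, Delta.dat0.c3, Delta.dat0.rho], c < 10752 →
      (X.D.toM c)⁻¹ * D'.toM c ∈ R := by
    intro c hc hclt
    have hh := List.all_eq_true.mp hcl c hc
    rw [List.contains_iff_mem] at hh
    rw [hto c hclt, ← MGens.toM_invM h hclt, ← MGens.toM_mul h (invM_lt hclt) (hphlt c hclt)]
    exact (O.core _ (mulM_lt (invM_lt hclt) (hphlt c hclt))).2 hh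
  have hq : ∀ c ∈ [Delta.dat0.c1, Delta.dat0.c3, Delta.dat0.rho], c < 10752 → ∀ s,
      (∀ x : ↥(Subgroup.centralizer ({t} : Set G)), (x : G) = X.D.toM c → q x = s) →
      ∀ x : ↥(Subgroup.centralizer ({t} : Set G)), (x : G) = D'.toM c → q x = s := by
    intro c hc hclt s hs x hx
    obtain ⟨r, hr⟩ : ∃ r : ↥(Subgroup.centralizer ({t} : Set G)), (r : G) = (X.D.toM c)⁻¹ * D'.toM c :=
      ⟨⟨_, Subgroup.mem_centralizer_singleton_iff.2 (C.sub _ (hmod c hc hclt))⟩, rfl⟩
    have e : q r = 1 := (O.ker r).2 (hr ▸ hmod c hc hclt)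
    have h2 := hs (x * r⁻¹) (by rw [Subgroup.coe_mul, Subgroup.coe_inv, hr, hx]; group)
    rwa [map_mul, map_inv, e, inv_one, mul_one] at h2
  obtain ⟨-, -, -, -, -, -, -, hrl, h1l, h3l⟩ := calc_consts
  have huR : X.D.toM uN ∈ R := (O.core _ hu).2 (List.contains_iff_mem.1 huS)
  obtain ⟨a0, a1, a3, arho, aconj⟩ := auto_rels
  have hd : d * d = 1 := by
    have := hrel.sq
    rwa [sE, cent_consts.2.1, MGens.toM_zero h] at this
  have hdi : d⁻¹ = d := inv_eq_of_mul_eq_one_right hd
  have hN : ∀ x ∈ dN, x ≤ 10752 := by intro x hx; simp [dN, uN] at hx; omega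
  have hNi : ∀ x ∈ dNi, x ≤ 10752 := by
    intro x hx; simp [dNi] at hx; rcases hx with rfl | rfl
    · exact (invM_lt hu).le
    · exact le_rfl
  have hap : ∀ {l1 l2 : List ℕ}, (∀ k ∈ l1, k ≤ 10752) → (∀ k ∈ l2, k ≤ 10752) → ∀ k ∈ l1 ++ l2, k ≤ 10752 :=
    fun h1 h2 k hk => (List.mem_append.1 hk).elim (h1 k) (h2 k)
  have hsing : ∀ {x}, x < 10752 → ∀ k ∈ [x], k ≤ 10752 := fun hx k hk => by simp at hk; omega
  have eN : (dN.map fun x => if x = 10752 then d else X.D.toM x).prod = d * X.D.toM uN := by simp [dN, uN]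
  have eNi : (dNi.map fun x => if x = 10752 then d else X.D.toM x).prod = (d * X.D.toM uN)⁻¹ := by
    have := invM_lt hu
    simp [dNi, mul_inv_rev, hdi, MGens.toM_invM h hu, (show invM uN ≠ 10752 by omega)]
  have e1' : ∀ {x}, x < 10752 → ([x].map fun x => if x = 10752 then d else X.D.toM x).prod = X.D.toM x :=
    fun {x} hx => by simp [show ¬ x = 10752 by omega]
  refine ⟨⟨X', d * X.D.toM uN, q, ⟨O.klt, hcore, O.surj, O.ker, ?_, ?_, ?_, ?_, ?_, ?_⟩, ?_⟩⟩
  · exact hq _ (by simp) h1l _ O.c1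
  · exact hq _ (by simp) h3l _ O.c3
  · exact hq _ (by simp) hrl _ O.rho
  · exact ((show Commute d t from O.dcomm).mul_left (C.sub _ huR)).eq
  · intro x hx
    obtain ⟨Dd, hD⟩ : ∃ Dd : ↥(Subgroup.centralizer ({t} : Set G)), (Dd : G) = d :=
      ⟨⟨d, Subgroup.mem_centralizer_singleton_iff.2 O.dcomm⟩, rfl⟩
    obtain ⟨T, hT⟩ : ∃ T : ↥(Subgroup.centralizer ({t} : Set G)), (T : G) = X.D.toM uN :=
      ⟨⟨_, Subgroup.mem_centralizer_singleton_iff.2 (C.sub _ huR)⟩, rfl⟩
    rw [show x = Dd * T from Subtype.ext (by rw [hx, Subgroup.coe_mul, hD, hT]), map_mul, O.dimg Dd hD,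
      (O.ker T).2 (hT ▸ huR), mul_one]
  · have hr := hphlt _ hrl
    have e := seqT_one hrel (hap (hap (hap hN (hsing hr)) hNi) (hsing (invM_lt hr))) arho
    simp only [List.map_append, List.prod_append, eN, eNi, e1' hr, e1' (invM_lt hr), MGens.toM_invM h hr] at e
    show d * X.D.toM uN * D'.toM Delta.dat0.rho = D'.toM Delta.dat0.rho * (d * X.D.toM uN)
    rw [hto _ hrl]
    exact eq_mul_of_mul_inv_eq (mul_inv_eq_one.1 e)
  · refine ⟨hok, Or.inl rfl, ?_, fun i hi => ?_, ?_, ?_, ?_⟩
    · have hr := hphlt _ hrl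
      have e := seqT_one hrel (hap (hap (hap hN (hsing hr)) hNi) (hsing (invM_lt hr))) arho
      simp only [List.map_append, List.prod_append, eN, eNi, e1' hr, e1' (invM_lt hr), MGens.toM_invM h hr] at e
      show d * X.D.toM uN * D'.toM Delta.dat0.rho = D'.toM Delta.dat0.rho * (d * X.D.toM uN)
      rw [hto _ hrl]
      exact eq_mul_of_mul_inv_eq (mul_inv_eq_one.1 e)
    · have hs := hphlt _ (HRel.sAt_lt i)
      have hs' := hphlt _ (HRel.sAt_lt (fget (Delta.dat0.cls.getD 0 0) i))
      have e := seqT_one hrel (hap (hap (hap hN (hsing hs)) hNi) (hsing (invM_lt hs')))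
        (List.all_eq_true.mp aconj i (List.mem_range.mpr hi))
      simp only [List.map_append, List.prod_append, eN, eNi, e1' hs, e1' (invM_lt hs'), MGens.toM_invM h hs'] at e
      show d * X.D.toM uN * D'.toM (sAt 0 i) * (d * X.D.toM uN)⁻¹ = D'.toM (sAt 0 (fget (Delta.dat0.cls.getD 0 0) i))
      rw [hto _ (HRel.sAt_lt i), hto _ (HRel.sAt_lt _)]
      exact mul_inv_eq_one.1 e
    · have e := seqT_one hrel (hap hN hN) a0
      simp only [List.map_append, List.prod_append, eN] at e
      rw [e]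
      show 1 = D'.toM (sAt 0 0)
      rw [cent_consts.2.1, MGens.toM_zero hok]
    · have hc := hphlt _ h1l
      have e := seqT_one hrel (hap (hap (hap hN (hsing hc)) hN) (hsing hc)) a1
      simp only [List.map_append, List.prod_append, eN, e1' hc] at e
      show d * X.D.toM uN * D'.toM Delta.dat0.c1 * (d * X.D.toM uN * D'.toM Delta.dat0.c1) = D'.toM (sAt 0 0)
      rw [cent_consts.2.1, MGens.toM_zero hok, hto _ h1l, ← e]
      group
    · have hc := hphlt _ h3l
      have hl : ∀ k ∈ (List.replicate 3 (dN ++ [phi Delta.dat0.c3])).flatten, k ≤ 10752 := by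
        simp only [List.replicate, List.flatten_cons, List.flatten_nil, List.append_nil]
        exact hap (hap hN (hsing hc)) (hap (hap hN (hsing hc)) (hap hN (hsing hc)))
      have e := seqT_one hrel hl a3
      simp only [List.replicate, List.flatten_cons, List.flatten_nil, List.append_nil, List.map_append,
        List.prod_append, eN, e1' hc] at e
      show d * X.D.toM uN * D'.toM Delta.dat0.c3 * (d * X.D.toM uN * D'.toM Delta.dat0.c3) *
        (d * X.D.toM uN * D'.toM Delta.dat0.c3) = D'.toM (sAt 0 0)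
      rw [cent_consts.2.1, MGens.toM_zero hok, hto _ h3l, ← e]
      group

end CfsgHSType
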