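import Cfsg.Agent.Lib.HSType.DeltaChecks
import Cfsg.Agent.Lib.AutL34Type.Engine

/-!
Maps packed in one number.
-/

set_option autoImplicit false

namespace CfsgHSType

open CfsgLib.CosetEnum (fld force)

theorem fget_lt (F i : ℕ) : fget F i < 64 := Nat.mod_lt _ (by norm_num)

theorem fget_lor (A B i : ℕ) : fget (Nat.lor A B) i = fget A i ||| fget B i := by
  show ((A ||| B) >>> (6 * i)) % 2 ^ 6 = (A >>> (6 * i)) % 2 ^ 6 ||| (B >>> (6 * i)) % 2 ^ 6
  rw [Nat.shiftRight_or_distrib, Nat.or_mod_two_pow]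

theorem fget_shift {v : ℕ} (hv : v < 64) (a i : ℕ) : fget (Nat.shiftLeft v (6 * a)) i = if a = i then v else 0 := by
  show ((v <<< (6 * a)) >>> (6 * i)) % 2 ^ 6 = _
  rcases Nat.lt_trichotomy a i with h | h | h
  · rw [if_neg (by omega), Nat.shiftLeft_eq, Nat.shiftRight_eq_div_pow,
      show 6 * i = 6 * a + 6 * (i - a) by omega, pow_add, Nat.mul_comm v,
      Nat.mul_div_mul_left _ _ (Nat.two_pow_pos _)]
    have : v < 2 ^ (6 * (i - a)) := hv.trans_le (by
      rw [show (64 : ℕ) = 2 ^ 6 by norm_num]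
      exact Nat.pow_le_pow_right (by norm_num) (by omega))
    rw [Nat.div_eq_of_lt this, Nat.zero_mod]
  · subst h
    rw [if_pos rfl, Nat.shiftLeft_eq, Nat.shiftRight_eq_div_pow, Nat.mul_div_cancel _ (Nat.two_pow_pos _),
      Nat.mod_eq_of_lt (by norm_num; exact hv)]
  · rw [if_neg (by omega), Nat.shiftLeft_eq, Nat.shiftRight_eq_div_pow,
      show 6 * a = 6 * i + 6 * (a - i) by omega, pow_add, ← mul_assoc, Nat.mul_comm v, Nat.mul_assoc,
      Nat.mul_div_cancel_left _ (Nat.two_pow_pos _)]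
    obtain ⟨k, hk⟩ : ∃ k, 6 * (a - i) = 6 + k := ⟨6 * (a - i) - 6, by omega⟩
    rw [hk, pow_add, ← mul_assoc, Nat.mul_comm v, Nat.mul_assoc, Nat.mul_mod_right]

theorem foldr_get {α : Type*} (key : α → ℕ) (g : α → ℕ) (hg : ∀ p, g p < 64) (φ : ℕ → ℕ) (hφ : ∀ i, φ i < 64) :
    ∀ l : List α, (∀ p ∈ l, g p = φ (key p)) → ∀ i, fget (l.foldr (fun p acc =>
      force (g p) fun v => Nat.lor acc (Nat.shiftLeft v (6 * key p))) 0) i =
        if ∃ p ∈ l, key p = i then φ i else 0 := by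
  intro l
  induction l with
  | nil => intro _ i; simp [fget, fld]
  | cons p l ih =>
    intro h i
    rw [List.foldr_cons, CfsgAutL34.Enum.force_eq, fget_lor, ih (fun q hq => h q (List.mem_cons_of_mem _ hq)),
      fget_shift (hg p)]
    by_cases hp : key p = i
    · rw [if_pos hp, h p List.mem_cons_self, hp]
      by_cases hl : ∃ q ∈ l, key q = i
      · rw [if_pos hl, if_pos ⟨p, List.mem_cons_self, hp⟩, Nat.or_self]
      · rw [if_neg hl, if_pos ⟨p, List.mem_cons_self, hp⟩, Nat.zero_or]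
    · rw [if_neg hp, Nat.or_zero]
      by_cases hl : ∃ q ∈ l, key q = i
      · obtain ⟨q, hq, e⟩ := hl
        rw [if_pos ⟨q, hq, e⟩, if_pos ⟨q, List.mem_cons_of_mem _ hq, e⟩]
      · rw [if_neg hl, if_neg]
        rintro ⟨q, hq, e⟩
        rcases List.mem_cons.1 hq with rfl | hq
        · exact hp e
        · exact hl ⟨q, hq, e⟩

theorem pack6_get {f : ℕ → ℕ} (hf : ∀ i, f i < 64) {i : ℕ} (hi : i < 64) :
    fget (pack6 (List.range 64) f) i = f i := by
  have := foldr_get id f hf f hf (List.range 64) (fun _ _ => rfl) i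
  rw [if_pos ⟨i, List.mem_range.2 hi, rfl⟩] at this
  exact this

theorem pack6_congr {f g : ℕ → ℕ} (h : ∀ i < 64, f i = g i) : pack6 (List.range 64) f = pack6 (List.range 64) g := by
  refine List.foldr_ext (fun a acc => _) _ _ ?_
  intro a ha b
  rw [h a (List.mem_range.1 ha)]

theorem comp6_get (F H : ℕ) {i : ℕ} (hi : i < 64) : fget (comp6 F H) i = fget F (fget H i) :=
  pack6_get (fun _ => fget_lt _ _) hi

theorem innF_get (D : Delta.Dat) (g : ℕ) {i : ℕ} (hi : i < 64) :
    fget (innF D g) i = mtI D (mtI D g i) (fget D.iv g) :=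
  pack6_get (f := fun j => mtI D (mtI D g j) (fget D.iv g)) (fun _ => fget_lt _ _) hi

end CfsgHSType
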