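import Cfsg.Agent.Lib.HSType.RPart
import Cfsg.Agent.Lib.HSType.Pack
import Cfsg.Agent.Lib.HSType.FivePts

/-!
An element over the fourth transposition and the automorphism of the core which it induces.
-/

set_option autoImplicit false
set_option maxRecDepth 10000

namespace CfsgHSType

open Cfsg
open CfsgLib.CosetEnum (force)
open Equiv

attribute [local irreducible] actV lmul linv lstep vadd vneg vsmul appM mulM invM sAt fget innF comp6 Delta.dat0 Delta.dat1 datOf coreCand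

variable {G : Type*} [Group G] [Finite G]

theorem tables_ok {k : ℕ} (hk : k < 2) : tablesOK k = true ∧ classesOK k = true := by
  interval_cases k
  · exact ⟨tables0, classes_ok.1⟩
  · exact ⟨tables1, classes_ok.2⟩

theorem search_ok {k : ℕ} (hk : k < 2) : search k = true := by
  interval_cases k
  · exact search0
  · exact search1.1

/-- A candidate core with an element over the fourth transposition. -/
structure Over {t : G} {R M : Subgroup G} (X : MData t R M) (k : ℕ) (d : G)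
    (q : ↥(Subgroup.centralizer ({t} : Set G)) →* Perm (Fin 5)) : Prop where
  klt : k < 2
  core : ∀ x < 10752, X.D.toM x ∈ R ↔ x ∈ coreCand.getD k []
  surj : Function.Surjective q
  ker : ∀ h : ↥(Subgroup.centralizer ({t} : Set G)), q h = 1 ↔ (h : G) ∈ R
  c1 : ∀ h : ↥(Subgroup.centralizer ({t} : Set G)), (h : G) = X.D.toM (datOf k).c1 → q h = sw 0
  c3 : ∀ h : ↥(Subgroup.centralizer ({t} : Set G)), (h : G) = X.D.toM (datOf k).c3 → q h = sw 2
  rho : ∀ h : ↥(Subgroup.centralizer ({t} : Set G)), (h : G) = X.D.toM (datOf k).rho → q h = sw 0 * sw 1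
  dcomm : d * t = t * d
  dimg : ∀ h : ↥(Subgroup.centralizer ({t} : Set G)), (h : G) = d → q h = sw 3
  drho : d * X.D.toM (datOf k).rho = X.D.toM (datOf k).rho * d

theorem exists_over {t : G} {R M : Subgroup G} (X : MData t R M) (C : CentData t R) :
    ∃ k d q, Over X k d q := by
  classical
  obtain ⟨S, hS, hcore⟩ := X.core_eq C
  obtain ⟨k, hk, rfl⟩ := List.getElem_of_mem hS
  have hk2 : k < 2 := core_lists.2.1 ▸ hk
  rw [← List.getD_eq_getElem (d := []) _ hk] at hcore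
  obtain ⟨-, hcls⟩ := tables_ok hk2
  simp only [classesOK, CfsgAutL34.Enum.force_eq, Bool.and_eq_true, List.all_eq_true, List.mem_cons, List.not_mem_nil,
    or_false, Nat.blt_eq, forall_eq_or_imp, forall_eq, Bool.not_eq_true'] at hcls
  obtain ⟨⟨⟨⟨⟨⟨⟨⟨⟨⟨⟨⟨⟨⟨⟨hrl, hrt⟩, ⟨h1l, h1t⟩, h3l, h3t⟩, hr3⟩, hn1⟩, hs1⟩, hs2⟩, hs3⟩, hn12⟩, hn23⟩, hs12⟩, hs23⟩,
    hn13⟩, hs13⟩, -⟩, hord⟩ := hcls
  set D := datOf k
  obtain ⟨q0, hq0, hker0⟩ := C.quot
  have hmemR : ∀ x < 10752, (coreCand.getD k []).contains x = true → X.D.toM x ∈ R := fun x hx h =>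
    (hcore x hx).2 (List.contains_iff_mem.1 h)
  have hnR : ∀ x < 10752, (coreCand.getD k []).contains x = false → X.D.toM x ∉ R := fun x hx h h' => by
    rw [List.contains_iff_mem.2 ((hcore x hx).1 h')] at h
    simp at h
  have hH : ∀ x < 10752, Nat.beq (mulM x tC) (mulM tC x) = true →
      X.D.toM x ∈ Subgroup.centralizer ({t} : Set G) := fun x hx h =>
    Subgroup.mem_centralizer_singleton_iff.2 (X.mem_cent C hx (Nat.eq_of_beq_eq_true h))
  obtain ⟨A, hA⟩ : ∃ A : ↥(Subgroup.centralizer ({t} : Set G)), (A : G) = X.D.toM D.c1 := ⟨⟨_, hH _ h1l h1t⟩, rfl⟩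
  obtain ⟨P, hP⟩ : ∃ P : ↥(Subgroup.centralizer ({t} : Set G)), (P : G) = X.D.toM D.rho := ⟨⟨_, hH _ hrl hrt⟩, rfl⟩
  obtain ⟨Cc, hC⟩ : ∃ Cc : ↥(Subgroup.centralizer ({t} : Set G)), (Cc : G) = X.D.toM D.c3 := ⟨⟨_, hH _ h3l h3t⟩, rfl⟩
  have h2l := mulM_lt h1l hrl
  obtain ⟨B, hB, hBAP⟩ : ∃ B : ↥(Subgroup.centralizer ({t} : Set G)), (B : G) = X.D.toM (mulM D.c1 D.rho) ∧ B = A * P :=
    ⟨A * P, by rw [Subgroup.coe_mul, hA, hP, ← MGens.toM_mul X.ok h1l hrl], rfl⟩
  have hm : ∀ {a b : ↥(Subgroup.centralizer ({t} : Set G))} {x y : ℕ}, x < 10752 → y < 10752 → (a : G) = X.D.toM x →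
      (b : G) = X.D.toM y → ((a * b : ↥(Subgroup.centralizer ({t} : Set G))) : G) = X.D.toM (mulM x y) := by
    intro a b x y hx hy ea eb
    rw [Subgroup.coe_mul, ea, eb, ← MGens.toM_mul X.ok hx hy]
  have one_of : ∀ {a : ↥(Subgroup.centralizer ({t} : Set G))} {x : ℕ}, x < 10752 → (a : G) = X.D.toM x →
      (coreCand.getD k []).contains x = true → q0 a = 1 := fun hx ea h => (hker0 _).2 (ea ▸ hmemR _ hx h)
  have ne_of : ∀ {a : ↥(Subgroup.centralizer ({t} : Set G))} {x : ℕ}, x < 10752 → (a : G) = X.D.toM x →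
      (coreCand.getD k []).contains x = false → q0 a ≠ 1 := fun hx ea h e => hnR _ hx h (ea ▸ (hker0 _).1 e)
  have pAB := hm h1l h2l hA hB
  have pBC := hm h2l h3l hB hC
  have hABl := mulM_lt h1l h2l
  have hBCl := mulM_lt h2l h3l
  have a2 : q0 A * q0 A = 1 := by rw [← map_mul]; exact one_of (mulM_lt h1l h1l) (hm h1l h1l hA hA) hs1
  have b2 : q0 B * q0 B = 1 := by rw [← map_mul]; exact one_of (mulM_lt h2l h2l) (hm h2l h2l hB hB) hs2
  have c2 : q0 Cc * q0 Cc = 1 := by rw [← map_mul]; exact one_of (mulM_lt h3l h3l) (hm h3l h3l hC hC) hs3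
  have hab3 : q0 A * q0 B * (q0 A * q0 B) * (q0 A * q0 B) = 1 := by
    rw [← map_mul, ← map_mul, ← map_mul, mul_assoc (A * B)]
    exact one_of (mulM_lt hABl (mulM_lt hABl hABl)) (hm hABl (mulM_lt hABl hABl) pAB (hm hABl hABl pAB pAB)) hs12
  have hbc3 : q0 B * q0 Cc * (q0 B * q0 Cc) * (q0 B * q0 Cc) = 1 := by
    rw [← map_mul, ← map_mul, ← map_mul, mul_assoc (B * Cc)]
    exact one_of (mulM_lt hBCl (mulM_lt hBCl hBCl)) (hm hBCl (mulM_lt hBCl hBCl) pBC (hm hBCl hBCl pBC pBC)) hs23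
  have hac : q0 A * q0 Cc = q0 Cc * q0 A := by
    rw [← map_mul, ← map_mul, ← mul_inv_eq_one, ← map_inv, ← map_mul]
    refine one_of (mulM_lt (mulM_lt h1l h3l) (invM_lt (mulM_lt h3l h1l))) ?_ hs13
    rw [Subgroup.coe_mul, hm h1l h3l hA hC, Subgroup.coe_inv, hm h3l h1l hC hA, ← MGens.toM_invM X.ok (mulM_lt h3l h1l),
      ← MGens.toM_mul X.ok (mulM_lt h1l h3l) (invM_lt (mulM_lt h3l h1l))]
  have hne : q0 A ≠ q0 Cc := fun e => by
    refine ne_of (mulM_lt h1l h3l) (hm h1l h3l hA hC) hn13 ?_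
    rw [map_mul, ← e, a2]
  obtain ⟨τ, t1, t2, t3⟩ := coxeter_std (q0 A) a2 (ne_of h1l hA hn1) (q0 B) b2
    (by rw [← map_mul]; exact ne_of hABl pAB hn12) hab3 (q0 Cc) c2
    (by rw [← map_mul]; exact ne_of hBCl pBC hn23) hbc3 hac hne
  obtain ⟨q, hq⟩ : ∃ q : ↥(Subgroup.centralizer ({t} : Set G)) →* Perm (Fin 5), q = (MulAut.conj τ).toMonoidHom.comp q0 :=
    ⟨_, rfl⟩
  have hqa : ∀ h, q h = τ * q0 h * τ⁻¹ := fun h => by rw [hq]; rfl
  have hqs : Function.Surjective q := hq ▸ (MulAut.conj τ).surjective.comp hq0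
  have hqk : ∀ h, q h = 1 ↔ (h : G) ∈ R := fun h => by rw [hqa, conj_eq_one_iff, hker0]
  have qA : q A = sw 0 := by rw [hqa, t1, mul_inv_cancel_right]
  have qB : q B = sw 1 := by rw [hqa, t2, mul_inv_cancel_right]
  have qC : q Cc = sw 2 := by rw [hqa, t3, mul_inv_cancel_right]
  have qP : q P = sw 0 * sw 1 := by
    rw [← qA, ← qB, ← map_mul, hBAP, ← mul_assoc, map_mul _ (A * A) P, map_mul, qA, sw_facts.1, one_mul]
  -- commuting with the element of order three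
  obtain ⟨d0, hd0⟩ := hqs (sw 3)
  obtain ⟨P', hP'⟩ : ∃ P', P' = d0 * P * d0⁻¹ := ⟨_, rfl⟩
  have hr : (P⁻¹ * P' : ↥(Subgroup.centralizer ({t} : Set G))).1 ∈ R := by
    rw [← hqk, map_mul, map_inv, hP', map_mul, map_mul, map_inv, hd0, qP]
    obtain ⟨-, -, e33, e03, e13, -⟩ := sw_facts
    rw [show sw 3 * (sw 0 * sw 1) = sw 0 * sw 1 * sw 3 by rw [← mul_assoc, ← e03, mul_assoc, ← e13, mul_assoc]]
    group
  obtain ⟨s, hs, es⟩ := (X.range _).1 (X.le hr)
  have hsS : s ∈ coreCand.getD k [] := (hcore s hs).1 (es ▸ hr)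
  have hx := mulM_lt hrl hs
  have eP' : (P' : G) = X.D.toM (mulM D.rho s) := by
    rw [MGens.toM_mul X.ok hrl hs, es, ← hP, ← Subgroup.coe_mul, mul_inv_cancel_left]
  have h3 : Nat.beq (mulM (mulM D.rho s) (mulM (mulM D.rho s) (mulM D.rho s))) 0 = true := by
    have e : mulM (mulM D.rho s) (mulM (mulM D.rho s) (mulM D.rho s)) = 0 := by
      refine X.inj _ (mulM_lt hx (mulM_lt hx hx)) 0 (by norm_num) ?_
      rw [MGens.toM_mul X.ok hx (mulM_lt hx hx), MGens.toM_mul X.ok hx hx, ← eP', MGens.toM_zero X.ok, hP',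
        Subgroup.coe_mul, Subgroup.coe_mul, Subgroup.coe_inv, hP]
      have er : X.D.toM D.rho * (X.D.toM D.rho * X.D.toM D.rho) = 1 := by
        rw [← MGens.toM_mul X.ok hrl hrl, ← MGens.toM_mul X.ok hrl (mulM_lt hrl hrl), Nat.eq_of_beq_eq_true hr3,
          MGens.toM_zero X.ok]
      calc (d0 : G) * X.D.toM D.rho * (d0 : G)⁻¹ * ((d0 : G) * X.D.toM D.rho * (d0 : G)⁻¹ *
            ((d0 : G) * X.D.toM D.rho * (d0 : G)⁻¹))
          = d0 * (X.D.toM D.rho * (X.D.toM D.rho * X.D.toM D.rho)) * (d0 : G)⁻¹ := by group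
        _ = 1 := by rw [er]; group
    rw [e]; rfl
  have hord' := hord s hsS
  rw [h3] at hord'
  simp only [Bool.not_true, Bool.false_or, List.any_eq_true] at hord'
  obtain ⟨g, hg, eg⟩ := hord'
  have hglt : g < 10752 := by
    have h1 := List.all_eq_true.mp core_lists.1 (coreCand.getD k []) (by
      rw [List.getD_eq_getElem _ _ hk]; exact List.getElem_mem hk)
    simp only [Bool.and_eq_true, List.all_eq_true, Nat.blt_eq] at h1
    exact h1.2 g hg
  obtain ⟨T, hT, qT⟩ : ∃ T : ↥(Subgroup.centralizer ({t} : Set G)), (T : G) = X.D.toM g ∧ q T = 1 :=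
    ⟨⟨X.D.toM g, Subgroup.mem_centralizer_singleton_iff.2 (C.sub _ ((hcore g hglt).2 hg))⟩, rfl,
      (hqk _).2 ((hcore g hglt).2 hg)⟩
  have eT : (T : G) * P * (T : G)⁻¹ = P' := by
    rw [hT, hP, ← MGens.toM_cjM X.ok hglt hrl, Nat.eq_of_beq_eq_true eg, eP']
  refine ⟨k, ((T⁻¹ * d0 : ↥(Subgroup.centralizer ({t} : Set G))) : G), q, hk2, hcore, hqs, hqk, ?_, ?_, ?_, ?_, ?_, ?_⟩
  · intro h e; rw [show h = A from Subtype.ext (e.trans hA.symm), qA]
  · intro h e; rw [show h = Cc from Subtype.ext (e.trans hC.symm), qC]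
  · intro h e; rw [show h = P from Subtype.ext (e.trans hP.symm), qP]
  · exact Subgroup.mem_centralizer_singleton_iff.1 (T⁻¹ * d0).2
  · intro h e; rw [show h = T⁻¹ * d0 from Subtype.ext e, map_mul, map_inv, qT, hd0, inv_one, one_mul]
  · rw [Subgroup.coe_mul, Subgroup.coe_inv, ← hP]
    have e : (d0 : G) * P * (d0 : G)⁻¹ = T * P * (T : G)⁻¹ := by rw [eT, hP']; rfl
    calc (T : G)⁻¹ * d0 * P = (T : G)⁻¹ * (d0 * P * (d0 : G)⁻¹) * d0 := by group
      _ = P * ((T : G)⁻¹ * d0) := by rw [e]; group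

namespace Over

variable {t : G} {R M : Subgroup G} {X : MData t R M} {k : ℕ} {d : G}
  {q : ↥(Subgroup.centralizer ({t} : Set G)) →* Perm (Fin 5)} (O : Over X k d q)
include O

/-- The element of an index. -/
theorem idx {i : ℕ} (hi : i < 64) : sAt k i < 10752 ∧ X.D.toM (sAt k i) ∈ R := by
  have hk : k < coreCand.length := core_lists.2.1 ▸ O.klt
  have hS := List.all_eq_true.mp core_lists.1 (coreCand.getD k []) (by
    rw [List.getD_eq_getElem _ _ hk]; exact List.getElem_mem hk)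
  simp only [Bool.and_eq_true, List.all_eq_true, Nat.blt_eq] at hS
  have hi' : i < (coreCand.getD k []).length := by rw [Nat.eq_of_beq_eq_true hS.1.1]; exact hi
  have hmem : sAt k i ∈ coreCand.getD k [] := by
    unfold sAt
    rw [List.getD_eq_getElem _ _ hi']; exact List.getElem_mem hi'
  exact ⟨hS.2 _ hmem, (O.core _ (hS.2 _ hmem)).2 hmem⟩

theorem idx_inj {i j : ℕ} (hi : i < 64) (hj : j < 64) (e : X.D.toM (sAt k i) = X.D.toM (sAt k j)) : i = j := by
  have e2 := X.inj _ (O.idx hi).1 _ (O.idx hj).1 e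
  have hk : k < coreCand.length := core_lists.2.1 ▸ O.klt
  have hS := List.all_eq_true.mp core_lists.1 (coreCand.getD k []) (by
    rw [List.getD_eq_getElem _ _ hk]; exact List.getElem_mem hk)
  simp only [Bool.and_eq_true, decide_eq_true_eq] at hS
  have hl := Nat.eq_of_beq_eq_true hS.1.1
  unfold sAt at e2
  have hil : i < (coreCand.getD k []).length := hl.symm ▸ hi
  have hjl : j < (coreCand.getD k []).length := hl.symm ▸ hj
  generalize coreCand.getD k [] = L at *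
  rw [List.getD_eq_getElem _ _ hil, List.getD_eq_getElem _ _ hjl] at e2
  exact (List.Nodup.getElem_inj_iff hS.1.2).1 e2

theorem idx_surj {r : G} (hr : r ∈ R) : ∃ i < 64, X.D.toM (sAt k i) = r := by
  have hk : k < coreCand.length := core_lists.2.1 ▸ O.klt
  have hS := List.all_eq_true.mp core_lists.1 (coreCand.getD k []) (by
    rw [List.getD_eq_getElem _ _ hk]; exact List.getElem_mem hk)
  simp only [Bool.and_eq_true] at hS
  obtain ⟨x, hx, rfl⟩ := (X.range _).1 (X.le hr)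
  obtain ⟨i, hi, e⟩ := List.getElem_of_mem ((O.core x hx).1 hr)
  refine ⟨i, Nat.eq_of_beq_eq_true hS.1.1 ▸ hi, ?_⟩
  unfold sAt
  rw [List.getD_eq_getElem _ _ hi, e]

end Over

end CfsgHSType
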