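import Cfsg.Agent.Lib.HSType.Calc

/-!
The consistent keys and their normalisation.
-/

set_option autoImplicit false
set_option maxRecDepth 100000
set_option maxHeartbeats 4000000
set_option Elab.async false

namespace CfsgHSType

/-- The central elements of the core, as indices. -/
def centI : List ℕ := [0, 4, 9, 13]

/-- The inner maps as a list. -/
noncomputable def innList : List (ℕ × ℕ) := (List.range 64).map fun g => (g, innF Delta.dat0 g)

/-- The candidates for a key, given the map. -/
noncomputable def keyCands (di : ℕ) : List Key :=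
  let F := Delta.dat0.cls.getD di 0
  let fib := fun H => ((List.range 64).filter fun g => Nat.beq (innF Delta.dat0 g) H)
  let H1 := comp6 F Delta.dat0.p1
  let H3 := comp6 F Delta.dat0.p3
  (fib (comp6 F F)).flatMap fun a => (fib (comp6 H1 H1)).flatMap fun b =>
    (fib (comp6 H3 (comp6 H3 H3))).map fun c => ⟨di, a, b, c⟩

/-- The index of a code in the core. -/
noncomputable def idx0 (r : Option (ℕ × ℕ)) : ℕ :=
  match r with
  | some (0, x) => (coreCand.getD 0 []).idxOf x
  | _ => 64

/-- The key after changing the fifth generator by a central element. -/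
noncomputable def shiftKey (K : Key) (w : List ℕ) : Key :=
  ⟨K.di, idx0 (K.ev ([6] ++ w ++ [6] ++ w) (0, 0)),
    idx0 (K.ev ([6] ++ w ++ [2, 4, 2, 5, 2] ++ [6] ++ w ++ [2, 4, 2, 5, 2]) (0, 0)),
    idx0 (K.ev (List.replicate 3 ([6] ++ w ++ [0, 4, 2, 5])).flatten (0, 0))⟩

/-- Words of the central elements of the core. -/
def centW : List (List ℕ) := [[], [5, 2, 0, 2, 4], [0, 0, 2, 0, 0, 2], [5, 2, 1, 2, 4]]

theorem cent_words : centI.map (sAt 0) = centW.map evM ∧
    (centI.all fun z => Nat.beq (fget Delta.dat0.rp z) z && (List.range 64).all fun i =>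
      Nat.beq (mtI Delta.dat0 z i) (mtI Delta.dat0 i z)) = true ∧
    evM [2, 4, 2, 5, 2] = Delta.dat0.c1 ∧ evM [0, 4, 2, 5] = Delta.dat0.c3 := by decide +kernel

theorem keys_norm : ([0, 1].all fun di => (keyCands di).all fun K =>
    !K.consistent || centW.any fun w => decide (shiftKey K w = ⟨di, 0, 0, 0⟩)) = true := by decide +kernel

end CfsgHSType
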