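import Cfsg.Agent.Lib.HSType.Delta
import Cfsg.Agent.Lib.HSType.CalcSound
import Cfsg.Agent.Lib.HSType.KeyChecks

/-!
The states are distinct; the fifth generator satisfies one of two systems of relations.
-/

set_option autoImplicit false
set_option maxRecDepth 10000

namespace CfsgHSType

open Cfsg
open Equiv
open CfsgAutL34.Enum (evW letG)

attribute [local irreducible] actV lmul linv lstep vadd vneg vsmul appM mulM invM sAt uAt fget innF comp6 mtI mlet Delta.dat0 Delta.dat1 coreCand pack6 Dec.tab decAt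

variable {G : Type*} [Group G] [Finite G]

namespace Over

variable {t : G} {R M : Subgroup G} {X : MData t R M} {d : G}
  {q : ↥(Subgroup.centralizer ({t} : Set G)) →* Perm (Fin 5)} (O : Over X 0 d q) (C : CentData t R)
include O C

theorem mem_cent' {x : ℕ} (hx : x < 10752) (h : Nat.beq (mulM x tC) (mulM tC x) = true) :
    X.D.toM x ∈ Subgroup.centralizer ({t} : Set G) :=
  Subgroup.mem_centralizer_singleton_iff.2 (X.mem_cent C hx (Nat.eq_of_beq_eq_true h))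

theorem mult_img {j : ℕ} (hj : j < 5) : uAt j < 10752 ∧ ∃ h : ↥(Subgroup.centralizer ({t} : Set G)),
    (h : G) = X.D.toM (uAt j) ∧ q h = [1, 1, sw 2, sw 1 * sw 2, sw 0 * (sw 1 * sw 2)].getD j 1 := by
  obtain ⟨-, hu1, hu2, hu3, hu4, hu0⟩ := calc_maps
  obtain ⟨-, hc2l, -, -, -, -, -, hrl, h1l, h3l⟩ := calc_consts
  have hcc := List.all_eq_true.mp cent_consts.1
  obtain ⟨A, hA⟩ : ∃ h : ↥(Subgroup.centralizer ({t} : Set G)), (h : G) = X.D.toM Delta.dat0.c1 :=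
    ⟨⟨_, O.mem_cent' C h1l (hcc _ (by simp))⟩, rfl⟩
  obtain ⟨P, hP⟩ : ∃ h : ↥(Subgroup.centralizer ({t} : Set G)), (h : G) = X.D.toM Delta.dat0.rho :=
    ⟨⟨_, O.mem_cent' C hrl (hcc _ (by simp))⟩, rfl⟩
  obtain ⟨Cc, hC⟩ : ∃ h : ↥(Subgroup.centralizer ({t} : Set G)), (h : G) = X.D.toM Delta.dat0.c3 :=
    ⟨⟨_, O.mem_cent' C h3l (hcc _ (by simp))⟩, rfl⟩
  have qA : q A = sw 0 := O.c1 A hA
  have qC : q Cc = sw 2 := O.c3 Cc hC
  have qP : q P = sw 0 * sw 1 := O.rho P hP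
  have hB : ((A * P : ↥(Subgroup.centralizer ({t} : Set G))) : G) = X.D.toM c2C := by
    rw [Subgroup.coe_mul, hA, hP, c2C, MGens.toM_mul X.ok h1l hrl]
  have qB : q (A * P) = sw 1 := by rw [map_mul, qA, qP, ← mul_assoc, sw_facts.1, one_mul]
  refine ⟨HRel.uAt_lt j, ?_⟩
  interval_cases j
  · exact ⟨1, by rw [hu0, MGens.toM_zero X.ok]; rfl, by simp⟩
  · exact ⟨1, by rw [hu1, MGens.toM_zero X.ok]; rfl, by simp⟩
  · exact ⟨Cc, by rw [hu2, hC], by simp [qC]⟩
  · refine ⟨A * P * Cc, ?_, by simp only [map_mul] at qB ⊢; simp [qB, qC]⟩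
    rw [Subgroup.coe_mul, hB, hC, hu3, MGens.toM_mul X.ok hc2l h3l]
  · refine ⟨A * (A * P * Cc), ?_, by rw [map_mul, map_mul _ (A * P), qB, qA, qC]; simp⟩
    rw [Subgroup.coe_mul, Subgroup.coe_mul _ (A * P), hB, hA, hC, hu4, MGens.toM_mul X.ok h1l (mulM_lt hc2l h3l),
      MGens.toM_mul X.ok hc2l h3l]

theorem fix_four {x : ℕ} (hx : x < 10752) (h : Nat.beq (mulM x tC) (mulM tC x) = true)
    (hh : ↥(Subgroup.centralizer ({t} : Set G))) (eh : (hh : G) = X.D.toM x) : q hh 4 = 4 := by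
  obtain ⟨-, -, -, -, -, -, -, hrl, h1l, -⟩ := calc_consts
  have hcc := List.all_eq_true.mp cent_consts.1
  have hd := List.all_eq_true.mp dec_total x (List.mem_range.mpr hx)
  rw [h] at hd
  simp only [Bool.not_true, Bool.false_or, CfsgAutL34.Enum.force_eq, Bool.and_eq_true, Nat.blt_eq] at hd
  obtain ⟨⟨⟨hj, hw⟩, hr⟩, e⟩ := hd
  obtain ⟨-, U, hU, qU⟩ := O.mult_img C hj
  obtain ⟨Sx, hS⟩ : ∃ h : ↥(Subgroup.centralizer ({t} : Set G)), (h : G) = X.D.toM (sAt 0 (decAt x / 64)) :=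
    ⟨⟨_, Subgroup.mem_centralizer_singleton_iff.2 (C.sub _ (O.idx hr).2)⟩, rfl⟩
  have qS : q Sx = 1 := (O.ker Sx).2 (hS ▸ (O.idx hr).2)
  obtain ⟨A, hA⟩ : ∃ h : ↥(Subgroup.centralizer ({t} : Set G)), (h : G) = X.D.toM Delta.dat0.c1 :=
    ⟨⟨_, O.mem_cent' C h1l (hcc _ (by simp))⟩, rfl⟩
  obtain ⟨P, hP⟩ : ∃ h : ↥(Subgroup.centralizer ({t} : Set G)), (h : G) = X.D.toM Delta.dat0.rho :=
    ⟨⟨_, O.mem_cent' C hrl (hcc _ (by simp))⟩, rfl⟩
  have qA : q A = sw 0 := O.c1 A hA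
  have qP : q P = sw 0 * sw 1 := O.rho P hP
  obtain ⟨-, -, -, -, -, -, -, -, f0, f1, f2⟩ := sw_facts
  have hqP : q P 4 = 4 := by rw [qP, Perm.mul_apply, f1, f0]
  have hqA : q A 4 = 4 := by rw [qA, f0]
  obtain ⟨W, hW, qW⟩ : ∃ W : ↥(Subgroup.centralizer ({t} : Set G)),
      (W : G) = X.D.toM ((sixP Delta.dat0.c1).getD (decAt x / 8 % 8) 0) ∧ q W 4 = 4 := by
    generalize decAt x / 8 % 8 = w at hw
    interval_cases w <;> simp only [sixP, List.getD_cons_zero, List.getD_cons_succ]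
    · exact ⟨1, by rw [MGens.toM_zero X.ok]; rfl, by simp⟩
    · exact ⟨A, hA, hqA⟩
    · exact ⟨P, hP, hqP⟩
    · exact ⟨P * A, by rw [Subgroup.coe_mul, hA, hP, MGens.toM_mul X.ok hrl h1l],
        by rw [map_mul, Perm.mul_apply, hqA, hqP]⟩
    · exact ⟨P * P, by rw [Subgroup.coe_mul, hP, MGens.toM_mul X.ok hrl hrl], by rw [map_mul, Perm.mul_apply, hqP, hqP]⟩
    · exact ⟨P * P * A, by rw [Subgroup.coe_mul, Subgroup.coe_mul, hA, hP, MGens.toM_mul X.ok (mulM_lt hrl hrl) h1l,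
        MGens.toM_mul X.ok hrl hrl], by rw [map_mul, map_mul, Perm.mul_apply, Perm.mul_apply, hqA, hqP, hqP]⟩
  have hl6 := HRel.six_lt h1l (decAt x / 8 % 8)
  have ex : hh = U * (Sx * W) := Subtype.ext (by
    rw [eh, ← Nat.eq_of_beq_eq_true e, MGens.toM_mul X.ok (HRel.uAt_lt _) (mulM_lt (HRel.sAt_lt _) hl6),
      MGens.toM_mul X.ok (HRel.sAt_lt _) hl6, Subgroup.coe_mul, Subgroup.coe_mul, hU, hS, hW])
  rw [ex, map_mul, map_mul, qS, one_mul, Perm.mul_apply, qW, qU]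
  generalize decAt x % 8 = j at hj
  interval_cases j <;> simp [f0, f1, f2]

/-- The coset of a state. -/
theorem state_mem {st : ℕ × ℕ} (hst : HRel.Good st) (h : HRel.val X.D d st * t = t * HRel.val X.D d st) :
    Nat.beq (mulM st.2 tC) (mulM tC st.2) = true ∧ ∀ hh : ↥(Subgroup.centralizer ({t} : Set G)),
      (hh : G) = HRel.val X.D d st → (q hh 4 : ℕ) = 4 - st.1 := by
  obtain ⟨i, x⟩ := st
  obtain ⟨hi, hx⟩ := hst
  obtain ⟨-, U, hU, qU⟩ := O.mult_img C hi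
  obtain ⟨Dd, hD⟩ : ∃ Dd : ↥(Subgroup.centralizer ({t} : Set G)), (Dd : G) = d :=
    ⟨⟨d, Subgroup.mem_centralizer_singleton_iff.2 O.dcomm⟩, rfl⟩
  obtain ⟨Rp, hRp, qRp⟩ : ∃ Rp : ↥(Subgroup.centralizer ({t} : Set G)), (Rp : G) = HRel.rep X.D d i ∧
      (q Rp 4 : ℕ) = 4 - i := by
    have qD := O.dimg Dd hD
    obtain ⟨m0, m3, m2, m1, m00⟩ := sw_moves
    interval_cases i
    · exact ⟨1, by simp [HRel.rep], by simp⟩
    all_goals refine ⟨U * Dd, by simp [HRel.rep, hU, hD], ?_⟩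
    all_goals rw [map_mul, Perm.mul_apply, qU, qD]
    · simp [m3]
    · simp [m2]
    · simp [Perm.mul_apply, m1]
    · simp [Perm.mul_apply, m00]
  have hv : HRel.val X.D d (i, x) = (Rp : G) * X.D.toM x := by rw [hRp]; rfl
  have hxc : X.D.toM x * t = t * X.D.toM x := by
    have hm : (Rp : G)⁻¹ * HRel.val X.D d (i, x) ∈ Subgroup.centralizer ({t} : Set G) :=
      Subgroup.mul_mem _ (Subgroup.inv_mem _ Rp.2) (Subgroup.mem_centralizer_singleton_iff.2 h)
    rw [hv, inv_mul_cancel_left] at hm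
    exact Subgroup.mem_centralizer_singleton_iff.1 hm
  have hb : Nat.beq (mulM x tC) (mulM tC x) = true := by
    have e : mulM x tC = mulM tC x := X.inj _ (mulM_lt hx (by norm_num [CfsgHSType.tC])) _
      (mulM_lt (by norm_num [CfsgHSType.tC]) hx) (by
        rw [MGens.toM_mul X.ok hx (by norm_num [CfsgHSType.tC]), MGens.toM_mul X.ok (by norm_num [CfsgHSType.tC]) hx]
        have ht : X.D.toM CfsgHSType.tC = t := X.hTC
        rw [ht, hxc])
    rw [e, Nat.beq_refl]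
  refine ⟨hb, fun hh ehh => ?_⟩
  obtain ⟨Xx, hXx⟩ : ∃ Xx : ↥(Subgroup.centralizer ({t} : Set G)), (Xx : G) = X.D.toM x :=
    ⟨⟨_, Subgroup.mem_centralizer_singleton_iff.2 hxc⟩, rfl⟩
  have e : hh = Rp * Xx := Subtype.ext (by rw [ehh, hv, Subgroup.coe_mul, hXx])
  rw [e, map_mul, Perm.mul_apply, O.fix_four C hx hb Xx hXx, qRp]

theorem state_inj {s1 s2 : ℕ × ℕ} (h1 : HRel.Good s1) (h2 : HRel.Good s2)
    (hc : HRel.val X.D d s1 * t = t * HRel.val X.D d s1) (e : HRel.val X.D d s1 = HRel.val X.D d s2) : s1 = s2 := by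
  obtain ⟨H, hH⟩ : ∃ H : ↥(Subgroup.centralizer ({t} : Set G)), (H : G) = HRel.val X.D d s1 :=
    ⟨⟨_, Subgroup.mem_centralizer_singleton_iff.2 hc⟩, rfl⟩
  have a := (O.state_mem C h1 hc).2 H hH
  have b := (O.state_mem C h2 (by rw [← e]; exact hc)).2 H (hH.trans e)
  rw [a] at b
  obtain ⟨i, x⟩ := s1
  obtain ⟨j, y⟩ := s2
  obtain ⟨hi, hx⟩ := h1
  obtain ⟨hj, hy⟩ := h2
  dsimp only at *
  obtain rfl : i = j := by omega
  simp only [HRel.val] at e
  rw [Prod.mk.injEq]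
  exact ⟨rfl, X.inj x hx y hy (mul_left_cancel e)⟩

end Over

/-- The fifth generator with the relations of a key of zeros. -/
theorem exists_key {t : G} {R M : Subgroup G} (X : MData t R M) (C : CentData t R) :
    ∃ d q di, Over X 0 d q ∧ HRel X.D d ⟨di, 0, 0, 0⟩ := by
  classical
  obtain ⟨d, q, O, di, hdi, hconj⟩ := exists_delta X C
  have hdi' : di ∈ [0, 1] := by rcases hdi with rfl | rfl <;> simp
  obtain ⟨htab, -⟩ := tables_ok (k := 0) (by norm_num)
  simp only [tablesOK, Bool.and_eq_true] at htab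
  obtain ⟨⟨⟨⟨⟨⟨⟨⟨hmt, hact⟩, -⟩, -⟩, -⟩, -⟩, -⟩, -⟩, -⟩ := htab
  obtain ⟨-, hc2l, -, -, -, -, -, hrl, h1l, h3l⟩ := calc_consts
  have hdat : datOf 0 = Delta.dat0 := rfl
  have hget : ∀ i, (coreCand.getD 0 []).getD i 0 = sAt 0 i := fun i => by with_unfolding_all rfl
  have elt : ∀ i, sAt 0 i < 10752 := HRel.sAt_lt
  have emul : ∀ {a b}, a < 64 → b < 64 → mtI Delta.dat0 a b < 64 ∧
      sE X.D (mtI Delta.dat0 a b) = sE X.D a * sE X.D b := by
    intro a b ha hb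
    have h := List.all_eq_true.mp (List.all_eq_true.mp hmt a (List.mem_range.mpr ha)) b (List.mem_range.mpr hb)
    simp only [Bool.and_eq_true, Nat.blt_eq, hget, hdat] at h
    refine ⟨h.2, ?_⟩
    simp only [sE]
    rw [← Nat.eq_of_beq_eq_true h.1, MGens.toM_mul X.ok (elt a) (elt b)]
  have econj : ∀ {i}, i < 64 → sE X.D (fget Delta.dat0.iv i) = (sE X.D i)⁻¹ ∧
      sE X.D (fget Delta.dat0.p1 i) = X.D.toM Delta.dat0.c1 * sE X.D i * (X.D.toM Delta.dat0.c1)⁻¹ ∧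
      sE X.D (fget Delta.dat0.p3 i) = X.D.toM Delta.dat0.c3 * sE X.D i * (X.D.toM Delta.dat0.c3)⁻¹ := by
    intro i hi
    have h := List.all_eq_true.mp hact i (List.mem_range.mpr hi)
    simp only [Bool.and_eq_true, hget, hdat] at h
    simp only [sE]
    rw [← Nat.eq_of_beq_eq_true h.1.1.1, ← Nat.eq_of_beq_eq_true h.1.2, ← Nat.eq_of_beq_eq_true h.2,
      MGens.toM_invM X.ok (elt i), MGens.toM_cjM X.ok h1l (elt i), MGens.toM_cjM X.ok h3l (elt i)]
    exact ⟨rfl, rfl, rfl⟩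
  obtain ⟨F, hF⟩ : ∃ F, F = Delta.dat0.cls.getD di 0 := ⟨_, rfl⟩
  have hcF : ∀ i < 64, sE X.D (fget F i) = d * sE X.D i * d⁻¹ := fun i hi => by
    rw [hF, sE, sE]; exact (hconj i hi).symm
  obtain ⟨Dd, hD⟩ : ∃ Dd : ↥(Subgroup.centralizer ({t} : Set G)), (Dd : G) = d :=
    ⟨⟨d, Subgroup.mem_centralizer_singleton_iff.2 O.dcomm⟩, rfl⟩
  have hcc := List.all_eq_true.mp cent_consts.1
  obtain ⟨A, hA⟩ : ∃ h : ↥(Subgroup.centralizer ({t} : Set G)), (h : G) = X.D.toM Delta.dat0.c1 :=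
    ⟨⟨_, O.mem_cent' C h1l (hcc _ (by simp))⟩, rfl⟩
  obtain ⟨Cc, hC⟩ : ∃ h : ↥(Subgroup.centralizer ({t} : Set G)), (h : G) = X.D.toM Delta.dat0.c3 :=
    ⟨⟨_, O.mem_cent' C h3l (hcc _ (by simp))⟩, rfl⟩
  have qA : q A = sw 0 := O.c1 A hA
  have qC : q Cc = sw 2 := O.c3 Cc hC
  have qD := O.dimg Dd hD
  have hsw := sw_facts
  have hfib : ∀ (h : ↥(Subgroup.centralizer ({t} : Set G))) (Hm : ℕ → ℕ), q h = 1 →
      (∀ i < 64, Hm i < 64 ∧ sE X.D (Hm i) = (h : G) * sE X.D i * (h : G)⁻¹) →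
      ∃ r < 64, sE X.D r = h ∧
        r ∈ (List.range 64).filter (fun g => Nat.beq (innF Delta.dat0 g) (pack6 (List.range 64) Hm)) := by
    intro h Hm hq hH
    obtain ⟨r, hr, er⟩ := O.idx_surj ((O.ker h).1 hq)
    refine ⟨r, hr, er, List.mem_filter.2 ⟨List.mem_range.2 hr, ?_⟩⟩
    have e : innF Delta.dat0 r = pack6 (List.range 64) Hm := by
      with_unfolding_all
        refine pack6_congr fun i hi => ?_
        refine O.idx_inj (emul (emul hr hi).1 (fget_lt _ _)).1 (hH i hi).1 ?_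
        show sE X.D _ = sE X.D _
        rw [(hH i hi).2, (emul (emul hr hi).1 (fget_lt _ _)).2, (emul hr hi).2, (econj hr).1]
        rw [show sE X.D r = (h : G) from er]
    rw [e, Nat.beq_refl]
  have hcomp : ∀ p c, (∀ i < 64, sE X.D (fget p i) = X.D.toM c * sE X.D i * (X.D.toM c)⁻¹) → ∀ i < 64,
      sE X.D (fget (comp6 F p) i) = (d * X.D.toM c) * sE X.D i * (d * X.D.toM c)⁻¹ := fun p c hp i hi => by
    rw [comp6_get F p hi, hcF _ (fget_lt _ _), hp i hi]; group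
  obtain ⟨a, ha, ea, hfa⟩ := hfib (Dd * Dd) (fun i => fget F (fget F i)) (by rw [map_mul, qD, hsw.2.2.1])
    (fun i hi => ⟨fget_lt _ _, by rw [hcF _ (fget_lt _ _), hcF i hi, Subgroup.coe_mul, hD]; group⟩)
  obtain ⟨b, hb, eb, hfb⟩ := hfib (Dd * A * (Dd * A))
    (fun i => fget (comp6 F Delta.dat0.p1) (fget (comp6 F Delta.dat0.p1) i)) (by
      simp only [map_mul, qD, qA]
      calc sw 3 * sw 0 * (sw 3 * sw 0) = (sw 3 * sw 0) * (sw 0 * sw 3) := by rw [hsw.2.2.2.1]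
        _ = sw 3 * (sw 0 * sw 0) * sw 3 := by simp only [mul_assoc]
        _ = 1 := by rw [hsw.1, mul_one, hsw.2.2.1])
    (fun i hi => ⟨fget_lt _ _, by
      have h := hcomp _ _ (fun i hi => (econj hi).2.1)
      rw [h _ (fget_lt _ _), h i hi]; simp only [Subgroup.coe_mul, hD, hA]; group⟩)
  obtain ⟨c, hc, ec, hfc⟩ := hfib (Dd * Cc * (Dd * Cc) * (Dd * Cc))
    (fun i => fget (comp6 F Delta.dat0.p3) (fget (comp6 (comp6 F Delta.dat0.p3) (comp6 F Delta.dat0.p3)) i)) (by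
      simp only [map_mul, qD, qC]; exact hsw.2.2.2.2.2.1)
    (fun i hi => ⟨fget_lt _ _, by
      have h := hcomp _ _ (fun i hi => (econj hi).2.2)
      rw [comp6_get _ _ hi, h _ (fget_lt _ _), h _ (fget_lt _ _), h i hi]
      simp only [Subgroup.coe_mul, hD, hC]; group⟩)
  obtain ⟨K, hK⟩ : ∃ K : Key, K = ⟨di, a, b, c⟩ := ⟨_, rfl⟩
  have hdF : K.dF = F := by rw [hK, hF]; rfl
  have h : HRel X.D d K := by
    refine ⟨X.ok, by rw [hK]; exact hdi, O.drho, fun i hi => by rw [hdF]; exact (hcF i hi).symm, ?_, ?_, ?_⟩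
    · rw [hK, ea, Subgroup.coe_mul, hD]
    · rw [hK, eb]; simp only [Subgroup.coe_mul, hD, hA]
    · rw [hK, ec]; simp only [Subgroup.coe_mul, hD, hC]
  have hmem : K ∈ keyCands di := by
    simp only [keyCands, List.mem_flatMap, List.mem_map]
    refine ⟨a, ?_, b, ?_, c, ?_, hK.symm⟩
    all_goals rw [← hF]
    · with_unfolding_all exact hfa
    · with_unfolding_all exact hfb
    · with_unfolding_all exact hfc
  have hcons : K.consistent = true := by
    have hag : ∀ {o1 o2 : Option (ℕ × ℕ)} (g : G), g * t = t * g →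
        (∀ s, o1 = some s → HRel.Good s ∧ HRel.val X.D d s = g) →
        (∀ s, o2 = some s → HRel.Good s ∧ HRel.val X.D d s = g) → Key.agree o1 o2 = true := by
      intro o1 o2 g hg h1 h2
      cases o1 with
      | none => rfl
      | some s1 =>
        cases o2 with
        | none => rfl
        | some s2 =>
          obtain ⟨g1, v1⟩ := h1 s1 rfl
          obtain ⟨g2, v2⟩ := h2 s2 rfl
          have := O.state_inj C g1 g2 (by rw [v1]; exact hg) (v1.trans v2.symm)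
          subst this
          simp [Key.agree]
    have stepP : ∀ {p} {o : Option (ℕ × ℕ)} {g : G}, p < 10752 →
        (∀ s, o = some s → HRel.Good s ∧ HRel.val X.D d s = g) →
        ∀ s, o.bind (K.pT p) = some s → HRel.Good s ∧ HRel.val X.D d s = X.D.toM p * g := by
      intro p o g hp ho s hs
      obtain ⟨s0, e0, e1⟩ := Option.bind_eq_some_iff.1 hs
      obtain ⟨g0, v0⟩ := ho s0 e0
      obtain ⟨g1, v1⟩ := h.pT_sound hp g0 e1
      exact ⟨g1, by rw [v1, v0]⟩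
    have stepD : ∀ {o : Option (ℕ × ℕ)} {g : G}, (∀ s, o = some s → HRel.Good s ∧ HRel.val X.D d s = g) →
        ∀ s, o.bind K.dT = some s → HRel.Good s ∧ HRel.val X.D d s = d * g := by
      intro o g ho s hs
      obtain ⟨s0, e0, e1⟩ := Option.bind_eq_some_iff.1 hs
      obtain ⟨g0, v0⟩ := ho s0 e0
      obtain ⟨g1, v1⟩ := h.dT_sound g0 e1
      exact ⟨g1, by rw [v1, v0]⟩
    simp only [Key.consistent, List.all_eq_true, List.mem_range, Bool.and_eq_true]
    intro i hi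
    have hg0 : HRel.Good (i, 0) := ⟨hi, by norm_num⟩
    obtain ⟨-, U, hU, -⟩ := O.mult_img C hi
    have hvT : HRel.val X.D d (i, 0) * t = t * HRel.val X.D d (i, 0) := by
      simp only [HRel.val, HRel.rep, MGens.toM_zero X.ok, mul_one]
      split
      · simp
      · rw [← hU]
        exact (Commute.mul_left (Subgroup.mem_centralizer_singleton_iff.1 U.2) O.dcomm).eq
    have hst : ∀ p, p < 10752 → ∀ s, K.pT p (i, 0) = some s →
        HRel.Good s ∧ HRel.val X.D d s = X.D.toM p * HRel.val X.D d (i, 0) := fun p hp s hs => h.pT_sound hp hg0 hs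
    have hdst : ∀ s, K.dT (i, 0) = some s → HRel.Good s ∧ HRel.val X.D d s = d * HRel.val X.D d (i, 0) :=
      fun s hs => h.dT_sound hg0 hs
    have hsT : ∀ {r}, r < 64 → (sE X.D r * HRel.val X.D d (i, 0)) * t = t * (sE X.D r * HRel.val X.D d (i, 0)) :=
      fun hr => ((show Commute (sE X.D _) t from C.sub _ (O.idx hr).2).mul_left hvT).eq
    have hKa : K.r0 = a ∧ K.r1 = b ∧ K.r3 = c := by rw [hK]; exact ⟨rfl, rfl, rfl⟩
    refine ⟨⟨?_, ?_⟩, ?_⟩
    · refine hag _ (hsT (r := K.r0) (hKa.1 ▸ ha)) (fun s hs => ?_) (hst _ (elt _))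
      obtain ⟨g1, v1⟩ := stepD hdst s hs
      exact ⟨g1, by rw [v1, ← mul_assoc, h.sq]⟩
    · refine hag _ (hsT (r := K.r1) (hKa.2.1 ▸ hb)) (fun s hs => ?_) (hst _ (elt _))
      obtain ⟨g1, v1⟩ := stepD (stepP h1l (stepD (hst _ h1l))) s hs
      exact ⟨g1, by rw [v1, ← h.rel1]; group⟩
    · refine hag _ (hsT (r := K.r3) (hKa.2.2 ▸ hc)) (fun s hs => ?_) (hst _ (elt _))
      obtain ⟨g1, v1⟩ := stepD (stepP h3l (stepD (stepP h3l (stepD (hst _ h3l))))) s hs
      exact ⟨g1, by rw [v1, ← h.rel3]; group⟩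
  have hk := List.all_eq_true.mp (List.all_eq_true.mp keys_norm di hdi') K hmem
  rw [hcons] at hk
  simp only [Bool.not_true, Bool.false_or, List.any_eq_true, decide_eq_true_eq] at hk
  obtain ⟨w, hw, ew⟩ := hk
  obtain ⟨hcw, hz, hw1, hw3⟩ := cent_words
  obtain ⟨z, hz', hwz⟩ : ∃ z ∈ centI, sAt 0 z = evM w := by
    have : evM w ∈ centI.map (sAt 0) := hcw ▸ List.mem_map_of_mem hw
    exact List.mem_map.1 this
  have hz1 := List.all_eq_true.mp hz z hz'
  simp only [Bool.and_eq_true, List.all_eq_true, List.mem_range] at hz1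
  have hz64 : z < 64 := by simp [centI] at hz'; omega
  obtain ⟨hwl, hwlt⟩ : (∀ k ∈ w, k < 8) ∧ ∀ k ∈ w, k < 6 := by
    have : ∀ v ∈ centW, ∀ k ∈ v, k < 6 := by decide
    exact ⟨fun k hk => by have := this w hw k hk; omega, this w hw⟩
  have hev : evW [X.D.a1, X.D.al, X.D.be, d] w = sE X.D z := by
    rw [sE, hwz, (MGens.toM_evM X.ok w hwlt).2]
    exact (evW_three_four X.D.a1 X.D.al X.D.be d w hwlt).symm
  simp only [shiftKey, Key.mk.injEq] at ew
  have hone : ∀ {u : List ℕ}, (∀ k ∈ u, k < 8) → idx0 (K.ev u (0, 0)) = 0 →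
      evW [X.D.a1, X.D.al, X.D.be, d] u = 1 := by
    intro u hu e
    obtain ⟨st, hev'⟩ : ∃ st, K.ev u (0, 0) = some st := by
      cases hq : K.ev u (0, 0) with
      | none => rw [hq] at e; simp [idx0] at e
      | some st => exact ⟨st, rfl⟩
    rw [hev'] at e
    obtain ⟨g1, v1⟩ := h.ev_sound hu (⟨by norm_num, by norm_num⟩ : HRel.Good (0, 0)) hev'
    obtain ⟨i, x⟩ := st
    cases i with
    | succ i => simp [idx0] at e
    | zero =>
      simp only [idx0] at e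
      have hx0 : x = 0 := by
        have hmem : x ∈ coreCand.getD 0 [] := by
          rw [← List.idxOf_lt_length_iff, e]
          exact List.length_pos_iff.2 cent_consts.2.2
        have := List.getElem_idxOf (List.idxOf_lt_length_of_mem hmem)
        simp only [e] at this
        rw [← this, ← List.getD_eq_getElem (d := 0), hget, cent_consts.2.1]
      subst hx0
      simp only [HRel.val, HRel.rep, if_true, MGens.toM_zero X.ok, mul_one] at v1
      exact v1.symm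
  obtain ⟨-, e0, e1, e3⟩ := ew
  have hzR := (O.idx hz64).2
  have hzρ : Commute (sE X.D z) (X.D.toM Delta.dat0.rho) := by
    have h' := List.all_eq_true.mp hact z (List.mem_range.mpr hz64)
    simp only [Bool.and_eq_true, hget, hdat] at h'
    have e := congrArg X.D.toM (Nat.eq_of_beq_eq_true h'.1.1.2)
    rw [Nat.eq_of_beq_eq_true hz1.1, MGens.toM_cjM X.ok hrl (elt z)] at e
    exact (mul_inv_eq_iff_eq_mul.1 e).symm
  have hzS : ∀ i < 64, sE X.D z * sE X.D i = sE X.D i * sE X.D z := fun i hi => by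
    rw [← (emul hz64 hi).2, ← (emul hi hz64).2, Nat.eq_of_beq_eq_true (hz1.2 i hi)]
  have hlt1 : ∀ k ∈ [2, 4, 2, 5, 2], k < 8 := by decide
  have hlt3 : ∀ k ∈ [0, 4, 2, 5], k < 8 := by decide
  have hev1 : evW [X.D.a1, X.D.al, X.D.be, d] [2, 4, 2, 5, 2] = X.D.toM Delta.dat0.c1 := by
    rw [← hw1, (MGens.toM_evM X.ok [2, 4, 2, 5, 2] (by decide)).2]
    exact (evW_three_four X.D.a1 X.D.al X.D.be d [2, 4, 2, 5, 2] (by decide)).symm
  have hev3 : evW [X.D.a1, X.D.al, X.D.be, d] [0, 4, 2, 5] = X.D.toM Delta.dat0.c3 := by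
    rw [← hw3, (MGens.toM_evM X.ok [0, 4, 2, 5] (by decide)).2]
    exact (evW_three_four X.D.a1 X.D.al X.D.be d [0, 4, 2, 5] (by decide)).symm
  have hev6 : evW [X.D.a1, X.D.al, X.D.be, d] [6] = d := by simp [CfsgAutL34.Enum.evW, letG]
  have hmem8 : ∀ {l1 l2 : List ℕ}, (∀ k ∈ l1, k < 8) → (∀ k ∈ l2, k < 8) → ∀ k ∈ l1 ++ l2, k < 8 :=
    fun h1 h2 k hk => (List.mem_append.1 hk).elim (h1 k) (h2 k)
  have h6 : ∀ k ∈ [6], k < 8 := by simp
  refine ⟨d * sE X.D z, q, di, ⟨O.klt, O.core, O.surj, O.ker, O.c1, O.c3, O.rho, ?_, ?_, ?_⟩, ?_⟩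
  · exact ((show Commute d t from O.dcomm).mul_left (C.sub _ hzR)).eq
  · intro x hx
    obtain ⟨T, hT⟩ : ∃ T : ↥(Subgroup.centralizer ({t} : Set G)), (T : G) = sE X.D z :=
      ⟨⟨_, Subgroup.mem_centralizer_singleton_iff.2 (C.sub _ hzR)⟩, rfl⟩
    have : x = Dd * T := Subtype.ext (by rw [hx, Subgroup.coe_mul, hD, hT])
    rw [this, map_mul, (O.ker T).2 (hT ▸ hzR), mul_one, qD]
  · show d * sE X.D z * X.D.toM Delta.dat0.rho = X.D.toM Delta.dat0.rho * (d * sE X.D z)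
    rw [mul_assoc, hzρ.eq, ← mul_assoc, show d * X.D.toM Delta.dat0.rho = X.D.toM Delta.dat0.rho * d from O.drho, mul_assoc]
  · have e00 : sE X.D 0 = 1 := by rw [sE, cent_consts.2.1, MGens.toM_zero X.ok]
    refine ⟨X.ok, hdi, ?_, fun i hi => ?_, ?_, ?_, ?_⟩
    · rw [mul_assoc, hzρ.eq, ← mul_assoc, show d * X.D.toM Delta.dat0.rho = X.D.toM Delta.dat0.rho * d from O.drho, mul_assoc]
    · show d * sE X.D z * sE X.D i * (d * sE X.D z)⁻¹ = sE X.D (fget (Delta.dat0.cls.getD di 0) i)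
      rw [← hF, hcF i hi, mul_assoc d, hzS i hi]
      group
    · show d * sE X.D z * (d * sE X.D z) = sE X.D 0
      rw [e00, ← hone (hmem8 (hmem8 (hmem8 h6 hwl) h6) hwl) e0]
      simp only [CfsgAutL34.Enum.evW_append, hev, hev6, mul_assoc]
    · show d * sE X.D z * X.D.toM Delta.dat0.c1 * (d * sE X.D z * X.D.toM Delta.dat0.c1) = sE X.D 0
      rw [e00, ← hone (hmem8 (hmem8 (hmem8 (hmem8 (hmem8 h6 hwl) hlt1) h6) hwl) hlt1) e1]
      simp only [CfsgAutL34.Enum.evW_append, hev, hev6, hev1, mul_assoc]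
    · show d * sE X.D z * X.D.toM Delta.dat0.c3 * (d * sE X.D z * X.D.toM Delta.dat0.c3) *
        (d * sE X.D z * X.D.toM Delta.dat0.c3) = sE X.D 0
      have h9 : ∀ k ∈ (List.replicate 3 ([6] ++ w ++ [0, 4, 2, 5])).flatten, k < 8 := by
        simp only [List.replicate, List.flatten_cons, List.flatten_nil, List.append_nil]
        exact hmem8 (hmem8 (hmem8 h6 hwl) hlt3) (hmem8 (hmem8 (hmem8 h6 hwl) hlt3) (hmem8 (hmem8 h6 hwl) hlt3))
      rw [e00, ← hone h9 e3]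
      simp only [List.replicate, List.flatten_cons, List.flatten_nil, List.append_nil,
        CfsgAutL34.Enum.evW_append, hev, hev6, hev3, mul_assoc]

end CfsgHSType
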