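import Cfsg.Agent.Lib.HSType.RelData
import Cfsg.Agent.Lib.HSType.CodeChecks
import Cfsg.Agent.Lib.HSType.BraidChecks
import Cfsg.Agent.Lib.Leech.HiSModel

/-!
The permutations on one hundred points satisfy the relations.
-/

set_option autoImplicit false
set_option maxRecDepth 100000
set_option maxHeartbeats 4000000
set_option Elab.async false

namespace CfsgHSType

open CfsgPC (apW ap isPerm)
open CfsgLib.CosetEnum (force)

/-- Two words give the same permutation. -/
def permEq (w v : List ℕ) : Bool := (List.range 100).all fun i => Nat.beq (apW imgCodes w i) (apW imgCodes v i)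

/-- Two words give the same element in both copies. -/
noncomputable def pairEq (w v : List ℕ) : Bool :=
  (w.all fun k => Nat.blt k 6) && (v.all fun k => Nat.blt k 6) && Nat.beq (evM w) (evM v) && permEq w v

/-- The word of the second vector. -/
def wA2 : List ℕ := [2, 0, 3, 4, 1, 5]

/-- The word of the third vector. -/
def wA3 : List ℕ := [4, 0, 0, 5, 2, 1, 3]

/-- The word of a vector. -/
def vW (v : ℕ) : List ℕ :=
  List.replicate (v % 4) 0 ++ (List.replicate (v / 4 % 4) wA2).flatten ++ (List.replicate (v / 16 % 4) wA3).flatten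

/-- The word of a code. -/
def wOf (x : ℕ) : List ℕ := vW (x % 64) ++ (Tab.lword.getD (x / 64) []).map (· + 2)

/-- The conjugation relations. -/
noncomputable def okPairs : List (List ℕ × List ℕ) :=
  [([0] ++ wA2, wA2 ++ [0]), ([0] ++ wA3, wA3 ++ [0]), (wA2 ++ wA3, wA3 ++ wA2), ([0, 0, 0, 0], []),
    ((List.replicate 4 wA2).flatten, []), ((List.replicate 4 wA3).flatten, []),
    ([2] ++ [0] ++ [3], vW (actV (lstep 0 0) 1)), ([2] ++ wA2 ++ [3], vW (actV (lstep 0 0) 4)),
    ([2] ++ wA3 ++ [3], vW (actV (lstep 0 0) 16)), ([4] ++ [0] ++ [5], vW (actV (lstep 0 2) 1)),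
    ([4] ++ wA2 ++ [5], vW (actV (lstep 0 2) 4)), ([4] ++ wA3 ++ [5], vW (actV (lstep 0 2) 16))] ++
    relsL.map fun r => (r.map (· + 2), [])

theorem perm_pairs : (okPairs.all fun p => pairEq p.1 p.2) = true := by decide +kernel

theorem perm_rels : ((extBad :: (relsM ++ relsH)).all fun w => (w.all fun k => Nat.blt k 8) && permEq w []) = true := by
  decide +kernel

theorem perm_codes : imgCodes.length = 8 ∧ ((List.range 4).all fun a =>
    isPerm 100 (imgCodes.getD (2 * a) 0) (imgCodes.getD (2 * a + 1) 0)) = true ∧
    evM wA2 = 4 ∧ evM wA3 = 16 := by decide +kernel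

theorem perm_gens : genWords.length = 3 ∧ CfsgLeech.Models.hsRigid.gens.length = 3 ∧
    (genWords.all fun w => w.all fun k => Nat.blt k 8) = true ∧ ((List.range 3).all fun a => (List.range 100).all fun i =>
      Nat.beq (apW imgCodes (genWords.getD a []) i) (ap (CfsgLeech.Models.hsRigid.gens.getD a 0) i)) = true := by
  decide +kernel

theorem perm_words : ((List.range 168).all fun l => (Tab.lword.getD l []).all fun k => Nat.blt k 4) = true := by
  decide +kernel

end CfsgHSType
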