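import Cfsg.Agent.Lib.HSType.Braid
import Cfsg.Agent.Lib.HSType.ModelChecks
import Cfsg.Agent.Lib.Leech.Conway

/-!
The permutation group on one hundred points maps onto the subgroup generated by the four generators.
-/

set_option autoImplicit false
set_option maxRecDepth 10000

namespace CfsgHSType

open Equiv
open CfsgAutL34.Enum
open CfsgPC (apW ap isPerm Rep decP genG rep_apW)
open CfsgLeech.Models (hsRigid hs_model hs_size)

attribute [local irreducible] actV lmul linv lstep vadd vneg vsmul appM mulM invM cjM sAt uAt fget mlet Delta.dat0 coreCand Dec.tab Key.pT Key.dT Key.ev imgCodes CfsgLeech.Models.hsChain CfsgLeech.Models.hsRigid Tab.lword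

/-- The four permutations. -/
noncomputable def permL : List (Perm (Fin 100)) :=
  (List.range 4).map fun a => decP 100 (imgCodes.getD (2 * a) 0)

/-- The permutation group. -/
noncomputable abbrev hsPerm : Subgroup (Perm (Fin 100)) := genG 100 (CfsgLeech.Models.hsRigid.gens)

theorem rep_letter {x : ℕ} (hx : x < 8) : Rep 100 (imgCodes.getD x 0) (letG permL x) := by
  obtain ⟨-, hp, -, -⟩ := perm_codes
  have h := List.all_eq_true.mp hp (x / 2) (List.mem_range.2 (by omega))
  have e : permL.getD (x / 2) 1 = decP 100 (imgCodes.getD (2 * (x / 2)) 0) := by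
    rw [List.getD_eq_getElem _ _ (by simp [permL]; omega)]
    simp [permL]
  unfold letG
  rw [e]
  rcases Nat.mod_two_eq_zero_or_one x with h2 | h2
  · rw [if_pos h2, show 2 * (x / 2) = x by omega]
    have := CfsgPC.decP_rep h
    rwa [show 2 * (x / 2) = x by omega] at this
  · rw [if_neg (by omega)]
    have := CfsgPC.rep_inv (by norm_num) (CfsgPC.decP_rep h) h
    rwa [show 2 * (x / 2) + 1 = x by omega] at this

theorem apW_evW {w : List ℕ} (hw : ∀ k ∈ w, k < 8) (i : Fin 100) : apW imgCodes w i = (evW permL w i : ℕ) :=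
  rep_apW w (fun a ha => rep_letter (hw a ha)) i

theorem evW_permEq {w v : List ℕ} (hw : ∀ k ∈ w, k < 8) (hv : ∀ k ∈ v, k < 8) (h : permEq w v = true) :
    evW permL w = evW permL v := by
  refine Equiv.ext fun i => Fin.ext ?_
  rw [← apW_evW hw i, ← apW_evW hv i]
  exact Nat.eq_of_beq_eq_true (List.all_eq_true.mp h i (List.mem_range.2 i.2))

variable {G : Type*} [Group G] [Finite G] {t : G} {R M : Subgroup G}

namespace HData

variable (Y : HData t R M) (C : CentData t R)

/-- The paired generators. -/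
noncomputable def gens2 : List (G × Perm (Fin 100)) :=
  [(Y.X.D.a1, letG permL 0), (Y.X.D.al, letG permL 2), (Y.X.D.be, letG permL 4), (Y.d, letG permL 6)]

omit [Finite G] in
theorem gens2_map : Y.gens2.map Prod.fst = Y.gens ∧ Y.gens2.map Prod.snd = permL := by
  refine ⟨rfl, ?_⟩
  simp [gens2, permL, letG, List.range_succ]

omit [Finite G] in
theorem evW_gens2 (w : List ℕ) : evW Y.gens2 w = (evW Y.gens w, evW permL w) := by
  refine Prod.ext ?_ ?_
  · have := evW_map (MonoidHom.fst G (Perm (Fin 100))) Y.gens2 w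
    rwa [show (Y.gens2.map (MonoidHom.fst G (Perm (Fin 100)))) = Y.gens from Y.gens2_map.1] at this
  · have := evW_map (MonoidHom.snd G (Perm (Fin 100))) Y.gens2 w
    rwa [show (Y.gens2.map (MonoidHom.snd G (Perm (Fin 100)))) = permL from Y.gens2_map.2] at this

omit [Finite G] in
theorem evW_pair {w v : List ℕ} (h : pairEq w v = true) : evW Y.gens2 w = evW Y.gens2 v := by
  simp only [pairEq, Bool.and_eq_true, List.all_eq_true, Nat.blt_eq] at h
  obtain ⟨⟨⟨hw, hv⟩, he⟩, hp⟩ := h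
  rw [Y.evW_gens2, Y.evW_gens2, Y.evW_small hw, Y.evW_small hv, Nat.eq_of_beq_eq_true he,
    evW_permEq (fun k hk => (hw k hk).trans (by norm_num)) (fun k hk => (hv k hk).trans (by norm_num)) hp]

/-- The paired copy of the split extension. -/
noncomputable def D2 : MGens (G × Perm (Fin 100)) :=
  ⟨letG Y.gens2 0, evW Y.gens2 wA2, evW Y.gens2 wA3, letG Y.gens2 2, letG Y.gens2 4⟩

omit [Finite G] in
theorem D2_eV (v : ℕ) : Y.D2.eV v = evW Y.gens2 (vW v) := by
  rw [MGens.eV, vW, evW_append, evW_append, evW_flatten_replicate, evW_flatten_replicate]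
  congr 2
  simp [D2, evW, List.map_replicate, List.prod_replicate]

omit [Finite G] in
theorem D2_ok : Y.D2.Ok := by
  have h := List.all_eq_true.mp perm_pairs
  have e : ∀ p ∈ okPairs, evW Y.gens2 p.1 = evW Y.gens2 p.2 := fun p hp => Y.evW_pair (h p hp)
  simp only [okPairs, List.mem_append, List.mem_cons, List.mem_map, List.not_mem_nil, or_false, forall_eq_or_imp,
    or_imp, forall_and, forall_eq, forall_exists_index, and_imp, forall_apply_eq_imp_iff₂] at e
  obtain ⟨⟨e1, e2, e3, e4, e5, e6, e7, e8, e9, e10, e11, e12⟩, erel⟩ := e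
  simp only [evW_append, evW_flatten_replicate] at e1 e2 e3 e5 e6 e7 e8 e9 e10 e11 e12
  simp only [evW_one, evW_nil] at e1 e2 e5 e6 e7 e8 e9 e10 e11 e12
  have hflip : ∀ x, letG Y.gens2 (2 * x + 1) = (letG Y.gens2 (2 * x))⁻¹ := fun x => by
    rw [← letG_flip]; simp [flipL]
  have h3 := hflip 1
  have h5 := hflip 2
  norm_num at h3 h5
  rw [h3] at e7 e8 e9
  rw [h5] at e10 e11 e12
  refine ⟨⟨e1, e2, e3, ?_, e5, e6⟩, ?_, ?_, ?_, ?_, ?_, ?_, ?_⟩
  · simpa [D2, evW, pow_succ, mul_assoc] using e4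
  all_goals try rw [D2_eV]
  · exact e7
  · exact e8
  · exact e9
  · exact e10
  · exact e11
  · exact e12
  · intro w hw
    have hr := erel w hw
    rw [evW_nil] at hr
    refine Eq.trans ?_ hr
    have hw4 : ∀ x ∈ w, x < 4 := by
      have : ∀ v ∈ relsL, ∀ x ∈ v, x < 4 := by with_unfolding_all decide
      exact this w hw
    clear hw hr
    induction w with
    | nil => rfl
    | cons x w ih =>
      rw [List.map_cons, evW_cons, evW_cons, ih fun y hy => hw4 y (List.mem_cons_of_mem _ hy)]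
      have hx := hw4 x List.mem_cons_self
      congr 1
      interval_cases x <;> simp [D2, letG, gens2]

omit [Finite G] in
theorem D2_toM {x : ℕ} (hx : x < 10752) : Y.D2.toM x = evW Y.gens2 (wOf x) := by
  rw [MGens.toM, wOf, evW_append, ← D2_eV, MGens.sig]
  congr 1
  have hl := List.all_eq_true.mp perm_words (x / 64) (List.mem_range.2 (by omega))
  generalize Tab.lword.getD (x / 64) [] = w at hl
  simp only [List.all_eq_true, Nat.blt_eq] at hl
  induction w with
  | nil => rfl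
  | cons k w ih =>
    rw [List.map_cons, evW_cons, evW_cons, ih fun y hy => hl y (List.mem_cons_of_mem _ hy)]
    have hk := hl k List.mem_cons_self
    congr 1
    interval_cases k <;> simp [D2, letG, gens2]

omit [Finite G] in
theorem D2_fst {x : ℕ} (hx : x < 10752) : (Y.D2.toM x).1 = Y.X.D.toM x := by
  have hA : ∀ w, (∀ k ∈ w, k < 6) → (evW Y.gens2 w).1 = Y.X.D.toM (evM w) := fun w hw => by
    rw [Y.evW_gens2, ← Y.evW_small hw]
  obtain ⟨-, -, e2, e3⟩ := perm_codes
  have a2 : (Y.D2.a2).1 = Y.X.D.a2 := by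
    show (evW Y.gens2 wA2).1 = _
    rw [hA _ (by decide), e2]
    simp [MGens.toM, MGens.sig_zero Y.X.ok, (MGens.eV_one (D := Y.X.D) Y.X.ok.toVOk).2.1]
  have a3 : (Y.D2.a3).1 = Y.X.D.a3 := by
    show (evW Y.gens2 wA3).1 = _
    rw [hA _ (by decide), e3]
    simp [MGens.toM, MGens.sig_zero Y.X.ok, (MGens.eV_one (D := Y.X.D) Y.X.ok.toVOk).2.2]
  have hv : ∀ v, (Y.D2.eV v).1 = Y.X.D.eV v := fun v => by
    simp only [MGens.eV, Prod.fst_mul, Prod.pow_fst, a2, a3]
    rfl
  rw [MGens.toM, Prod.fst_mul, hv, MGens.toM]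
  congr 1
  have := evW_map (MonoidHom.fst G (Perm (Fin 100))) [Y.D2.al, Y.D2.be] (Tab.lword.getD (x / 64) [])
  exact this

include C in
theorem exists_model : ∃ ψ : ↥hsPerm →* G, Function.Injective ψ ∧
    Nat.card ↥hsPerm = 44352000 ∧
    (∀ w : List ℕ, (∀ k ∈ w, k < 8) → ∃ h : evW permL w ∈ hsPerm, ψ ⟨_, h⟩ = evW Y.gens w) ∧
    (∀ x < 10752, ∃ h : evW permL (wOf x) ∈ hsPerm, ψ ⟨_, h⟩ = Y.X.D.toM x) ∧
    Subgroup.centralizer ({t} : Set G) ≤ ψ.range := by
  classical
  obtain ⟨hval, hgood, ⟨iso⟩⟩ := hs_model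
  have hcardP : Nat.card ↥hsPerm = 44352000 := by
    have := hgood.card
    have hls : hsRigid.ls = CfsgLeech.Models.hsChain := by with_unfolding_all rfl
    rw [hls, hs_size] at this
    with_unfolding_all exact this
  obtain ⟨Dg, hDg⟩ : ∃ Dg, Dg = Subgroup.closure {g | ∃ x < 8, g = letG Y.gens2 x} := ⟨_, rfl⟩
  have hletD : ∀ x < 8, letG Y.gens2 x ∈ Dg := fun x hx => hDg ▸ Subgroup.subset_closure ⟨x, hx, rfl⟩
  have hwD : ∀ w : List ℕ, (∀ k ∈ w, k < 8) → evW Y.gens2 w ∈ Dg := fun w hw => by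
    induction w with
    | nil => exact Subgroup.one_mem _
    | cons x w ih =>
      rw [evW_cons]
      exact Subgroup.mul_mem _ (hletD x (hw x List.mem_cons_self)) (ih fun y hy => hw y (List.mem_cons_of_mem _ hy))
  have hw8 : ∀ x < 10752, ∀ k ∈ wOf x, k < 8 := by
    intro x hx k hk
    have hl := List.all_eq_true.mp perm_words (x / 64) (List.mem_range.2 (by omega))
    simp only [List.all_eq_true, Nat.blt_eq] at hl
    simp only [wOf, vW, List.mem_append, List.mem_flatten, List.mem_replicate, List.mem_map] at hk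
    rcases hk with ((hk | ⟨l, ⟨-, rfl⟩, hk⟩) | ⟨l, ⟨-, rfl⟩, hk⟩) | ⟨j, hj, rfl⟩
    · omega
    · simp [wA2] at hk; omega
    · simp [wA3] at hk; omega
    · have := hl j hj; omega
  have hok := Y.D2_ok
  let K : Subgroup (G × Perm (Fin 100)) :=
    { carrier := {g | ∃ x < 10752, Y.D2.toM x = g}
      one_mem' := ⟨0, by norm_num, MGens.toM_zero hok⟩
      mul_mem' := by
        rintro _ _ ⟨x, hx, rfl⟩ ⟨y, hy, rfl⟩
        exact ⟨_, mulM_lt hx hy, MGens.toM_mul hok hx hy⟩
      inv_mem' := by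
        rintro _ ⟨x, hx, rfl⟩
        exact ⟨_, invM_lt hx, MGens.toM_invM hok hx⟩ }
  have hKle : K ≤ Dg := by
    rintro _ ⟨x, hx, rfl⟩
    rw [Y.D2_toM hx]
    exact hwD _ (hw8 x hx)
  have hK6 : ∀ x < 6, letG Y.gens2 x ∈ K := by
    intro x hx
    obtain ⟨hlt, e⟩ := MGens.toM_evM hok [x] (by simpa using hx)
    refine ⟨_, hlt, e.trans ?_⟩
    rw [evW_one]
    interval_cases x <;> simp [D2, letG, gens2]
  -- the bound
  let L : List ↥Dg := (List.range 4).map fun a =>
    if h : 2 * a < 8 then ⟨letG Y.gens2 (2 * a), hletD _ h⟩ else 1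
  have hLen : L.length = 4 := by simp [L]
  have hLmap : L.map Dg.subtype = Y.gens2 := by
    simp [L, List.range_succ, gens2, letG]
  have hLw : ∀ w, (Dg.subtype) (evW L w) = evW Y.gens2 w := fun w => by rw [evW_map, hLmap]
  have hLlet : ∀ x, Dg.subtype (letG L x) = letG Y.gens2 x := fun x => by rw [← evW_one L x, hLw, evW_one]
  have hrel : ∀ w ∈ extBad :: (relsM ++ relsH), evW L w = 1 := by
    intro w hw
    apply Dg.subtype_injective
    rw [hLw, map_one, Y.evW_gens2, Y.rels_hold C w hw]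
    have h := List.all_eq_true.mp perm_rels w hw
    simp only [Bool.and_eq_true, List.all_eq_true, Nat.blt_eq] at h
    rw [evW_permEq h.1 (by simp) h.2, evW_nil]
    rfl
  have hidx : (K.subgroupOf Dg).index ≤ 4125 := by
    refine big_index (L := L) (by omega) (fun x hx => ?_) ?_ ?_
    · show Dg.subtype (letG L x) ∈ K
      rw [hLlet]
      exact hK6 x hx
    · rw [rules_eq.1]
      exact rulesOf_ok (by omega) hrel _
    · refine eq_top_iff.2 fun g hg => ?_
      clear hg
      obtain ⟨g, hg⟩ := g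
      subst hDg
      induction hg using Subgroup.closure_induction with
      | mem y hy =>
        obtain ⟨x, hx, rfl⟩ := hy
        exact Subgroup.subset_closure ⟨x, hx, Subtype.ext (hLlet x).symm⟩
      | one => exact Subgroup.one_mem _
      | mul a b _ _ ha hb => exact Subgroup.mul_mem _ ha hb
      | inv a _ ha => exact Subgroup.inv_mem _ ha
  have hKcard : Nat.card ↥(K.subgroupOf Dg) ≤ 10752 := by
    refine le_trans (Nat.card_le_card_of_surjective
      (fun x : Fin 10752 => (⟨⟨Y.D2.toM x, hKle ⟨x, x.2, rfl⟩⟩, ⟨x, x.2, rfl⟩⟩ : K.subgroupOf Dg)) ?_) (le_of_eq (Nat.card_fin _))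
    rintro ⟨⟨g, hg⟩, ⟨x, hx, e⟩⟩
    exact ⟨⟨x, hx⟩, Subtype.ext (Subtype.ext e)⟩
  have hDcard : Nat.card ↥Dg ≤ 44352000 := by
    rw [← (K.subgroupOf Dg).card_mul_index]
    exact (Nat.mul_le_mul hKcard hidx).trans (by norm_num)
  -- the second projection
  let f : ↥Dg →* Perm (Fin 100) := (MonoidHom.snd G (Perm (Fin 100))).comp Dg.subtype
  have hle : hsPerm ≤ f.range := by
    refine (Subgroup.closure_le _).2 ?_
    rintro g ⟨c, hc, hg⟩
    obtain ⟨a, ha, rfl⟩ := List.getElem_of_mem hc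
    obtain ⟨hn1, hn2, hw, he⟩ := perm_gens
    have ha3 : a < 3 := hn2 ▸ ha
    simp only [List.all_eq_true, List.mem_range, Nat.blt_eq] at hw he
    have hwa : ∀ k ∈ genWords.getD a [], k < 8 := by
      rw [List.getD_eq_getElem _ _ (hn1.symm ▸ ha3)]
      exact hw _ (List.getElem_mem _)
    refine ⟨⟨_, hwD _ hwa⟩, ?_⟩
    show (evW Y.gens2 _).2 = g
    rw [Y.evW_gens2]
    refine Equiv.ext fun i => Fin.ext ?_
    rw [← apW_evW hwa i, Nat.eq_of_beq_eq_true (he a ha3 i i.2), List.getD_eq_getElem _ _ ha]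
    exact hg i
  have hcr : Nat.card ↥f.range ≤ Nat.card ↥Dg :=
    Nat.card_le_card_of_surjective f.rangeRestrict f.rangeRestrict_surjective
  have heq : hsPerm = f.range := Subgroup.eq_of_le_of_card_ge hle (hcr.trans (hDcard.trans hcardP.ge))
  have hinj : Function.Injective f := by
    refine MonoidHom.rangeRestrict_injective_iff.1 ?_
    refine (f.rangeRestrict_surjective.bijective_of_nat_card_le ?_).1
    rw [← heq, hcardP]
    exact hDcard
  let e : ↥Dg ≃* ↥hsPerm := (MonoidHom.ofInjective hinj).trans (MulEquiv.subgroupCongr heq.symm)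
  let ψ : ↥hsPerm →* G := ((MonoidHom.fst G (Perm (Fin 100))).comp Dg.subtype).comp e.symm.toMonoidHom
  have hψ : ∀ g : ↥Dg, ∀ h : (g : G × Perm (Fin 100)).2 ∈ hsPerm, ψ ⟨_, h⟩ = (g : G × Perm (Fin 100)).1 := by
    intro g h
    have : e g = ⟨_, h⟩ := Subtype.ext rfl
    simp [ψ, ← this]
  have hmem : ∀ g : ↥Dg, (g : G × Perm (Fin 100)).2 ∈ hsPerm := fun g => by rw [heq]; exact ⟨g, rfl⟩
  have hword : ∀ w : List ℕ, (∀ k ∈ w, k < 8) → ∃ h : evW permL w ∈ hsPerm, ψ ⟨_, h⟩ = evW Y.gens w := by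
    intro w hw
    have h1 := hmem ⟨_, hwD w hw⟩
    have h2 := hψ ⟨_, hwD w hw⟩ h1
    simp only [Y.evW_gens2] at h1 h2
    exact ⟨h1, h2⟩
  have htoM : ∀ x < 10752, ∃ h : evW permL (wOf x) ∈ hsPerm, ψ ⟨_, h⟩ = Y.X.D.toM x := by
    intro x hx
    obtain ⟨h, e⟩ := hword _ (hw8 x hx)
    refine ⟨h, e.trans ?_⟩
    rw [← Y.D2_fst hx, Y.D2_toM hx, Y.evW_gens2]
  have htr : t ∈ ψ.range := by
    have htC : tC < 10752 := by with_unfolding_all decide
    obtain ⟨h, e⟩ := htoM tC htC
    exact ⟨_, e.trans Y.X.hTC⟩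
  have hinjψ : Function.Injective ψ := by
    haveI : IsSimpleGroup ↥hsPerm := by
      with_unfolding_all exact iso.isSimpleGroup_congr.mp CfsgLeech.hs_simple
    rcases (MonoidHom.normal_ker ψ).eq_bot_or_eq_top with h | h
    · exact (MonoidHom.ker_eq_bot_iff ψ).1 h
    · exfalso
      obtain ⟨g, hg⟩ := htr
      have : g ∈ ψ.ker := h ▸ Subgroup.mem_top g
      rw [MonoidHom.mem_ker, hg] at this
      have h2 := C.ht
      rw [this, orderOf_one] at h2
      omega
  refine ⟨ψ, hinjψ, hcardP, hword, htoM, ?_⟩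
  intro g hg
  obtain ⟨⟨i, x⟩, ⟨hi, hx⟩, hv, -⟩ := Y.cover C (Subgroup.mem_centralizer_singleton_iff.1 hg)
  rw [← hv]
  obtain ⟨h, e⟩ := htoM x hx
  refine Subgroup.mul_mem _ ?_ ⟨_, e⟩
  simp only [HRel.rep]
  split
  · exact Subgroup.one_mem _
  · refine Subgroup.mul_mem _ ?_ ?_
    · obtain ⟨h', e'⟩ := htoM _ (HRel.uAt_lt i)
      exact ⟨_, e'⟩
    · obtain ⟨h', e'⟩ := hword [6] (by simp)
      refine ⟨_, e'.trans ?_⟩
      simp [gens, evW, letG]

end HData

end CfsgHSType
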