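import Cfsg.Agent.Lib.HSType.Gens
import Cfsg.Agent.Lib.HSType.CoreData

/-!
The core is one of two explicit sets of codes.
-/

set_option autoImplicit false
set_option maxRecDepth 100000
set_option maxHeartbeats 1000000
set_option Elab.async false

namespace CfsgHSType

open Cfsg

open CfsgLib.CosetEnum (force)

/-- The conjugating element. -/
noncomputable def pC : ℕ := evM [4, 2, 5]

/-- Squares allowed. -/
noncomputable def sqOK (x : ℕ) : Bool := Nat.beq (mulM x x) 0 || Nat.beq (mulM x x) tC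

/-- The elements generated by a lift of the involution. -/
noncomputable def coreOf (g : ℕ) : List ℕ :=
  force (cjM pC g) fun h => ((List.range 64).filter fun v => inRA v).flatMap fun v =>
    [v, mulM v g, mulM v h, mulM v (mulM g h)]

theorem core_forced : ((List.range 64).all fun u => !sqOK (u + 64 * lA) ||
    coreCand.any fun S => S.all fun x => (coreOf (u + 64 * lA)).contains x) = true := by decide +kernel

theorem zero_unit : ((List.range 168).all fun l => Nat.beq (lmul 0 l) l) = true := by decide +kernel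

theorem core_lists : coreCand.all (fun S => Nat.beq S.length 64 && decide S.Nodup && S.all fun x => Nat.blt x 10752) = true ∧
    coreCand.length = 2 ∧ pC < 10752 ∧ mulM pC tC = mulM tC pC ∧
    ((List.range 64).all fun v => inRA v == sqOK v) = true := by decide +kernel

attribute [local irreducible] actV lmul linv lstep vadd vneg vsmul appM

variable {G : Type*} [Group G] [Finite G]

theorem code_class (x y : ℕ) : mulM x y / 64 = lmul (x / 64) (y / 64) := by
  unfold mulM
  simp only [CfsgAutL34.Enum.force_eq]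
  have := vadd_lt (a := x % 64) (b := actV (x / 64) (y % 64))
  omega

theorem inv_class (x : ℕ) : invM x / 64 = linv (x / 64) := by
  unfold invM
  simp only [CfsgAutL34.Enum.force_eq]
  have : vneg (actV (linv (x / 64)) (x % 64)) < 64 := by unfold vneg; omega
  omega

theorem lmul_linv {l : ℕ} (hl : l < 168) : lmul l (linv l) = 0 := by
  have h1 := List.all_eq_true.mp tab_inv.1 l (List.mem_range.mpr hl)
  simp only [Bool.and_eq_true] at h1
  exact Nat.eq_of_beq_eq_true h1.2

theorem zero_lmul {l : ℕ} (hl : l < 168) : lmul 0 l = l :=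
  Nat.eq_of_beq_eq_true (List.all_eq_true.mp zero_unit l (List.mem_range.mpr hl))

theorem zero_left {l : ℕ} (h : Nat.beq (lmul 0 l) 0 = true) (hl : l < 168) : l = 0 := by
  rw [zero_lmul hl] at h
  exact Nat.eq_of_beq_eq_true h

theorem lA_four : lA ∈ fourL := by decide +kernel

theorem four_lt : ∀ l ∈ fourL, l < 168 := by decide +kernel

theorem count_ra : Fintype.card {v : Fin 64 // inRA v = true} = 16 := by decide +kernel

theorem count_four : Fintype.card {l : Fin 168 // (l : ℕ) ∈ fourL} = 4 := by decide +kernel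

/-- The vectors as a subgroup. -/
def vecGroup {G : Type*} [Group G] [Finite G] {t : G} {R M : Subgroup G} (X : MData t R M) : Subgroup G :=
  Subgroup.closure (Set.range fun v : Fin 64 => X.D.eV v)

theorem vec_frame {t : G} {R M : Subgroup G} (X : MData t R M) : IsFrame (vecGroup X) t X.D.eV := by
  have hV : ∀ v < 64, X.D.toM v = X.D.eV v := fun v hv => by
    rw [MGens.toM, show v % 64 = v by omega, show v / 64 = 0 by omega, MGens.sig_zero X.ok, mul_one]
  refine ⟨fun a _ b _ => MGens.eV_vadd X.ok.toVOk a b, fun a ha b hb e => ?_, fun x => ⟨fun hx => ?_, ?_⟩, ?_⟩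
  · rw [← hV a ha, ← hV b hb] at e
    exact X.inj a (by omega) b (by omega) e
  · induction hx using Subgroup.closure_induction with
    | mem y hy => obtain ⟨v, rfl⟩ := hy; exact ⟨v, v.2, rfl⟩
    | one => exact ⟨0, by norm_num, MGens.eV_zero X.ok.toVOk⟩
    | mul y z _ _ hy hz =>
      obtain ⟨a, ha, rfl⟩ := hy
      obtain ⟨b, hb, rfl⟩ := hz
      exact ⟨vadd a b, vadd_lt, MGens.eV_vadd X.ok.toVOk a b⟩
    | inv y _ hy =>
      obtain ⟨a, ha, rfl⟩ := hy
      have h := List.all_eq_true.mp vec_ops a (List.mem_range.mpr ha)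
      simp only [Bool.and_eq_true, Nat.blt_eq] at h
      exact ⟨vneg a, h.1.1.1, eq_inv_of_mul_eq_one_right (by
        rw [← MGens.eV_vadd X.ok.toVOk, Nat.eq_of_beq_eq_true h.1.1.2, MGens.eV_zero X.ok.toVOk])⟩
  · rintro ⟨v, hv, rfl⟩
    exact Subgroup.subset_closure ⟨⟨v, hv⟩, rfl⟩
  · rw [← hV _ small_lt.2.2.2]
    exact X.hTC

namespace MData

variable {t : G} {R M : Subgroup G} (X : MData t R M) (C : CentData t R)
include X C

theorem mem_cent {x : ℕ} (hx : x < 10752) (h : mulM x tC = mulM tC x) : X.D.toM x * t = t * X.D.toM x := by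
  have h2 : X.D.toM (mulM x 34) = X.D.toM (mulM 34 x) := congrArg _ h
  rw [MGens.toM_mul X.ok hx (by norm_num), MGens.toM_mul X.ok (by norm_num) hx, X.hTC] at h2
  exact h2

theorem sq_ok {x : ℕ} (hx : x < 10752) (h : X.D.toM x ∈ R) : sqOK x = true := by
  rcases C.sq _ h with e | e <;> rw [← MGens.toM_mul X.ok hx hx] at e
  · simp [sqOK, X.inj _ (mulM_lt hx hx) 0 (by norm_num) (e.trans (MGens.toM_zero X.ok).symm)]
  · simp [sqOK, X.inj _ (mulM_lt hx hx) tC (by norm_num [CfsgHSType.tC]) (e.trans X.hTC.symm)]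

/-- The classes met by the core. -/
theorem core_classes {x : ℕ} (hx : x < 10752) (h : X.D.toM x ∈ R) : x / 64 ∈ fourL := by
  classical
  have hf : IsFrame (vecGroup X) t X.D.eV := vec_frame X
  have hl : x / 64 < 168 := by omega
  have hact : ∀ y < 10752, Act X.D.eV (X.D.toM y) (y / 64) := fun y hy v hv => by
    rw [MGens.toM, ← MGens.sig_conj X.ok (by omega : y / 64 < 168) hv]
    calc X.D.eV (y % 64) * X.D.sig (y / 64) * X.D.eV v * (X.D.eV (y % 64) * X.D.sig (y / 64))⁻¹
        = X.D.eV (y % 64) * (X.D.sig (y / 64) * X.D.eV v * (X.D.sig (y / 64))⁻¹) * (X.D.eV (y % 64))⁻¹ := by group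
      _ = _ := by
        rw [MGens.sig_conj X.ok (by omega : y / 64 < 168) hv, (hf.comm (Nat.mod_lt _ (by norm_num)) actV_lt64).eq,
          mul_inv_cancel_right]
  have hst : ∀ y < 10752, X.D.toM y * t = t * X.D.toM y → actV (y / 64) tC = tC := fun y hy e => by
    refine hf.inj _ actV_lt64 _ small_lt.2.2.2 ?_
    rw [← hact y hy tC small_lt.2.2.2, hf.hT, e, mul_inv_cancel_right]
  have hno3 : ∀ y < 10752, X.D.toM y ∈ R → three (y / 64) = false := by
    intro y hy hyR
    by_contra hh
    rw [Bool.not_eq_false, three, Bool.and_eq_true, Bool.not_eq_true'] at hh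
    have h4 : lmul (lmul (lmul (y / 64) (y / 64)) (y / 64)) (y / 64) = 0 := by
      have h := X.sq_ok C hy hyR
      rw [sqOK, Bool.or_eq_true] at h
      have hq : (mulM y y) / 64 = lmul (y / 64) (y / 64) := code_class _ _
      have hq2 : lmul (y / 64) (y / 64) = 0 := by
        rcases h with h | h <;> rw [← hq, Nat.eq_of_beq_eq_true h] <;> rfl
      rw [hq2] at hh ⊢
      rw [zero_left hh.2 (by omega)] at hh
      simp at hh
    rw [Nat.eq_of_beq_eq_true hh.2, zero_lmul (by omega : y / 64 < 168)] at h4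
    rw [h4] at hh
    simp at hh
  have hs : x / 64 ∈ stabL := List.mem_filter.2 ⟨List.mem_range.2 hl, by
    rw [hst x hx (C.sub _ h), Nat.beq_refl]⟩
  have hc := List.all_eq_true.mp four_closure.1 _ hs
  rw [Bool.and_eq_true, Bool.or_eq_true, Bool.or_eq_true, hno3 x hx h, List.any_eq_true] at hc
  rcases hc.1 with (h1 | h1) | ⟨s, hs, h1⟩
  · simpa using h1
  · simp at h1
  exfalso
  rw [stabL, List.mem_filter, List.mem_range] at hs
  have hs64 : 64 * s < 10752 := by omega
  have hmt : X.D.toM (64 * s) * t = t * X.D.toM (64 * s) := by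
    have := hact (64 * s) hs64 tC small_lt.2.2.2
    rw [show 64 * s / 64 = s by omega, Nat.eq_of_beq_eq_true hs.2, hf.hT] at this
    exact mul_inv_eq_iff_eq_mul.1 this
  have hy := C.norm _ hmt _ h
  rw [← MGens.toM_cjM X.ok hs64 hx] at hy
  have hy2 := R.mul_mem h hy
  have hlt := mulM_lt (mulM_lt hs64 hx) (invM_lt hs64)
  rw [show cjM (64 * s) x = mulM (mulM (64 * s) x) (invM (64 * s)) from rfl, ← MGens.toM_mul X.ok hx hlt] at hy2
  have h3 := hno3 _ (mulM_lt hx hlt) hy2
  rw [code_class, code_class, code_class, inv_class, show 64 * s / 64 = s by omega, h1] at h3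
  simp at h3

theorem core_eq : ∃ S ∈ coreCand, ∀ x < 10752, X.D.toM x ∈ R ↔ x ∈ S := by
  classical
  have hV : ∀ v, v < 64 → X.D.toM v ∈ R → inRA v = true := fun v hv h => by
    have h2 := List.all_eq_true.mp core_lists.2.2.2.2 v (List.mem_range.mpr hv)
    rw [beq_iff_eq] at h2
    rw [h2]
    exact X.sq_ok C (by omega) h
  have hcode : ∀ r : ↥R, ∃ x < 10752, X.D.toM x = r := fun r => (X.range _).1 (X.le r.2)
  choose code hlt hcd using hcode
  have hcls : ∀ r : ↥R, code r / 64 ∈ fourL := fun r => X.core_classes C (hlt r) ((hcd r).symm ▸ r.2)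
  obtain ⟨base, hbase⟩ : ∃ base : ℕ → ℕ, ∀ l ∈ fourL, (∃ r : ↥R, code r / 64 = l) →
      base l < 10752 ∧ base l / 64 = l ∧ X.D.toM (base l) ∈ R := by
    refine ⟨fun l => if h : ∃ r : ↥R, code r / 64 = l then code h.choose else 0, fun l _ h => ?_⟩
    simp only [dif_pos h]
    exact ⟨hlt _, h.choose_spec, (hcd _).symm ▸ h.choose.2⟩
  have hvec : ∀ r : ↥R, ∃ v < 64, inRA v = true ∧ code r = mulM v (base (code r / 64)) := by
    intro r
    obtain ⟨h1, h2, h3⟩ := hbase _ (hcls r) ⟨r, rfl⟩
    have hq := mulM_lt (hlt r) (invM_lt h1)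
    have hm : mulM (code r) (invM (base (code r / 64))) / 64 = 0 := by
      rw [code_class, inv_class, h2, lmul_linv (by have := hlt r; omega)]
    refine ⟨mulM (code r) (invM (base (code r / 64))), by omega, hV _ (by omega) ?_, ?_⟩
    · rw [MGens.toM_mul X.ok (hlt r) (invM_lt h1), MGens.toM_invM X.ok h1, hcd r]
      exact R.mul_mem r.2 (R.inv_mem h3)
    · refine X.inj _ (hlt r) _ (mulM_lt hq h1) ?_
      rw [MGens.toM_mul X.ok hq h1, MGens.toM_mul X.ok (hlt r) (invM_lt h1), MGens.toM_invM X.ok h1]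
      group
  choose vec hvlt hvra hvec using hvec
  let F : ↥R → {v : Fin 64 // inRA v = true} × {l : Fin 168 // (l : ℕ) ∈ fourL} := fun r =>
    (⟨⟨vec r, hvlt r⟩, hvra r⟩, ⟨⟨code r / 64, by have := hlt r; omega⟩, hcls r⟩)
  have hinj : Function.Injective F := by
    intro a b e
    simp only [F, Prod.mk.injEq, Subtype.mk.injEq, Fin.mk.injEq] at e
    have h1 := hvec a
    rw [e.1, e.2, ← hvec b] at h1
    exact Subtype.ext (by rw [← hcd a, ← hcd b, h1])
  have hsur : Function.Surjective F := (hinj.bijective_of_nat_card_le (by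
    rw [C.card, Nat.card_eq_fintype_card, Fintype.card_prod, count_ra, count_four])).2
  have hexl : ∀ l ∈ fourL, ∃ r : ↥R, code r / 64 = l := fun l hl => by
    obtain ⟨r, hr⟩ := hsur (⟨0, by decide +kernel⟩, ⟨⟨l, four_lt l hl⟩, hl⟩)
    exact ⟨r, by simpa [F] using congrArg (fun p => ((p.2.1 : Fin 168) : ℕ)) hr⟩
  have hRA : ∀ v < 64, inRA v = true → X.D.toM v ∈ R := by
    intro v hv hra
    obtain ⟨h1, h2, h3⟩ := hbase lA lA_four (hexl lA lA_four)
    obtain ⟨r, hr⟩ := hsur (⟨⟨v, hv⟩, hra⟩, ⟨⟨lA, four_lt _ lA_four⟩, lA_four⟩)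
    have e1 : vec r = v := by simpa [F] using congrArg (fun p => ((p.1.1 : Fin 64) : ℕ)) hr
    have e2 : code r / 64 = lA := by simpa [F] using congrArg (fun p => ((p.2.1 : Fin 168) : ℕ)) hr
    have e := hcd r
    rw [hvec r, e1, e2, MGens.toM_mul X.ok (by omega) h1] at e
    rw [eq_mul_inv_of_mul_eq e]
    exact R.mul_mem r.2 (R.inv_mem h3)
  obtain ⟨hg, hgl, hgR⟩ := hbase lA lA_four (hexl lA lA_four)
  obtain ⟨g', hg'⟩ : ∃ g', g' = base lA := ⟨_, rfl⟩
  rw [← hg'] at hg hgl hgR
  have hu : g' = g' % 64 + 64 * lA := by omega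
  have hok := List.all_eq_true.mp core_forced (g' % 64) (List.mem_range.mpr (Nat.mod_lt _ (by norm_num)))
  rw [← hu, X.sq_ok C hg hgR] at hok
  simp only [Bool.not_true, Bool.false_or, List.any_eq_true, List.all_eq_true, List.contains_iff_mem] at hok
  obtain ⟨S, hS, hok⟩ := hok
  obtain ⟨hl, -, hpC, hpt, -⟩ := core_lists
  have hl1 := List.all_eq_true.mp hl S hS
  simp only [Bool.and_eq_true, decide_eq_true_eq, List.all_eq_true, Nat.blt_eq] at hl1
  obtain ⟨⟨hlen, hnd⟩, hSlt⟩ := hl1
  have hhR : X.D.toM (cjM pC g') ∈ R := by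
    rw [MGens.toM_cjM X.ok hpC hg]
    exact C.norm _ (X.mem_cent C hpC hpt) _ hgR
  have hhlt : cjM pC g' < 10752 := mulM_lt (mulM_lt hpC hg) (invM_lt hpC)
  have hmem : ∀ x ∈ S, X.D.toM x ∈ R := by
    intro x hx
    have h := hok x hx
    simp only [coreOf, CfsgAutL34.Enum.force_eq, List.mem_flatMap, List.mem_filter, List.mem_range, List.mem_cons,
      List.not_mem_nil, or_false] at h
    obtain ⟨v, ⟨hv, hra⟩, rfl | rfl | rfl | rfl⟩ := h
    · exact hRA _ hv hra
    · rw [MGens.toM_mul X.ok (by omega) hg]; exact R.mul_mem (hRA _ hv hra) hgR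
    · rw [MGens.toM_mul X.ok (by omega) hhlt]; exact R.mul_mem (hRA _ hv hra) hhR
    · rw [MGens.toM_mul X.ok (by omega) (mulM_lt hg hhlt), MGens.toM_mul X.ok hg hhlt]
      exact R.mul_mem (hRA _ hv hra) (R.mul_mem hgR hhR)
  refine ⟨S, hS, fun x hx => ⟨fun h => ?_, hmem x⟩⟩
  have hset : X.D.toM '' (S.toFinset : Set ℕ) = (R : Set G) := by
    refine Set.eq_of_subset_of_ncard_le ?_ ?_
    · rintro _ ⟨y, hy, rfl⟩
      exact hmem y (by simpa using hy)
    · rw [Set.InjOn.ncard_image, ← Nat.card_coe_set_eq, Set.ncard_coe_finset, List.toFinset_card_of_nodup hnd,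
        Nat.eq_of_beq_eq_true hlen]
      · exact le_of_eq C.card
      · intro a ha b hb e
        exact X.inj a (hSlt a (by simpa using ha)) b (hSlt b (by simpa using hb)) e
  obtain ⟨y, hy, e⟩ : X.D.toM x ∈ X.D.toM '' (S.toFinset : Set ℕ) := hset ▸ h
  have hy' : y ∈ S := by simpa using hy
  exact X.inj y (hSlt y hy') x hx e ▸ hy'

end MData

end CfsgHSType
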