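import Cfsg.Agent.Lib.HSType.Frame

/-!
The normaliser of the elementary subgroup of order eight is the split extension of (Z/4)³ by L₃(2).
-/

set_option autoImplicit false

namespace CfsgHSType

open Cfsg CfsgAutL34.Enum

attribute [local irreducible] actV lmul linv lstep

variable {G : Type*} [Group G]

/-- A numbered abelian subgroup in the normaliser. -/
structure MFrame (t : G) (M A : Subgroup G) (f : ℕ → G) : Prop where
  frame : IsFrame A t f
  le : A ≤ M
  ker : ∀ m ∈ M, Par f m 0 → m ∈ A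
  img : ∀ m ∈ M, ∀ v < 64, ∃ w < 64, m * f v * m⁻¹ = f w

namespace MFrame

variable {t : G} {M A : Subgroup G} {f : ℕ → G} (F : MFrame t M A f)
include F

theorem change {s : ℕ} (hs : s < 512) : MFrame t M A (fun v => f (appM (kerT s) v)) := by
  obtain ⟨hf, hle, hker, himg⟩ := F
  have hf' := hf.change hs
  refine ⟨hf', hle, fun m hm hp => hker m hm fun v hv => ?_, fun m hm v hv => ?_⟩
  · obtain ⟨w, hw, e⟩ := (hf'.mem _).1 (hf.mem' hv)
    change f (appM (kerT s) w) = f v at e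
    have h0 : m * (f (appM (kerT s) w) * f (appM (kerT s) w)) * m⁻¹ =
        f (appM (kerT s) (actV 0 w)) * f (appM (kerT s) (actV 0 w)) := hp w hw
    have h1 := List.all_eq_true.mp tab_inv.2 v (List.mem_range.mpr hv)
    have h2 := List.all_eq_true.mp tab_inv.2 w (List.mem_range.mpr hw)
    rw [Nat.eq_of_beq_eq_true h2, e] at h0
    rw [Nat.eq_of_beq_eq_true h1]
    exact h0
  · obtain ⟨w, hw, e⟩ := himg m hm (appM (kerT s) v) appM_lt
    obtain ⟨u, hu, eu⟩ := (hf'.mem _).1 (hf.mem' hw)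
    change f (appM (kerT s) u) = f w at eu
    exact ⟨u, hu, e.trans eu.symm⟩

theorem exists_matrix {m : G} (hm : m ∈ M) :
    ∃ X : ℕ × ℕ × ℕ, X.1 < 64 ∧ X.2.1 < 64 ∧ X.2.2 < 64 ∧ (∀ v < 64, m * f v * m⁻¹ = f (appM X v)) ∧
      ∃ l < 168, (par2 X.1, par2 X.2.1, par2 X.2.2) = parL l ∧ Par f m l := by
  obtain ⟨w1, h1, e1⟩ := F.img m hm 1 small_lt.1
  obtain ⟨w2, h2, e2⟩ := F.img m hm 4 small_lt.2.1
  obtain ⟨w3, h3, e3⟩ := F.img m hm 16 small_lt.2.2.1
  have hX : ∀ v < 64, m * f v * m⁻¹ = f (appM (w1, w2, w3) v) := fun v hv => F.frame.conj_ext h1 h2 h3 e1 e2 e3 hv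
  refine ⟨(w1, w2, w3), h1, h2, h3, hX, ?_⟩
  have hb : ∀ w < 64, par2 w < 8 := fun w hw => by
    have := List.all_eq_true.mp par_half w (List.mem_range.mpr hw)
    simp only [Bool.and_eq_true, Nat.blt_eq] at this
    exact this.1.2
  obtain ⟨p, hp⟩ : ∃ p, p = par2 w1 + 8 * par2 w2 + 64 * par2 w3 := ⟨_, rfl⟩
  have hp512 : p < 512 := by have := hb w1 h1; have := hb w2 h2; have := hb w3 h3; omega
  have hd : p % 8 = par2 w1 ∧ p / 8 % 8 = par2 w2 ∧ p / 64 = par2 w3 := by
    have := hb w1 h1; have := hb w2 h2; have := hb w3 h3; omega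
  have hcov := List.all_eq_true.mp inv_cover p (List.mem_range.mpr hp512)
  rw [hd.1, hd.2.1, hd.2.2, Bool.or_eq_true] at hcov
  rcases hcov with h | h
  · exfalso
    rw [List.any_eq_true] at h
    obtain ⟨a, ha, h⟩ := h
    rw [Bool.and_eq_true, Bool.not_eq_true'] at h
    have ha8 := List.mem_range.mp ha
    have hlt : ∀ q r, lift2 q r < 64 := fun q r => by unfold lift2; omega
    have hsq : ∀ a b, a < 64 → b < 64 → par2 a = par2 b → f a * f a = f b * f b := fun a b ha hb he => by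
      have ha' := List.all_eq_true.mp par_double a (List.mem_range.mpr ha)
      have hb' := List.all_eq_true.mp par_double b (List.mem_range.mpr hb)
      rw [Bool.and_eq_true] at ha' hb'
      rw [← F.frame.add a ha a ha, ← F.frame.add b hb b hb, Nat.eq_of_beq_eq_true ha'.1, Nat.eq_of_beq_eq_true hb'.1, he]
    have hz : ∀ b < 64, par2 b = 0 → f b * f b = 1 := fun b hb e => by
      rw [hsq b 0 hb (by norm_num) (e.trans (by decide)), F.frame.zero, one_mul]
    have hA := hz _ appM_lt (Nat.eq_of_beq_eq_true h.2)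
    have hc : ∀ i < 64, ∀ j < 64, Commute (f i) (f j) := fun i hi j hj => F.frame.comm hi hj
    have key : ∀ {i j k : ℕ}, i < 64 → j < 64 → k < 64 → ∀ v,
        f (appM (i, j, k) v) * f (appM (i, j, k) v) =
          (f i * f i) ^ (v % 4) * (f j * f j) ^ (v / 4 % 4) * (f k * f k) ^ (v / 16 % 4) := by
      intro i j k hi hj hk v
      rw [← F.frame.add _ appM_lt _ appM_lt]
      have hl : ∀ a b, a < 64 → b < 64 → f (vadd a b) = f a * f b := fun a b ha hb => F.frame.add a ha b hb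
      rw [hl _ _ appM_lt appM_lt, F.frame.app hi hj hk]
      rw [(hc i hi i hi).mul_pow, (hc j hj j hj).mul_pow, (hc k hk k hk).mul_pow]
      have q1 : Commute (f j ^ (v / 4 % 4) * f k ^ (v / 16 % 4)) (f i ^ (v % 4)) :=
        ((hc j hj i hi).pow_pow _ _).mul_left ((hc k hk i hi).pow_pow _ _)
      have q2 : Commute (f k ^ (v / 16 % 4)) (f j ^ (v / 4 % 4)) := (hc k hk j hj).pow_pow _ _
      generalize f i ^ (v % 4) = P at q1 ⊢
      generalize f j ^ (v / 4 % 4) = Q at q1 q2 ⊢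
      generalize f k ^ (v / 16 % 4) = R at q1 q2 ⊢
      calc P * Q * R * (P * Q * R) = P * ((Q * R) * P) * Q * R := by group
        _ = P * (P * (Q * R)) * Q * R := by rw [q1.eq]
        _ = P * P * Q * (R * Q) * R := by group
        _ = P * P * Q * (Q * R) * R := by rw [q2.eq]
        _ = _ := by group
    have hpl : ∀ w < 64, par2 w = par2 (lift2 (par2 w) 0) := fun w hw =>
      (Nat.eq_of_beq_eq_true (List.all_eq_true.mp par_lift _ (List.mem_range.mpr (hb w hw)))).symm
    have e0 : f (appM (w1, w2, w3) (lift2 a 0)) * f (appM (w1, w2, w3) (lift2 a 0)) = 1 := by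
      rw [key h1 h2 h3, hsq w1 (lift2 (par2 w1) 0) h1 (hlt _ _) (hpl w1 h1), hsq w2 (lift2 (par2 w2) 0) h2 (hlt _ _) (hpl w2 h2),
        hsq w3 (lift2 (par2 w3) 0) h3 (hlt _ _) (hpl w3 h3), ← key (hlt _ _) (hlt _ _) (hlt _ _), hA]
    rw [← hX _ (hlt _ _), show m * f (lift2 a 0) * m⁻¹ * (m * f (lift2 a 0) * m⁻¹) =
      m * (f (lift2 a 0) * f (lift2 a 0)) * m⁻¹ by group, conj_eq_one_iff, ← F.frame.add _ (hlt _ _) _ (hlt _ _),
      ← F.frame.zero] at e0
    have e1 := F.frame.inj _ vadd_lt 0 (by norm_num) e0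
    have := List.all_eq_true.mp lift_surj.2 (lift2 a 0) (List.mem_range.mpr (hlt _ _))
    rw [e1, Nat.beq_refl, beq_iff_eq] at this
    have hpa : par2 (lift2 a 0) = a := Nat.eq_of_beq_eq_true (List.all_eq_true.mp par_lift _ (List.mem_range.mpr ha8))
    rw [hpa] at this
    have hne := h.1
    rw [Nat.eq_of_beq_eq_true this] at hne
    simp at hne
  · rw [List.any_eq_true] at h
    obtain ⟨l, hl, h⟩ := h
    rw [beq_iff_eq] at h
    have hl' := List.mem_range.mp hl
    exact ⟨l, hl', h.symm, F.frame.par_units h1 h2 h3 hX hl' h.symm⟩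

theorem mem_act {x : G} (hx : x ∈ A) : Act f x 0 := by
  obtain ⟨v, hv, rfl⟩ := (F.frame.mem x).1 hx
  intro w hw
  have := List.all_eq_true.mp tab_inv.2 w (List.mem_range.mpr hw)
  rw [Nat.eq_of_beq_eq_true this, (F.frame.comm hv hw).eq, mul_inv_cancel_right]

theorem exists_lift [Finite G] (hM : Nat.card M = 10752) {l : ℕ} (hl : l < 168) : ∃ m ∈ M, Par f m l := by
  classical
  by_contra hno
  push Not at hno
  have hcl : ∀ m : ↥M, ∃ k < 168, Par f (m : G) k := fun m => by
    obtain ⟨X, -, -, -, -, k, hk, -, h⟩ := F.exists_matrix m.2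
    exact ⟨k, hk, h⟩
  choose k hk hpar using hcl
  let pick : ℕ → G := fun i => if h : ∃ m ∈ M, Par f m i then h.choose else 1
  have hcode : ∀ m : ↥M, ∃ v < 64, f v = (pick (k m))⁻¹ * m := by
    intro m
    have hex : ∃ n ∈ M, Par f n (k m) := ⟨m, m.2, hpar m⟩
    have hp : pick (k m) = hex.choose := dif_pos hex
    obtain ⟨hnM, hnP⟩ := hex.choose_spec
    refine (F.frame.mem _).1 (F.ker _ (M.mul_mem (M.inv_mem (hp ▸ hnM)) m.2) fun v hv => ?_)
    have h1 := hpar m v hv
    have h2 := hnP v hv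
    rw [← hp] at h2
    rw [← h1] at h2
    rw [Nat.eq_of_beq_eq_true (List.all_eq_true.mp tab_inv.2 v (List.mem_range.mpr hv))]
    calc (pick (k m))⁻¹ * ↑m * (f v * f v) * ((pick (k m))⁻¹ * ↑m)⁻¹
        = (pick (k m))⁻¹ * (↑m * (f v * f v) * (↑m)⁻¹) * pick (k m) := by group
      _ = _ := by rw [← h2]; group
  choose v hv hfv using hcode
  let F' : ↥M → {i : Fin 168 // (i : ℕ) ≠ l} × Fin 64 := fun m =>
    (⟨⟨k m, hk m⟩, fun e => hno m m.2 (e ▸ hpar m)⟩, ⟨v m, hv m⟩)
  have hinj : Function.Injective F' := by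
    intro a b e
    simp only [F', Prod.mk.injEq, Subtype.mk.injEq, Fin.mk.injEq] at e
    have h1 := hfv a
    rw [e.2, hfv b, e.1] at h1
    exact Subtype.ext (mul_left_cancel h1).symm
  have := Nat.card_le_card_of_injective F' hinj
  have h167 : Nat.card {i : Fin 168 // (i : ℕ) ≠ l} = 167 := by
    rw [Nat.card_eq_fintype_card,
      Fintype.card_subtype_compl (fun i : Fin 168 => (i : ℕ) = l), Fintype.card_fin]
    rw [show Fintype.card {i : Fin 168 // (i : ℕ) = l} = 1 from Fintype.card_eq_one_iff.2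
      ⟨⟨⟨l, hl⟩, rfl⟩, fun i => Subtype.ext (Fin.ext i.2)⟩]
  rw [hM, Nat.card_prod, h167, Nat.card_fin] at this
  norm_num at this

theorem lmul_lt {a b : ℕ} (ha : a < 168) (hb : b < 168) : lmul a b < 168 := by
  have h1 := List.all_eq_true.mp tab_word a (List.mem_range.mpr ha)
  simp only [Bool.and_eq_true, List.all_eq_true, Nat.blt_eq, List.mem_range] at h1
  exact (h1.2 b hb).2

/-- The class of a word in two elements acting by the generators. -/
theorem act_word {a b : G} (ha : Act f a lA) (hb : Act f b lB) (hai : Act f a⁻¹ lA) (hbi : Act f b⁻¹ lBi)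
    (w : List ℕ) (hw : ∀ x ∈ w, x < 4) : lW w < 168 ∧ Act f (evW [a, b] w) (lW w) := by
  obtain ⟨-, -, -, hw1, hw0, hw2, hw3, -, -, -, hA, hB, hBi, -⟩ := word_classes
  have hone : ∀ x < 4, lW [x] < 168 ∧ Act f (letG [a, b] x) (lW [x]) := fun x hx => by
    interval_cases x
    · rw [hw0]; exact ⟨hA, by simpa [letG] using ha⟩
    · rw [hw1]; exact ⟨hA, by simpa [letG] using hai⟩
    · rw [hw2]; exact ⟨hB, by simpa [letG] using hb⟩
    · rw [hw3]; exact ⟨hBi, by simpa [letG] using hbi⟩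
  have hrun : ∀ (x : ℕ), x < 4 → ∀ d < 168, lstep d x = lmul d (lW [x]) := by
    intro x hx d hd
    have := List.all_eq_true.mp (List.all_eq_true.mp step_mul d (List.mem_range.mpr hd)) x (List.mem_range.mpr hx)
    exact Nat.eq_of_beq_eq_true this
  suffices h : ∀ w : List ℕ, (∀ x ∈ w, x < 4) → ∀ d < 168, ∀ g : G, Act f g d →
      lrun d w < 168 ∧ Act f (g * evW [a, b] w) (lrun d w) by
    have := h w hw 0 (by norm_num) 1 F.frame.act_one
    rw [one_mul] at this
    exact this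
  intro w
  induction w with
  | nil => intro _ d hd g hg; simpa [lrun, evW_nil] using ⟨hd, hg⟩
  | cons x w ih =>
    intro hw d hd g hg
    obtain ⟨hl, hact⟩ := hone x (hw x List.mem_cons_self)
    rw [lrun, evW_cons, ← mul_assoc]
    rw [hrun x (hw x List.mem_cons_self) d hd]
    exact ih (fun y hy => hw y (List.mem_cons_of_mem _ hy)) _ (F.lmul_lt hd hl) _
      (F.frame.act_mul hd hl hg hact)

end MFrame

end CfsgHSType
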